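import Mathlib
import Cfsg.Prelude.Def_Transfer
import Cfsg.Prelude.Def_Solvable

/-!
# S4415 design (helper12): shared definitions

Local setting for Thompson's lemma on a solvable group acting on an `F_3`-module with an element
`b` of order 3 having one cubic Jordan block: `R = [O_{3'}(S), b]`, `Q ≤ R` a four-group on which
`b` acts non-trivially.  See `plans/S4415_plan.md`.
-/

set_option autoImplicit false

namespace Cfsg.Agent.Helper12.S15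

universe u v

variable {S : Type u} [Group S] {E : Type v} [AddCommGroup E] [Module (ZMod 3) E]

/-- the fixed space `C_E(T)` of a subgroup `T` -/
def fixS (ρ : Representation (ZMod 3) S E) (T : Subgroup S) : Submodule (ZMod 3) E where
  carrier := {v | ∀ t ∈ T, ρ t v = v}
  add_mem' := by
    intro a c ha hc t ht
    rw [map_add, ha t ht, hc t ht]
  zero_mem' := by
    intro t _
    exact map_zero _
  smul_mem' := by
    intro c a ha t ht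
    rw [map_smul, ha t ht]

theorem mem_fixS (ρ : Representation (ZMod 3) S E) (T : Subgroup S) (v : E) :
    v ∈ fixS ρ T ↔ ∀ t ∈ T, ρ t v = v := Iff.rfl

/-- the commutator space `[E,T]` of a subgroup `T` -/
def comS (ρ : Representation (ZMod 3) S E) (T : Subgroup S) : Submodule (ZMod 3) E :=
  Submodule.span (ZMod 3) {w | ∃ t ∈ T, ∃ v : E, w = ρ t v - v}

theorem sub_mem_comS (ρ : Representation (ZMod 3) S E) (T : Subgroup S) {t : S} (ht : t ∈ T)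
    (v : E) : ρ t v - v ∈ comS ρ T :=
  Submodule.subset_span ⟨t, ht, v, rfl⟩

/-- The local setting: `b` of order 3 with `rank (b-1) = 2`, `(b-1)^2 ≠ 0`; `R` a solvable
`3'`-group normalised by `b`, generated by the elements `r⁻¹ r^b`, faithful together with `b`;
`Q ≤ R` a four-group normalised, not centralised, by `b`. -/
structure Setting (ρ : Representation (ZMod 3) S E) (b : S) (R Q : Subgroup S) : Prop where
  faith : ∀ x ∈ R ⊔ Subgroup.zpowers b, ρ x = 1 → x = 1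
  b3 : b ^ 3 = 1
  rk : Nat.card ↥(LinearMap.range (ρ b - 1)) = 9
  sq : ∃ v : E, (ρ b - 1) ((ρ b - 1) v) ≠ 0
  cop : (Nat.card ↥R).Coprime 3
  solv : Group.IsSolvable ↥R
  bR : ∀ r ∈ R, b * r * b⁻¹ ∈ R
  gen : ∀ M : Subgroup S, (∀ r ∈ R, r⁻¹ * (b * r * b⁻¹) ∈ M) → R ≤ M
  QR : Q ≤ R
  Q4 : Nat.card ↥Q = 4
  Q2 : ∀ q ∈ Q, q ^ 2 = 1
  bQ : ∀ q ∈ Q, b * q * b⁻¹ ∈ Q
  bQ' : ∃ q ∈ Q, b * q * b⁻¹ ≠ q

/-- The reduced setting: moreover `E` is irreducible under `R ⊔ ⟨b⟩`. -/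
structure RSetting (ρ : Representation (ZMod 3) S E) (b : S) (R Q : Subgroup S) : Prop
    extends Setting ρ b R Q where
  irr : ∀ N : Submodule (ZMod 3) E,
    (∀ x ∈ R ⊔ Subgroup.zpowers b, ∀ v ∈ N, ρ x v ∈ N) → N = ⊥ ∨ N = ⊤

/-- the group-theoretic half of the conclusion of S4415 -/
def RConcl (R : Subgroup S) : Prop :=
  (Cfsg.IsElementaryAbelian 2 R ∧ Nat.card ↥R = 4) ∨
    (Cfsg.IsExtraspecial 2 ↥R ∧ Nat.card ↥R = 32 ∧
      ∃ A : Subgroup S, A ≤ R ∧ Cfsg.IsElementaryAbelian 2 A ∧ Nat.card ↥A = 8)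

/-- the module half of the conclusion of S4415 -/
def MConcl (ρ : Representation (ZMod 3) S E) (R B : Subgroup S) : Prop :=
  ∃ F₀ F₁ : Submodule (ZMod 3) E, F₀ ⊓ F₁ = ⊥ ∧ F₀ ⊔ F₁ = ⊤ ∧
    (∀ r ∈ R, ∀ v ∈ F₁, ρ r v = v) ∧ (∀ r ∈ R ⊔ B, ∀ v ∈ F₀, ρ r v ∈ F₀) ∧
    (∀ r ∈ R ⊔ B, (∀ v ∈ F₀, ρ r v = v) → r = 1) ∧
    (∀ N : Submodule (ZMod 3) E, N ≤ F₀ → (∀ r ∈ R ⊔ B, ∀ v ∈ N, ρ r v ∈ N) → N = ⊥ ∨ N = F₀)

/-- restriction of a representation to a subgroup `X` and an `X`-invariant submodule `V` -/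
def resRep (ρ : Representation (ZMod 3) S E) (X : Subgroup S) (V : Submodule (ZMod 3) E)
    (hV : ∀ x ∈ X, ∀ v ∈ V, ρ x v ∈ V) : Representation (ZMod 3) ↥X ↥V where
  toFun x := (ρ (x : S)).restrict (fun v hv => hV x x.2 v hv)
  map_one' := by
    ext v
    simp
  map_mul' := by
    intro x y
    ext v
    simp

theorem resRep_apply (ρ : Representation (ZMod 3) S E) (X : Subgroup S) (V : Submodule (ZMod 3) E)
    (hV : ∀ x ∈ X, ∀ v ∈ V, ρ x v ∈ V) (x : ↥X) (v : ↥V) :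
    ((resRep ρ X V hV x v : ↥V) : E) = ρ (x : S) (v : E) := rfl

/-- a frame adapted to the four-group `Q`: its three involutions cycled by `b`, and spanning
vectors `e₁, e₂, e₃` of the three non-trivial weight lines, cycled by `b` -/
structure QFrame (ρ : Representation (ZMod 3) S E) (b : S) (Q : Subgroup S) (q₁ q₂ q₃ : S)
    (e₁ e₂ e₃ : E) : Prop where
  q₁Q : q₁ ∈ Q
  q₂Q : q₂ ∈ Q
  q₃Q : q₃ ∈ Q
  Qmem : ∀ q ∈ Q, q = 1 ∨ q = q₁ ∨ q = q₂ ∨ q = q₃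
  q₁1 : q₁ ≠ 1
  q12 : q₁ * q₂ = q₃
  q21 : q₂ * q₁ = q₃
  bq₁ : b * q₁ * b⁻¹ = q₂
  bq₂ : b * q₂ * b⁻¹ = q₃
  bq₃ : b * q₃ * b⁻¹ = q₁
  be₁ : ρ b e₁ = e₂
  be₂ : ρ b e₂ = e₃
  be₃ : ρ b e₃ = e₁
  e₁0 : e₁ ≠ 0
  q₁e₁ : ρ q₁ e₁ = e₁
  q₂e₁ : ρ q₂ e₁ = -e₁
  line : ∀ v : E, ρ q₁ v = v → ρ q₂ v = -v → ∃ c : ZMod 3, v = c • e₁

/-- `A` is normalised by `X = R ⊔ ⟨b⟩` -/
def XNormal (b : S) (R A : Subgroup S) : Prop :=
  ∀ x ∈ R ⊔ Subgroup.zpowers b, ∀ a ∈ A, x * a * x⁻¹ ∈ A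

end Cfsg.Agent.Helper12.S15
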