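import Mathlib
import Cfsg.Agent.Lib.S15.S15Defs
import Cfsg.Agent.Lib.Helper1.Coprime

/-! S4415 (design helper12), block E (designer helper16), piece EFUS.
See plans/S4415_plan.md (section E) and plans/S4415_blockE.md. -/

set_option autoImplicit false
set_option linter.unusedSectionVars false

namespace Cfsg.Agent.Helper12.S15

variable {S : Type*} [Group S] [Finite S] {E : Type*} [AddCommGroup E] [Module (ZMod 3) E]
  [Finite E]

/-- `b` has order 3 in a `Setting` -/
theorem efus_orderOf_b (ρ : Representation (ZMod 3) S E) (b : S) (R Q : Subgroup S)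
    (h : Setting ρ b R Q) : orderOf b = 3 := by
  have h1 : orderOf b ∣ 3 := orderOf_dvd_of_pow_eq_one h.b3
  have h2 : b ≠ 1 := by
    rintro rfl
    obtain ⟨q, _, hq⟩ := h.bQ'
    apply hq
    group
  have h3 : orderOf b ≠ 1 := by
    rw [Ne, orderOf_eq_one_iff]
    exact h2
  rcases (Nat.dvd_prime Nat.prime_three).mp h1 with h4 | h4
  · exact absurd h4 h3
  · exact h4

/-- the elements of `⟨b⟩` -/
theorem efus_mem_zpowers (ρ : Representation (ZMod 3) S E) (b : S) (R Q : Subgroup S)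
    (h : Setting ρ b R Q) (a : S) (ha : a ∈ Subgroup.zpowers b) : a = 1 ∨ a = b ∨ a = b * b := by
  obtain ⟨k, rfl⟩ := Subgroup.mem_zpowers_iff.mp ha
  have h3 := efus_orderOf_b ρ b R Q h
  have h1 : b ^ (k % 3) = b ^ k := by
    have := zpow_mod_orderOf b k
    rw [h3] at this
    exact_mod_cast this
  have h2 : 0 ≤ k % 3 := Int.emod_nonneg k (by norm_num)
  have h4 : k % 3 < 3 := Int.emod_lt_of_pos k (by norm_num)
  rw [← h1]
  have : k % 3 = 0 ∨ k % 3 = 1 ∨ k % 3 = 2 := by omega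
  rcases this with h5 | h5 | h5
  · left; rw [h5, zpow_zero]
  · right; left; rw [h5, zpow_one]
  · right; right; rw [h5]; exact zpow_two b

/-- Fusion of `b`-fixed vectors is controlled by `C_T(b)` (`T ≤ R` any `b`-invariant subgroup).
Proof: `Cfsg.Agent.Helper1.exists_centralizer_mem_coset` (Lib/Helper1/Coprime.lean) with
`D = {t ∈ T | ρ t w = w}`, `A = zpowers b` (order 3, prime to `|D|` by `Setting.cop`), `x = r`. -/
theorem e_fus (ρ : Representation (ZMod 3) S E) (b : S) (R Q : Subgroup S) (h : Setting ρ b R Q)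
    (T : Subgroup S) (hTR : T ≤ R) (hbT : ∀ t ∈ T, b * t * b⁻¹ ∈ T) (w w' : E) (hw : ρ b w = w)
    (hw' : ρ b w' = w') (r : S) (hr : r ∈ T) (hrw : ρ r w = w') :
    ∃ c ∈ T, b * c * b⁻¹ = c ∧ ρ c w = w' := by
  classical
  have hmul : ∀ (x y : S) (v : E), ρ (x * y) v = ρ x (ρ y v) := by
    intro x y v
    rw [map_mul, Module.End.mul_apply]
  have hinvfix : ∀ (x : S) (v : E), ρ x v = v → ρ x⁻¹ v = v := by
    intro x v hxv
    have : ρ x⁻¹ (ρ x v) = v := by
      rw [← hmul, inv_mul_cancel, map_one, Module.End.one_apply]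
    rwa [hxv] at this
  let D : Subgroup S :=
    { carrier := {t | t ∈ T ∧ ρ t w = w}
      mul_mem' := by
        rintro x y ⟨hx, hxw⟩ ⟨hy, hyw⟩
        exact ⟨T.mul_mem hx hy, by rw [hmul, hyw, hxw]⟩
      one_mem' := ⟨T.one_mem, by simp⟩
      inv_mem' := by
        rintro x ⟨hx, hxw⟩
        exact ⟨T.inv_mem hx, hinvfix x w hxw⟩ }
  have hDmem : ∀ t, t ∈ D ↔ t ∈ T ∧ ρ t w = w := fun t => Iff.rfl
  have hDT : D ≤ T := fun t ht => ht.1
  have hbinv : b * b = b⁻¹ := by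
    have : b * b * b = 1 := by rw [← h.b3, pow_succ, pow_two]
    exact (inv_eq_of_mul_eq_one_left this).symm
  have hbT' : ∀ t ∈ T, b⁻¹ * t * b ∈ T := by
    intro t ht
    have : b⁻¹ * t * b = b * (b * t * b⁻¹) * b⁻¹ := by
      calc b⁻¹ * t * b = (b * b) * t * (b * b)⁻¹ := by rw [hbinv, inv_inv]
        _ = b * (b * t * b⁻¹) * b⁻¹ := by group
    rw [this]
    exact hbT _ (hbT t ht)
  have hw2 : ρ b⁻¹ w = w := hinvfix b w hw
  have hw2' : ρ b⁻¹ w' = w' := hinvfix b w' hw'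
  -- every a ∈ ⟨b⟩ normalises T and fixes w, w'
  have hA : ∀ a ∈ Subgroup.zpowers b,
      (∀ t ∈ T, a * t * a⁻¹ ∈ T) ∧ (∀ t ∈ T, a⁻¹ * t * a ∈ T) ∧ ρ a w = w ∧ ρ a w' = w' := by
    intro a ha
    rcases efus_mem_zpowers ρ b R Q h a ha with rfl | rfl | rfl
    · refine ⟨fun t ht => by simpa using ht, fun t ht => by simpa using ht, by simp, by simp⟩
    · exact ⟨hbT, hbT', hw, hw'⟩
    · refine ⟨fun t ht => ?_, fun t ht => ?_, ?_, ?_⟩
      · have : b * b * t * (b * b)⁻¹ = b * (b * t * b⁻¹) * b⁻¹ := by group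
        rw [this]
        exact hbT _ (hbT t ht)
      · have : (b * b)⁻¹ * t * (b * b) = b⁻¹ * (b⁻¹ * t * b) * b := by group
        rw [this]
        exact hbT' _ (hbT' t ht)
      · rw [hmul, hw, hw]
      · rw [hmul, hw', hw']
  have hnorm : Subgroup.zpowers b ≤ Subgroup.normalizer (D : Set S) := by
    intro a ha
    obtain ⟨h1, h2, h3, h4⟩ := hA a ha
    rw [Subgroup.mem_normalizer_iff]
    intro t
    constructor
    · rintro ⟨ht, htw⟩
      refine ⟨h1 t ht, ?_⟩
      rw [hmul, hmul, hinvfix a w h3, htw, h3]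
    · rintro ⟨ht, htw⟩
      have e : t = a⁻¹ * (a * t * a⁻¹) * a := by group
      refine ⟨?_, ?_⟩
      · rw [e]; exact h2 _ ht
      · rw [e, hmul, hmul, h3, htw, hinvfix a w h3]
  have hcop : (Nat.card ↥(Subgroup.zpowers b)).Coprime (Nat.card ↥D) := by
    rw [Nat.card_zpowers, efus_orderOf_b ρ b R Q h]
    have h1 : Nat.card ↥D ∣ Nat.card ↥R := Subgroup.card_dvd_of_le (hDT.trans hTR)
    exact (Nat.Coprime.coprime_dvd_left h1 h.cop).symm
  have hx : ∀ a ∈ Subgroup.zpowers b, r⁻¹ * a * r * a⁻¹ ∈ D := by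
    intro a ha
    obtain ⟨h1, h2, h3, h4⟩ := hA a ha
    refine ⟨?_, ?_⟩
    · have : r⁻¹ * a * r * a⁻¹ = r⁻¹ * (a * r * a⁻¹) := by group
      rw [this]
      exact T.mul_mem (T.inv_mem hr) (h1 r hr)
    · rw [hmul, hmul, hmul, hinvfix a w h3, hrw, h4, ← hrw, ← hmul, inv_mul_cancel, map_one,
        Module.End.one_apply]
  obtain ⟨c, hc, hcD⟩ := Cfsg.Agent.Helper1.exists_centralizer_mem_coset D (Subgroup.zpowers b)
    hnorm hcop (Or.inl inferInstance) r hx
  have hcT : c ∈ T := by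
    have : c = r * (r⁻¹ * c) := by group
    rw [this]
    exact T.mul_mem hr hcD.1
  refine ⟨c, hcT, ?_, ?_⟩
  · have := Subgroup.mem_centralizer_iff.mp hc b (Subgroup.mem_zpowers b)
    -- this : b * c = c * b
    calc b * c * b⁻¹ = c * b * b⁻¹ := by rw [this]
      _ = c := by group
  · have e : c = r * (r⁻¹ * c) := by group
    rw [e, hmul, hcD.2, hrw]

end Cfsg.Agent.Helper12.S15
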