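import Mathlib
import Cfsg.Agent.Lib.S15.S15Defs

/-! S4415 (design helper12), block E (designer helper16), piece EORB.
See plans/S4415_plan.md (section E) and plans/S4415_blockE.md. -/

set_option autoImplicit false
set_option linter.unusedSectionVars false

namespace Cfsg.Agent.Helper12.S15

variable {S : Type*} [Group S] [Finite S] {E : Type*} [AddCommGroup E] [Module (ZMod 3) E]
  [Finite E]

/-- orbit–stabiliser for the linear action of a subgroup `T` on a vector `w` -/
theorem e_orbit_card (ρ : Representation (ZMod 3) S E) (T St : Subgroup S) (w : E)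
    (hSt : ∀ t : S, t ∈ St ↔ t ∈ T ∧ ρ t w = w) :
    Nat.card {v : E // ∃ t ∈ T, ρ t w = v} * Nat.card ↥St = Nat.card ↥T := by
  classical
  letI act : MulAction ↥T E :=
    { smul := fun t v => ρ (t : S) v
      one_smul := fun v => by
        change ρ ((1 : ↥T) : S) v = v
        simp
      mul_smul := fun a b v => by
        change ρ ((a * b : ↥T) : S) v = ρ a (ρ b v)
        simp [map_mul] }
  have e1 : {v : E // ∃ t ∈ T, ρ t w = v} ≃ MulAction.orbit ↥T w :=
    Equiv.subtypeEquivRight (fun v => by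
      constructor
      · rintro ⟨t, ht, rfl⟩
        exact ⟨⟨t, ht⟩, rfl⟩
      · rintro ⟨t, rfl⟩
        exact ⟨t.1, t.2, rfl⟩)
  have e2 : ↥St ≃ MulAction.stabilizer ↥T w :=
    { toFun := fun s => ⟨⟨s.1, ((hSt s.1).mp s.2).1⟩, ((hSt s.1).mp s.2).2⟩
      invFun := fun t => ⟨t.1.1, (hSt _).mpr ⟨t.1.2, t.2⟩⟩
      left_inv := fun s => rfl
      right_inv := fun t => rfl }
  rw [Nat.card_congr e1, Nat.card_congr e2, ← Nat.card_prod,
    Nat.card_congr (MulAction.orbitProdStabilizerEquivGroup ↥T w)]

end Cfsg.Agent.Helper12.S15
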