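import Mathlib
import Cfsg.Agent.Lib.S15.S15Defs

/-! S4415 design (helper12), piece LINV.  See plans/S4415_plan.md. -/

set_option autoImplicit false

namespace Cfsg.Agent.Helper12.S15

theorem linv_mul_apply {S : Type*} [Group S] {E : Type*} [AddCommGroup E]
    [Module (ZMod 3) E] (ρ : Representation (ZMod 3) S E) (a c : S) (v : E) :
    ρ (a * c) v = ρ a (ρ c v) := by
  rw [map_mul]; rfl

theorem fixS_inv {S : Type*} [Group S] [Finite S] {E : Type*} [AddCommGroup E]
    [Module (ZMod 3) E] [Finite E] (ρ : Representation (ZMod 3) S E) (T : Subgroup S) (g : S)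
    (hg : ∀ t ∈ T, g⁻¹ * t * g ∈ T) : ∀ v ∈ fixS ρ T, ρ g v ∈ fixS ρ T := by
  intro v hv t ht
  have h1 := hv _ (hg t ht)
  have e : t * g = g * (g⁻¹ * t * g) := by group
  rw [← linv_mul_apply, e, linv_mul_apply, h1]

theorem comS_inv {S : Type*} [Group S] [Finite S] {E : Type*} [AddCommGroup E]
    [Module (ZMod 3) E] [Finite E] (ρ : Representation (ZMod 3) S E) (T : Subgroup S) (g : S)
    (hg : ∀ t ∈ T, g * t * g⁻¹ ∈ T) : ∀ v ∈ comS ρ T, ρ g v ∈ comS ρ T := by
  intro v hv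
  unfold comS at hv
  refine Submodule.span_induction (p := fun w _ => ρ g w ∈ comS ρ T) ?_ ?_ ?_ ?_ hv
  · rintro w ⟨t, ht, u, rfl⟩
    have e : g * t = (g * t * g⁻¹) * g := by group
    have h2 : ρ g (ρ t u) = ρ (g * t * g⁻¹) (ρ g u) := by
      calc ρ g (ρ t u) = ρ (g * t) u := (linv_mul_apply ρ g t u).symm
        _ = ρ ((g * t * g⁻¹) * g) u := by rw [← e]
        _ = ρ (g * t * g⁻¹) (ρ g u) := linv_mul_apply ρ _ g u
    have h1 : ρ g (ρ t u - u) = ρ (g * t * g⁻¹) (ρ g u) - ρ g u := by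
      rw [map_sub, h2]
    rw [h1]
    exact sub_mem_comS ρ T (hg t ht) _
  · rw [map_zero]; exact Submodule.zero_mem _
  · intro x y _ _ hx hy
    rw [map_add]; exact Submodule.add_mem _ hx hy
  · intro c x _ hx
    rw [map_smul]; exact Submodule.smul_mem _ c hx

theorem fixS_anti {S : Type*} [Group S] [Finite S] {E : Type*} [AddCommGroup E]
    [Module (ZMod 3) E] [Finite E] (ρ : Representation (ZMod 3) S E) {T T' : Subgroup S} (hTT : T ≤ T') : fixS ρ T' ≤ fixS ρ T := by
  intro v hv t ht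
  exact hv t (hTT ht)

theorem comS_mono {S : Type*} [Group S] [Finite S] {E : Type*} [AddCommGroup E]
    [Module (ZMod 3) E] [Finite E] (ρ : Representation (ZMod 3) S E) {T T' : Subgroup S} (hTT : T ≤ T') : comS ρ T ≤ comS ρ T' := by
  unfold comS
  apply Submodule.span_mono
  rintro w ⟨t, ht, u, rfl⟩
  exact ⟨t, hTT ht, u, rfl⟩

end Cfsg.Agent.Helper12.S15
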