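import Mathlib
import Cfsg.Agent.Lib.S15.S15Defs

/-! S4415 design (helper12), piece LMASCHKE.  See plans/S4415_plan.md. -/

set_option autoImplicit false
set_option linter.style.haveILetI false

namespace Cfsg.Agent.Helper12.S15

/-- the sum of the operators of `T` -/
private noncomputable def lmaschke_sum {S : Type*} [Group S] [Finite S] {E : Type*} [AddCommGroup E]
    [Module (ZMod 3) E] (ρ : Representation (ZMod 3) S E) (T : Subgroup S) (v : E) : E :=
  letI : Fintype ↥T := Fintype.ofFinite ↥T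
  ∑ t : ↥T, ρ (t : S) v

private theorem lmaschke_sum_fixed {S : Type*} [Group S] [Finite S] {E : Type*} [AddCommGroup E]
    [Module (ZMod 3) E] (ρ : Representation (ZMod 3) S E) (T : Subgroup S) (v : E) (s : S)
    (hs : s ∈ T) : ρ s (lmaschke_sum ρ T v) = lmaschke_sum ρ T v := by
  classical
  letI : Fintype ↥T := Fintype.ofFinite ↥T
  unfold lmaschke_sum
  rw [map_sum]
  have : ∀ t : ↥T, ρ s (ρ (t : S) v) = ρ (((Equiv.mulLeft (⟨s, hs⟩ : ↥T)) t : ↥T) : S) v := by
    intro t
    simp [map_mul]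
  simp_rw [this]
  convert Equiv.sum_comp (Equiv.mulLeft (⟨s, hs⟩ : ↥T)) (fun t : ↥T => ρ (t : S) v) using 2

private theorem lmaschke_sum_add {S : Type*} [Group S] [Finite S] {E : Type*} [AddCommGroup E]
    [Module (ZMod 3) E] (ρ : Representation (ZMod 3) S E) (T : Subgroup S) (v w : E) :
    lmaschke_sum ρ T (v + w) = lmaschke_sum ρ T v + lmaschke_sum ρ T w := by
  classical
  letI : Fintype ↥T := Fintype.ofFinite ↥T
  unfold lmaschke_sum
  simp [map_add, Finset.sum_add_distrib]

private theorem lmaschke_sum_smul {S : Type*} [Group S] [Finite S] {E : Type*} [AddCommGroup E]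
    [Module (ZMod 3) E] (ρ : Representation (ZMod 3) S E) (T : Subgroup S) (c : ZMod 3) (v : E) :
    lmaschke_sum ρ T (c • v) = c • lmaschke_sum ρ T v := by
  classical
  letI : Fintype ↥T := Fintype.ofFinite ↥T
  unfold lmaschke_sum
  simp [map_smul, Finset.smul_sum]

private theorem lmaschke_sum_gen {S : Type*} [Group S] [Finite S] {E : Type*} [AddCommGroup E]
    [Module (ZMod 3) E] (ρ : Representation (ZMod 3) S E) (T : Subgroup S) (v : E) (s : S)
    (hs : s ∈ T) : lmaschke_sum ρ T (ρ s v - v) = 0 := by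
  classical
  letI : Fintype ↥T := Fintype.ofFinite ↥T
  unfold lmaschke_sum
  simp only [map_sub, Finset.sum_sub_distrib]
  rw [sub_eq_zero]
  have : ∀ t : ↥T, ρ (t : S) (ρ s v) = ρ (((Equiv.mulRight (⟨s, hs⟩ : ↥T)) t : ↥T) : S) v := by
    intro t
    simp [map_mul]
  simp_rw [this]
  convert Equiv.sum_comp (Equiv.mulRight (⟨s, hs⟩ : ↥T)) (fun t : ↥T => ρ (t : S) v) using 2

private theorem lmaschke_sum_com {S : Type*} [Group S] [Finite S] {E : Type*} [AddCommGroup E]
    [Module (ZMod 3) E] (ρ : Representation (ZMod 3) S E) (T : Subgroup S) (w : E)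
    (hw : w ∈ comS ρ T) : lmaschke_sum ρ T w = 0 := by
  unfold comS at hw
  induction hw using Submodule.span_induction with
  | mem x hx =>
    obtain ⟨t, ht, v, rfl⟩ := hx
    exact lmaschke_sum_gen ρ T v t ht
  | zero =>
    have := lmaschke_sum_smul ρ T 0 (0 : E)
    simpa using this
  | add x y _ _ hx hy => rw [lmaschke_sum_add, hx, hy, add_zero]
  | smul c x _ hx => rw [lmaschke_sum_smul, hx, smul_zero]

private theorem lmaschke_sum_fix {S : Type*} [Group S] [Finite S] {E : Type*} [AddCommGroup E]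
    [Module (ZMod 3) E] (ρ : Representation (ZMod 3) S E) (T : Subgroup S) (v : E)
    (hv : v ∈ fixS ρ T) : lmaschke_sum ρ T v = ((Nat.card ↥T : ℕ) : ZMod 3) • v := by
  classical
  letI : Fintype ↥T := Fintype.ofFinite ↥T
  unfold lmaschke_sum
  have : ∀ t : ↥T, ρ (t : S) v = v := fun t => hv t t.2
  simp_rw [this]
  rw [Finset.sum_const, Finset.card_univ, Nat.card_eq_fintype_card, Nat.cast_smul_eq_nsmul]

private theorem lmaschke_sub_mem {S : Type*} [Group S] [Finite S] {E : Type*} [AddCommGroup E]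
    [Module (ZMod 3) E] (ρ : Representation (ZMod 3) S E) (T : Subgroup S) (v : E) :
    ((Nat.card ↥T : ℕ) : ZMod 3) • v - lmaschke_sum ρ T v ∈ comS ρ T := by
  classical
  letI : Fintype ↥T := Fintype.ofFinite ↥T
  have h1 : ((Nat.card ↥T : ℕ) : ZMod 3) • v = ∑ _t : ↥T, v := by
    rw [Finset.sum_const, Finset.card_univ, Nat.card_eq_fintype_card, Nat.cast_smul_eq_nsmul]
  unfold lmaschke_sum
  rw [h1, ← Finset.sum_sub_distrib]
  apply Submodule.sum_mem
  intro t _
  have : v - ρ (t : S) v = -(ρ (t : S) v - v) := by abel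
  rw [this]
  exact Submodule.neg_mem _ (sub_mem_comS ρ T t.2 v)

/-- Maschke: `E = C_E(T) ⊕ [E,T]` for a subgroup `T` of order prime to 3. -/
theorem maschke {S : Type*} [Group S] [Finite S] {E : Type*} [AddCommGroup E]
    [Module (ZMod 3) E] [Finite E] (ρ : Representation (ZMod 3) S E) (T : Subgroup S) (hT : (Nat.card ↥T).Coprime 3) :
    fixS ρ T ⊓ comS ρ T = ⊥ ∧ fixS ρ T ⊔ comS ρ T = ⊤ := by
  have hc : ((Nat.card ↥T : ℕ) : ZMod 3) ≠ 0 := by
    intro h0
    rw [ZMod.natCast_eq_zero_iff] at h0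
    have h3 : 3 ∣ Nat.gcd (Nat.card ↥T) 3 := Nat.dvd_gcd h0 dvd_rfl
    rw [Nat.Coprime] at hT
    rw [hT] at h3
    omega
  haveI : Fact (Nat.Prime 3) := ⟨by norm_num⟩
  constructor
  · rw [eq_bot_iff]
    intro v hv
    obtain ⟨hf, hcm⟩ := hv
    have h1 := lmaschke_sum_fix ρ T v hf
    have h2 := lmaschke_sum_com ρ T v hcm
    rw [h2] at h1
    rcases smul_eq_zero.mp h1.symm with h | h
    · exact absurd h hc
    · rw [Submodule.mem_bot]; exact h
  · rw [eq_top_iff]
    intro v _
    set c : ZMod 3 := ((Nat.card ↥T : ℕ) : ZMod 3) with hcdef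
    have hdec : v = c⁻¹ • lmaschke_sum ρ T v + c⁻¹ • (c • v - lmaschke_sum ρ T v) := by
      rw [smul_sub, smul_smul, inv_mul_cancel₀ hc, one_smul]
      abel
    rw [hdec]
    apply Submodule.add_mem_sup
    · apply Submodule.smul_mem
      intro s hs
      exact lmaschke_sum_fixed ρ T v s hs
    · apply Submodule.smul_mem
      exact lmaschke_sub_mem ρ T v

end Cfsg.Agent.Helper12.S15
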