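import Mathlib
import Cfsg.Agent.Lib.S15.S15Defs
import Cfsg.Agent.Lib.Helper22.NGJordan

/-! S4415 design (helper12), piece LN3 (implemented by helper11).  See plans/S4415_plan.md. -/

set_option autoImplicit false

namespace Cfsg.Agent.Helper12.S15

theorem ln3_mul_cube {S : Type*} [Group S] {E : Type*} [AddCommGroup E]
    [Module (ZMod 3) E] (ρ : Representation (ZMod 3) S E) (b : S) (hb : b ^ 3 = 1) :
    ρ b * ρ b * ρ b = 1 := by
  rw [← map_mul, ← map_mul, ← pow_three' b, hb, map_one]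

/-- `(b-1)^3 = b^3 - 1 = 0` in characteristic 3. -/
theorem n_cube {S : Type*} [Group S] [Finite S] {E : Type*} [AddCommGroup E]
    [Module (ZMod 3) E] [Finite E] (ρ : Representation (ZMod 3) S E) (b : S) (R Q : Subgroup S) (h : Setting ρ b R Q) (v : E) :
    (ρ b - 1) ((ρ b - 1) ((ρ b - 1) v)) = 0 := by
  have h1 := Cfsg.Agent.Helper22.NGJ.nil_of_cube (ln3_mul_cube ρ b h.b3)
  have h2 := LinearMap.congr_fun h1 v
  exact h2

/-- `(b-1)^2 = 1 + b + b^2` in characteristic 3. -/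
theorem n_sq {S : Type*} [Group S] [Finite S] {E : Type*} [AddCommGroup E]
    [Module (ZMod 3) E] [Finite E] (ρ : Representation (ZMod 3) S E) (b : S) (R Q : Subgroup S) (h : Setting ρ b R Q) (v : E) :
    (ρ b - 1) ((ρ b - 1) v) = v + ρ b v + ρ b (ρ b v) := by
  have h3 : ρ b v + ρ b v + ρ b v = 0 := by
    have := ZModModule.char_nsmul_eq_zero 3 (ρ b v)
    rwa [succ_nsmul, succ_nsmul, one_nsmul] at this
  simp only [LinearMap.sub_apply, map_sub, Module.End.one_apply]
  have e : ρ b (ρ b v) - ρ b v - (ρ b v - v) =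
      v + ρ b v + ρ b (ρ b v) - (ρ b v + ρ b v + ρ b v) := by abel
  rw [e, h3, sub_zero]

theorem b_inv_eq {S : Type*} [Group S] [Finite S] {E : Type*} [AddCommGroup E]
    [Module (ZMod 3) E] [Finite E] (ρ : Representation (ZMod 3) S E) (b : S) (R Q : Subgroup S) (h : Setting ρ b R Q) : b⁻¹ = b * b := by
  apply inv_eq_of_mul_eq_one_right
  rw [← pow_three, h.b3]

theorem bR_inv {S : Type*} [Group S] [Finite S] {E : Type*} [AddCommGroup E]
    [Module (ZMod 3) E] [Finite E] (ρ : Representation (ZMod 3) S E) (b : S) (R Q : Subgroup S) (h : Setting ρ b R Q) : ∀ r ∈ R, b⁻¹ * r * b ∈ R := by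
  intro r hr
  have h1 := h.bR _ (h.bR r hr)
  have hb := b_inv_eq ρ b R Q h
  have e : b⁻¹ * r * b = b * (b * r * b⁻¹) * b⁻¹ := by
    calc b⁻¹ * r * b = (b * b) * r * (b * b)⁻¹ := by rw [← hb, inv_inv]
      _ = b * (b * r * b⁻¹) * b⁻¹ := by group
  rw [e]
  exact h1

theorem rho_b_cube {S : Type*} [Group S] [Finite S] {E : Type*} [AddCommGroup E]
    [Module (ZMod 3) E] [Finite E] (ρ : Representation (ZMod 3) S E) (b : S) (R Q : Subgroup S) (h : Setting ρ b R Q) (v : E) : ρ b (ρ b (ρ b v)) = v := by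
  have h1 := LinearMap.congr_fun (ln3_mul_cube ρ b h.b3) v
  exact h1

end Cfsg.Agent.Helper12.S15
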