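import Mathlib
import Cfsg.Agent.Lib.S15.S15Defs
import Cfsg.Agent.Lib.S15.LN3
import Cfsg.Agent.Lib.Helper22.NGJordan

/-! S4415 design (helper12), piece LRANK.  See plans/S4415_plan.md. -/

set_option autoImplicit false

namespace Cfsg.Agent.Helper12.S15

/-- the Jordan data of `ρ b` in a `Setting` -/
theorem lrank_jd {S : Type*} [Group S] {E : Type*} [AddCommGroup E]
    [Module (ZMod 3) E] [Finite E] (ρ : Representation (ZMod 3) S E) (b : S) (R Q : Subgroup S)
    (h : Setting ρ b R Q) : Cfsg.Agent.Helper22.NGJ.JD (ρ b) := by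
  apply Cfsg.Agent.Helper22.NGJ.JD.of_card (ρ b) _ h.rk h.sq
  rw [← map_mul, ← map_mul, ← pow_three', h.b3, map_one]

/-- `range (b-1)^2` is a line. -/
theorem card_range_sq {S : Type*} [Group S] [Finite S] {E : Type*} [AddCommGroup E]
    [Module (ZMod 3) E] [Finite E] (ρ : Representation (ZMod 3) S E) (b : S) (R Q : Subgroup S) (h : Setting ρ b R Q) :
    Nat.card ↥(LinearMap.range ((ρ b - 1) * (ρ b - 1))) = 3 :=
  (lrank_jd ρ b R Q h).card_range.2

end Cfsg.Agent.Helper12.S15
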