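import Mathlib
import Cfsg.Agent.Lib.S15.S15Defs
import Cfsg.Agent.Lib.S15.LN3
import Cfsg.Agent.Lib.S15.LRANK
import Cfsg.Agent.Lib.Helper22.NGJordan

/-! S4415 design (helper12), piece LSPLIT.  See plans/S4415_plan.md. -/

set_option autoImplicit false

namespace Cfsg.Agent.Helper12.S15

/-- A `b`-invariant decomposition `E = F ⊕ F'`: `b` is trivial on one summand and `[E,b]` lies in
the other (ranks `1 + 1` would force `(b-1)^2 = 0`). -/
theorem split_rank {S : Type*} [Group S] [Finite S] {E : Type*} [AddCommGroup E]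
    [Module (ZMod 3) E] [Finite E] (ρ : Representation (ZMod 3) S E) (b : S) (R Q : Subgroup S) (h : Setting ρ b R Q)
    (F F' : Submodule (ZMod 3) E) (hc : F ⊓ F' = ⊥) (hs : F ⊔ F' = ⊤)
    (hF : ∀ v ∈ F, ρ b v ∈ F) (hF' : ∀ v ∈ F', ρ b v ∈ F') :
    ((∀ v ∈ F, ρ b v = v) ∧ LinearMap.range (ρ b - 1) ≤ F') ∨
      ((∀ v ∈ F', ρ b v = v) ∧ LinearMap.range (ρ b - 1) ≤ F) :=
  (lrank_jd ρ b R Q h).split' F F' hc hs hF hF'

end Cfsg.Agent.Helper12.S15
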