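import Mathlib
import Cfsg.Agent.Lib.S15.S15Defs
import Cfsg.Agent.Lib.S15.LINV
import Cfsg.Agent.Lib.S15.LMASCHKE
import Cfsg.Agent.Lib.S15.LN3
import Cfsg.Agent.Lib.S15.LSPLIT

/-! S4415 design (helper12), piece LEMA.  See plans/S4415_plan.md. -/

set_option autoImplicit false

namespace Cfsg.Agent.Helper12.S15

/-- Lemma A: a `b`-invariant subgroup `T ≤ R` not centralised by `b` has `b` trivial on `C_E(T)` and
`[E,b] ≤ [E,T]`. -/
theorem lemma_A {S : Type*} [Group S] [Finite S] {E : Type*} [AddCommGroup E]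
    [Module (ZMod 3) E] [Finite E] (ρ : Representation (ZMod 3) S E) (b : S) (R Q : Subgroup S) (h : Setting ρ b R Q) (T : Subgroup S) (hTR : T ≤ R)
    (hbT : ∀ t ∈ T, b * t * b⁻¹ ∈ T) (hne : ∃ t ∈ T, b * t * b⁻¹ ≠ t) :
    (∀ v ∈ fixS ρ T, ρ b v = v) ∧ LinearMap.range (ρ b - 1) ≤ comS ρ T := by
  have hcopT : (Nat.card ↥T).Coprime 3 := by
    have hd : Nat.card ↥T ∣ Nat.card ↥R := Subgroup.card_dvd_of_le hTR
    exact Nat.Coprime.coprime_dvd_left hd h.cop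
  obtain ⟨hbot, htop⟩ := maschke ρ T hcopT
  have hbinv : b⁻¹ = b * b := b_inv_eq ρ b R Q h
  have hbT' : ∀ t ∈ T, b⁻¹ * t * b ∈ T := by
    intro t ht
    have h1 := hbT _ (hbT t ht)
    have e : b⁻¹ * t * b = b * (b * t * b⁻¹) * b⁻¹ := by
      calc b⁻¹ * t * b = (b * b) * t * (b * b)⁻¹ := by rw [← hbinv, inv_inv]
        _ = b * (b * t * b⁻¹) * b⁻¹ := by group
    rw [e]; exact h1
  have hF : ∀ v ∈ fixS ρ T, ρ b v ∈ fixS ρ T := fixS_inv ρ T b hbT'
  have hF' : ∀ v ∈ comS ρ T, ρ b v ∈ comS ρ T := comS_inv ρ T b hbT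
  rcases split_rank ρ b R Q h (fixS ρ T) (comS ρ T) hbot htop hF hF' with h1 | h2
  · exact h1
  · exfalso
    obtain ⟨t, ht, hne'⟩ := hne
    obtain ⟨hb_com, _⟩ := h2
    have hcT : b * t * b⁻¹ * t⁻¹ ∈ T := T.mul_mem (hbT t ht) (T.inv_mem ht)
    have hbinv_com : ∀ v ∈ comS ρ T, ρ b⁻¹ v = v := by
      intro v hv
      have h3 := hb_com v hv
      calc ρ b⁻¹ v = ρ b⁻¹ (ρ b v) := by rw [h3]
        _ = v := by rw [← linv_mul_apply, inv_mul_cancel, map_one]; rfl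
    have htinv_com : ∀ v ∈ comS ρ T, ρ t⁻¹ v ∈ comS ρ T :=
      comS_inv ρ T t⁻¹ (fun s hs => by
        have h4 := T.mul_mem (T.mul_mem (T.inv_mem ht) hs) ht
        simpa using h4)
    have hc_com : ∀ v ∈ comS ρ T, ρ (b * t * b⁻¹ * t⁻¹) v = v := by
      intro v hv
      rw [linv_mul_apply, linv_mul_apply, linv_mul_apply]
      rw [hbinv_com _ (htinv_com v hv)]
      have h5 : ρ t (ρ t⁻¹ v) = v := by
        rw [← linv_mul_apply, mul_inv_cancel, map_one]; rfl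
      rw [h5]
      exact hb_com v hv
    have hc_all : ρ (b * t * b⁻¹ * t⁻¹) = 1 := by
      apply LinearMap.ext
      intro v
      have hv : v ∈ fixS ρ T ⊔ comS ρ T := by rw [htop]; trivial
      obtain ⟨x, hx, y, hy, rfl⟩ := Submodule.mem_sup.mp hv
      rw [map_add, hx _ hcT, hc_com y hy]; rfl
    have hc1 := h.faith _ (Subgroup.mem_sup_left (hTR hcT)) hc_all
    apply hne'
    exact mul_inv_eq_one.mp hc1

end Cfsg.Agent.Helper12.S15
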