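import Mathlib
import Cfsg.Agent.Lib.S15.S15Defs
import Cfsg.Agent.Lib.S15.LEMA
import Cfsg.Agent.Lib.S15.LMASCHKE

/-! S4415 design (helper12), piece LCORA (proved by helper28).  See plans/S4415_plan.md. -/

set_option autoImplicit false

namespace Cfsg.Agent.Helper12.S15

/-- Corollary A': a `b`-invariant subgroup `T ≤ R` fixing a non-zero vector of `[E,b]` is centralised
by `b`. -/
theorem cor_A {S : Type*} [Group S] [Finite S] {E : Type*} [AddCommGroup E]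
    [Module (ZMod 3) E] [Finite E] (ρ : Representation (ZMod 3) S E) (b : S) (R Q : Subgroup S) (h : Setting ρ b R Q) (T : Subgroup S) (hTR : T ≤ R)
    (hbT : ∀ t ∈ T, b * t * b⁻¹ ∈ T) (w : E) (hw : w ∈ LinearMap.range (ρ b - 1)) (hw0 : w ≠ 0)
    (hfix : ∀ t ∈ T, ρ t w = w) : ∀ t ∈ T, b * t * b⁻¹ = t := by
  by_contra hcon
  push_neg at hcon
  obtain ⟨t, ht, hne⟩ := hcon
  have hA := lemma_A ρ b R Q h T hTR hbT ⟨t, ht, hne⟩
  have hcop : (Nat.card ↥T).Coprime 3 :=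
    Nat.Coprime.coprime_dvd_left (Subgroup.card_dvd_of_le hTR) h.cop
  have hM := (maschke ρ T hcop).1
  have hw1 : w ∈ fixS ρ T ⊓ comS ρ T := Submodule.mem_inf.2 ⟨hfix, hA.2 hw⟩
  rw [hM, Submodule.mem_bot] at hw1
  exact hw0 hw1

/-- `b` is trivial on `C_E(R)` and `[E,b] ≤ [E,R]`. -/
theorem b_fix_fixS {S : Type*} [Group S] [Finite S] {E : Type*} [AddCommGroup E]
    [Module (ZMod 3) E] [Finite E] (ρ : Representation (ZMod 3) S E) (b : S) (R Q : Subgroup S) (h : Setting ρ b R Q) :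
    (∀ v ∈ fixS ρ R, ρ b v = v) ∧ LinearMap.range (ρ b - 1) ≤ comS ρ R := by
  obtain ⟨q, hq, hne⟩ := h.bQ'
  exact lemma_A ρ b R Q h R le_rfl h.bR ⟨q, h.QR hq, hne⟩

/-- `b` is trivial on `C_E(Q)` and `[E,b] ≤ [E,Q]`. -/
theorem b_fix_fixQ {S : Type*} [Group S] [Finite S] {E : Type*} [AddCommGroup E]
    [Module (ZMod 3) E] [Finite E] (ρ : Representation (ZMod 3) S E) (b : S) (R Q : Subgroup S) (h : Setting ρ b R Q) :
    (∀ v ∈ fixS ρ Q, ρ b v = v) ∧ LinearMap.range (ρ b - 1) ≤ comS ρ Q := by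
  exact lemma_A ρ b R Q h Q h.QR h.bQ h.bQ'

end Cfsg.Agent.Helper12.S15
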