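import Mathlib
import Cfsg.Agent.Lib.S15.S15Defs
import Cfsg.Agent.Lib.S15.LCORA
/-! S4415 (design helper12), block E (designer helper16), piece ESTAB.
See plans/S4415_plan.md (section E) and plans/S4415_blockE.md. -/

set_option autoImplicit false
set_option linter.unusedSectionVars false

namespace Cfsg.Agent.Helper12.S15

variable {S : Type*} [Group S] [Finite S] {E : Type*} [AddCommGroup E] [Module (ZMod 3) E]
  [Finite E]

/-- If `C_T(b)` acts by scalars `±1`, the stabiliser in `T` of a non-zero `b`-fixed vector `s` of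
`[E,b]` is trivial (`cor_A` applied to the stabiliser: it is centralised by `b`, so scalar `±1`, and
`-s ≠ s`; then `Setting.faith`). -/
theorem e_stab_s (ρ : Representation (ZMod 3) S E) (b : S) (R Q : Subgroup S) (h : Setting ρ b R Q)
    (T : Subgroup S) (hTR : T ≤ R) (hbT : ∀ t ∈ T, b * t * b⁻¹ ∈ T)
    (hcent : ∀ t ∈ T, b * t * b⁻¹ = t → ρ t = 1 ∨ ρ t = -1) (s : E)
    (hs : s ∈ LinearMap.range (ρ b - 1)) (hs0 : s ≠ 0) (hbs : ρ b s = s) (t : S) (ht : t ∈ T)
    (hts : ρ t s = s) : t = 1 := by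
  have hbinv : ρ b⁻¹ s = s := by
    have h1 : ρ b⁻¹ (ρ b s) = s := by
      rw [← Module.End.mul_apply, ← map_mul, inv_mul_cancel, map_one, Module.End.one_apply]
    rwa [hbs] at h1
  -- the stabiliser of `s` in `T`
  let Ts : Subgroup S :=
    { carrier := {x | x ∈ T ∧ ρ x s = s}
      mul_mem' := by
        intro x y hx hy
        refine ⟨T.mul_mem hx.1 hy.1, ?_⟩
        rw [map_mul, Module.End.mul_apply, hy.2, hx.2]
      one_mem' := ⟨T.one_mem, by rw [map_one, Module.End.one_apply]⟩
      inv_mem' := by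
        intro x hx
        refine ⟨T.inv_mem hx.1, ?_⟩
        have h1 : ρ x⁻¹ (ρ x s) = s := by
          rw [← Module.End.mul_apply, ← map_mul, inv_mul_cancel, map_one, Module.End.one_apply]
        rwa [hx.2] at h1 }
  have hTsR : Ts ≤ R := fun x hx => hTR hx.1
  have hbTs : ∀ x ∈ Ts, b * x * b⁻¹ ∈ Ts := by
    intro x hx
    refine ⟨hbT x hx.1, ?_⟩
    rw [map_mul, map_mul, Module.End.mul_apply, Module.End.mul_apply, hbinv, hx.2, hbs]
  have hfix : ∀ x ∈ Ts, ρ x s = s := fun x hx => hx.2
  have hc := cor_A ρ b R Q h Ts hTsR hbTs s hs hs0 hfix t ⟨ht, hts⟩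
  rcases hcent t ht hc with h1 | h1
  · exact h.faith t (Subgroup.mem_sup_left (hTR ht)) h1
  · exfalso
    rw [h1] at hts
    have h2 : -s = s := by simpa using hts
    have h3 : (2 : ZMod 3) • s = 0 := by
      rw [two_smul]
      nth_rewrite 1 [← h2]
      exact neg_add_cancel s
    exact hs0 ((smul_eq_zero.mp h3).resolve_left (by decide))

end Cfsg.Agent.Helper12.S15
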