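import Mathlib
import Cfsg.Agent.Lib.S15.S15Defs
import Cfsg.Agent.Lib.S15.EFUS
import Cfsg.Agent.Lib.S15.ESTAB
import Cfsg.Agent.Lib.S15.EORB

/-! S4415 (design helper12), block E (designer helper16), piece E3ORB.
See plans/S4415_plan.md (section E) and plans/S4415_blockE.md. -/

set_option autoImplicit false
set_option linter.unusedSectionVars false

namespace Cfsg.Agent.Helper12.S15

variable {S : Type*} [Group S] [Finite S] {E : Type*} [AddCommGroup E] [Module (ZMod 3) E]
  [Finite E]

/-- in characteristic 3, `v = -v` forces `v = 0` -/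
theorem e3orb_eq_neg {v : E} (hv : v = -v) : v = 0 := by
  have h1 : v + v = 0 := by
    nth_rewrite 2 [hv]
    exact add_neg_cancel v
  have h2 : (2 : ZMod 3) • v = 0 := by rw [two_smul]; exact h1
  rcases smul_eq_zero.mp h2 with h3 | h3
  · exact absurd h3 (by decide)
  · exact h3

/-- If `C_T(b) = 1`, the `T`-orbits of `s` and `-s` are regular and disjoint inside a `T`-invariant
subspace `D ∋ s`, so `2|T| + 1 ≤ |D|`.
(`e_stab_s`: trivial stabilisers; `e_fus`: `ρ t s = -s` would give `c ∈ C_T(b) = 1` with `s = -s`.) -/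
theorem e3_orbit (ρ : Representation (ZMod 3) S E) (b : S) (R Q : Subgroup S) (h : Setting ρ b R Q)
    (T : Subgroup S) (hTR : T ≤ R) (hbT : ∀ t ∈ T, b * t * b⁻¹ ∈ T)
    (hcent : ∀ t ∈ T, b * t * b⁻¹ = t → t = 1) (D : Submodule (ZMod 3) E)
    (hDT : ∀ t ∈ T, ∀ v ∈ D, ρ t v ∈ D) (s : E) (hs : s ∈ LinearMap.range (ρ b - 1)) (hs0 : s ≠ 0)
    (hbs : ρ b s = s) (hsD : s ∈ D) : 2 * Nat.card ↥T + 1 ≤ Nat.card ↥D := by
  classical
  have hmul : ∀ (x y : S) (v : E), ρ (x * y) v = ρ x (ρ y v) := by
    intro x y v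
    rw [map_mul, Module.End.mul_apply]
  have hcancel : ∀ (x : S) (v : E), ρ x⁻¹ (ρ x v) = v := by
    intro x v
    rw [← hmul, inv_mul_cancel, map_one, Module.End.one_apply]
  have hcent' : ∀ t ∈ T, b * t * b⁻¹ = t → ρ t = 1 ∨ ρ t = -1 := by
    intro t ht htb
    left
    rw [hcent t ht htb, map_one]
  have hstab : ∀ t ∈ T, ρ t s = s → t = 1 :=
    fun t ht hts => e_stab_s ρ b R Q h T hTR hbT hcent' s hs hs0 hbs t ht hts
  have hbns : ρ b (-s) = -s := by rw [map_neg, hbs]
  have hnofus : ∀ t ∈ T, ρ t s ≠ -s := by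
    intro t ht hts
    obtain ⟨c, hc, hcb, hcs⟩ := e_fus ρ b R Q h T hTR hbT s (-s) hbs hbns t ht hts
    rw [hcent c hc hcb, map_one, Module.End.one_apply] at hcs
    exact hs0 (e3orb_eq_neg hcs)
  have hcard : Nat.card (Option (↥T × Bool)) = 2 * Nat.card ↥T + 1 := by
    have : Fintype ↥T := Fintype.ofFinite _
    rw [Nat.card_eq_fintype_card, Fintype.card_option, Fintype.card_prod, Fintype.card_bool,
      ← Nat.card_eq_fintype_card, mul_comm]
  rw [← hcard]
  let f : Option (↥T × Bool) → ↥D := fun o =>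
    match o with
    | none => 0
    | some (t, true) => ⟨ρ (t : S) s, hDT t t.2 s hsD⟩
    | some (t, false) => ⟨-ρ (t : S) s, D.neg_mem (hDT t t.2 s hsD)⟩
  have hne0 : ∀ t : S, ρ t s ≠ 0 := by
    intro t ht
    apply hs0
    have := hcancel t s
    rw [ht, map_zero] at this
    exact this.symm
  apply Nat.card_le_card_of_injective f
  intro o o' hoo
  have hoo' := congrArg Subtype.val hoo
  rcases o with _ | ⟨t, ε⟩ <;> rcases o' with _ | ⟨t', ε'⟩
  · rfl
  · exfalso
    cases ε' with
    | true =>
      simp only [f] at hoo'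
      exact hne0 _ hoo'.symm
    | false =>
      simp only [f] at hoo'
      have : ρ (t' : S) s = 0 := by
        have := hoo'.symm
        simpa using this
      exact hne0 _ this
  · exfalso
    cases ε with
    | true =>
      simp only [f] at hoo'
      exact hne0 _ hoo'
    | false =>
      simp only [f] at hoo'
      have : ρ (t : S) s = 0 := by simpa using hoo'
      exact hne0 _ this
  · -- both some
    have key : ∀ (u u' : ↥T), ρ (u : S) s = ρ (u' : S) s → u = u' := by
      intro u u' huu
      have h1 : ρ ((u' : S)⁻¹ * u) s = s := by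
        rw [hmul, huu, hcancel]
      have h2 := hstab _ (T.mul_mem (T.inv_mem u'.2) u.2) h1
      apply Subtype.ext
      have : (u : S) = (u' : S) * ((u' : S)⁻¹ * u) := by group
      rw [this, h2, mul_one]
    have key2 : ∀ (u u' : ↥T), ρ (u : S) s ≠ -ρ (u' : S) s := by
      intro u u' huu
      have h1 : ρ ((u' : S)⁻¹ * u) s = -s := by
        rw [hmul, huu, map_neg, hcancel]
      exact hnofus _ (T.mul_mem (T.inv_mem u'.2) u.2) h1
    cases ε <;> cases ε'
    · simp only [f] at hoo'
      have := key t t' (neg_injective hoo')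
      rw [this]
    · exfalso
      simp only [f] at hoo'
      exact key2 t' t hoo'.symm
    · exfalso
      simp only [f] at hoo'
      exact key2 t t' hoo'
    · simp only [f] at hoo'
      have := key t t' hoo'
      rw [this]

end Cfsg.Agent.Helper12.S15
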