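import Mathlib
import Cfsg.Agent.Lib.S15.S15Defs

/-! S4415 (design helper12), block E (designer helper16), piece ECNT.
See plans/S4415_plan.md (section E) and plans/S4415_blockE.md. -/

set_option autoImplicit false
set_option linter.unusedSectionVars false

namespace Cfsg.Agent.Helper12.S15

variable {S : Type*} [Group S] [Finite S] {E : Type*} [AddCommGroup E] [Module (ZMod 3) E]
  [Finite E]

/-- `|T| ≡ |C_T(b)|  (mod 3)` for a `b`-invariant subgroup (`b³ = 1`); e.g. via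
`Equiv.Perm.card_fixedPoints_modEq` for `t ↦ b t b⁻¹` on `↥T`. -/
theorem e_cnt (b : S) (hb3 : b ^ 3 = 1) (T : Subgroup S) (hbT : ∀ t ∈ T, b * t * b⁻¹ ∈ T) :
    Nat.card ↥T ≡ Nat.card {t : S // t ∈ T ∧ b * t * b⁻¹ = t} [MOD 3] := by
  classical
  haveI : Fintype ↥T := Fintype.ofFinite _
  haveI : Fact (Nat.Prime 3) := ⟨Nat.prime_three⟩
  let f : Function.End ↥T := fun t => ⟨b * t * b⁻¹, hbT t t.2⟩
  have hf : f ^ 3 ^ 1 = 1 := by
    funext t
    apply Subtype.ext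
    show b * (b * (b * (t : S) * b⁻¹) * b⁻¹) * b⁻¹ = (t : S)
    have h1 : b * (b * (b * (t : S) * b⁻¹) * b⁻¹) * b⁻¹ = b ^ 3 * (t : S) * (b ^ 3)⁻¹ := by
      rw [pow_succ, pow_two]
      simp only [mul_inv_rev, mul_assoc]
    rw [h1, hb3, one_mul, inv_one, mul_one]
  have hmod := Equiv.Perm.card_fixedPoints_modEq (p := 3) (n := 1) hf
  let e : ↥(Function.fixedPoints f) ≃ {t : S // t ∈ T ∧ b * t * b⁻¹ = t} :=
    { toFun := fun x => ⟨((x.1 : ↥T) : S), (x.1 : ↥T).2,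
        congrArg Subtype.val (show f x.1 = x.1 from x.2)⟩
      invFun := fun y => ⟨⟨y.1, y.2.1⟩, show f ⟨y.1, y.2.1⟩ = ⟨y.1, y.2.1⟩ from Subtype.ext y.2.2⟩
      left_inv := fun x => rfl
      right_inv := fun y => rfl }
  rw [Nat.card_eq_fintype_card, ← Nat.card_congr e, Nat.card_eq_fintype_card]
  exact hmod

end Cfsg.Agent.Helper12.S15
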