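import Mathlib
import Cfsg.Agent.Lib.S15.S15Defs
import Cfsg.Agent.Lib.S15.ECNT
import Cfsg.Agent.Lib.S15.E3ORB

/-! S4415 (design helper12), block E (designer helper16), piece E3CORE.
See plans/S4415_plan.md (section E) and plans/S4415_blockE.md. -/

set_option autoImplicit false
set_option linter.unusedSectionVars false

namespace Cfsg.Agent.Helper12.S15

variable {S : Type*} [Group S] [Finite S] {E : Type*} [AddCommGroup E] [Module (ZMod 3) E]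
  [Finite E]

/-- A `b`-invariant subgroup `Q ≤ T ≤ R` with `C_T(b) = 1` stabilising a 27-element subspace
`D ∋ s` equals `Q`: `2|T| ≤ 26`, `4 ∣ |T|`, `|T| ≡ 1 (mod 3)`. -/
theorem e3_core (ρ : Representation (ZMod 3) S E) (b : S) (R Q : Subgroup S) (h : Setting ρ b R Q)
    (T : Subgroup S) (hQT : Q ≤ T) (hTR : T ≤ R) (hbT : ∀ t ∈ T, b * t * b⁻¹ ∈ T)
    (hcent : ∀ t ∈ T, b * t * b⁻¹ = t → t = 1) (D : Submodule (ZMod 3) E)
    (hD : Nat.card ↥D = 27) (hDT : ∀ t ∈ T, ∀ v ∈ D, ρ t v ∈ D) (s : E)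
    (hs : s ∈ LinearMap.range (ρ b - 1)) (hs0 : s ≠ 0) (hbs : ρ b s = s) (hsD : s ∈ D) :
    T = Q := by
  have h1 := e3_orbit ρ b R Q h T hTR hbT hcent D hDT s hs hs0 hbs hsD
  rw [hD] at h1
  have h2 := e_cnt b h.b3 T hbT
  have h3 : Nat.card {t : S // t ∈ T ∧ b * t * b⁻¹ = t} = 1 := by
    rw [Nat.card_eq_one_iff_unique]
    refine ⟨⟨?_⟩, ⟨⟨1, T.one_mem, by simp⟩⟩⟩
    rintro ⟨x, hx, hxb⟩ ⟨y, hy, hyb⟩
    rw [Subtype.mk.injEq, hcent x hx hxb, hcent y hy hyb]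
  rw [h3] at h2
  have h4 : Nat.card ↥Q ∣ Nat.card ↥T := Subgroup.card_dvd_of_le hQT
  rw [h.Q4] at h4
  have h5 : Nat.card ↥T = 4 := by
    obtain ⟨k, hk⟩ := h4
    have h6 : Nat.card ↥T % 3 = 1 := h2
    omega
  symm
  apply Subgroup.eq_of_le_of_card_ge hQT
  rw [h5, h.Q4]

end Cfsg.Agent.Helper12.S15
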