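import Mathlib
import Cfsg.Agent.Lib.S15.S15Defs

/-! S4415 design (helper12), piece LONEOP.  See plans/S4415_plan.md. -/

set_option autoImplicit false

namespace Cfsg.Agent.Helper12.S15

/-- Maschke for a single operator of order prime to 3 -/
theorem oneop {E : Type*} [AddCommGroup E] [Module (ZMod 3) E] (g : Module.End (ZMod 3) E) (k : ℕ)
    (hk : Nat.Coprime k 3) (hg : g ^ k = 1) :
    LinearMap.ker (g - 1) ⊓ LinearMap.range (g - 1) = ⊥ ∧
      LinearMap.ker (g - 1) ⊔ LinearMap.range (g - 1) = ⊤ := by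
  classical
  have hk0 : ((k : ℕ) : ZMod 3) ≠ 0 := by
    intro h0
    rw [ZMod.natCast_eq_zero_iff] at h0
    have h3 : (3 : ℕ) ∣ Nat.gcd k 3 := Nat.dvd_gcd h0 dvd_rfl
    rw [hk] at h3
    omega
  have h1 : (g - 1) * (∑ i ∈ Finset.range k, g ^ i) = 0 := by rw [mul_geom_sum, hg, sub_self]
  have h2 : (∑ i ∈ Finset.range k, g ^ i) * (g - 1) = 0 := by rw [geom_sum_mul, hg, sub_self]
  have hpowmem : ∀ (i : ℕ) (v : E), (g ^ i) v - v ∈ LinearMap.range (g - 1) := by
    intro i v
    have h3 : g ^ i - 1 = (g - 1) * (∑ j ∈ Finset.range i, g ^ j) := (mul_geom_sum g i).symm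
    have h4 : (g ^ i) v - v = (g ^ i - 1) v := by
      rw [LinearMap.sub_apply, Module.End.one_apply]
    rw [h4, h3, Module.End.mul_apply]
    exact LinearMap.mem_range_self _ _
  have hfix : ∀ v : E, (g - 1) v = 0 → (∑ i ∈ Finset.range k, g ^ i) v = ((k : ℕ) : ZMod 3) • v := by
    intro v hv
    have hgv : g v = v := by
      rwa [LinearMap.sub_apply, Module.End.one_apply, sub_eq_zero] at hv
    have hpow : ∀ i : ℕ, (g ^ i) v = v := by
      intro i
      induction i with
      | zero => simp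
      | succ i ih => rw [pow_succ, Module.End.mul_apply, hgv, ih]
    rw [LinearMap.sum_apply]
    simp only [hpow, Finset.sum_const, Finset.card_range]
    rw [Nat.cast_smul_eq_nsmul]
  constructor
  · rw [eq_bot_iff]
    rintro v ⟨hvk, u, rfl⟩
    have hvk' : (g - 1) ((g - 1) u) = 0 := hvk
    have h5 := hfix _ hvk'
    have h6 : (∑ i ∈ Finset.range k, g ^ i) ((g - 1) u) = 0 := by
      rw [← Module.End.mul_apply, h2]
      rfl
    rw [h6] at h5
    have h7 : (g - 1) u = 0 := by
      rcases smul_eq_zero.1 h5.symm with h | h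
      · exact absurd h hk0
      · exact h
    rw [Submodule.mem_bot]
    exact h7
  · rw [eq_top_iff]
    intro v _
    -- `k • v = S v + (k • v - S v)`
    have hS : (∑ i ∈ Finset.range k, g ^ i) v ∈ LinearMap.ker (g - 1) := by
      rw [LinearMap.mem_ker, ← Module.End.mul_apply, h1]
      rfl
    have hD : ((k : ℕ) : ZMod 3) • v - (∑ i ∈ Finset.range k, g ^ i) v ∈ LinearMap.range (g - 1) := by
      have h8 : ((k : ℕ) : ZMod 3) • v - (∑ i ∈ Finset.range k, g ^ i) v
          = - ∑ i ∈ Finset.range k, ((g ^ i) v - v) := by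
        rw [LinearMap.sum_apply, Finset.sum_sub_distrib, Finset.sum_const, Finset.card_range,
          Nat.cast_smul_eq_nsmul]
        abel
      rw [h8]
      exact Submodule.neg_mem _ (Submodule.sum_mem _ (fun i _ => hpowmem i v))
    have hsum : ((k : ℕ) : ZMod 3) • v ∈ LinearMap.ker (g - 1) ⊔ LinearMap.range (g - 1) := by
      have : ((k : ℕ) : ZMod 3) • v = (∑ i ∈ Finset.range k, g ^ i) v +
          (((k : ℕ) : ZMod 3) • v - (∑ i ∈ Finset.range k, g ^ i) v) := by abel
      rw [this]
      exact Submodule.add_mem _ (Submodule.mem_sup_left hS) (Submodule.mem_sup_right hD)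
    have := Submodule.smul_mem _ (((k : ℕ) : ZMod 3)⁻¹) hsum
    rwa [smul_smul, inv_mul_cancel₀ hk0, one_smul] at this

end Cfsg.Agent.Helper12.S15
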