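import Mathlib
import Cfsg.Agent.Lib.S15.S15Defs
import Cfsg.Agent.Lib.S15.LN3
import Cfsg.Agent.Lib.S15.LSPLIT
import Cfsg.Agent.Lib.S15.LONEOP

/-! S4415 (design helper12), block E (designer helper16), piece ECRB1.
See plans/S4415_plan.md (section E) and plans/S4415_blockE.md. -/

set_option autoImplicit false
set_option linter.unusedSectionVars false

namespace Cfsg.Agent.Helper12.S15

variable {S : Type*} [Group S] [Finite S] {E : Type*} [AddCommGroup E] [Module (ZMod 3) E]
  [Finite E]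

/-- Let `g` be an operator of order prime to 3 commuting with `b` and fixing a non-zero vector `s` of
`[E,b]`.  Then `ker (g-1)` has at least 27 elements.
Proof: `oneop`: `E = ker(g-1) ⊕ range(g-1)`, both `b`-invariant; `split_rank`: `b` is trivial on one
summand and `[E,b]` lies in the other; `s ∈ [E,b] ∩ ker(g-1)`, `s ≠ 0` excludes `[E,b] ≤ range(g-1)`.
So `b` is trivial on `range(g-1)`.  Take `v` with `N²v ≠ 0` (`Setting.sq`, `N = ρ b - 1`), write
`v = v₁ + v₂`; then `N²v₁ ≠ 0`, and `v₁, Nv₁, N²v₁ ∈ ker(g-1)` are linearly independent (`N³ = 0`). -/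
theorem e_crb_ker (ρ : Representation (ZMod 3) S E) (b : S) (R Q : Subgroup S)
    (h : Setting ρ b R Q) (g : Module.End (ZMod 3) E) (k : ℕ) (hk : Nat.Coprime k 3)
    (hg : g ^ k = 1) (hgb : g * ρ b = ρ b * g) (s : E) (hs : s ∈ LinearMap.range (ρ b - 1))
    (hs0 : s ≠ 0) (hgs : g s = s) : 27 ≤ Nat.card ↥(LinearMap.ker (g - 1)) := by
  obtain ⟨hc, hsup⟩ := oneop g k hk hg
  have hgb' : ∀ v : E, g (ρ b v) = ρ b (g v) := by
    intro v
    have := congrArg (fun f : Module.End (ZMod 3) E => f v) hgb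
    simpa [Module.End.mul_apply] using this
  have hN : ∀ v : E, (ρ b - 1) v = ρ b v - v := by
    intro v
    rw [LinearMap.sub_apply, Module.End.one_apply]
  have hG : ∀ v : E, (g - 1) v = g v - v := by
    intro v
    rw [LinearMap.sub_apply, Module.End.one_apply]
  have hF : ∀ v ∈ LinearMap.ker (g - 1), ρ b v ∈ LinearMap.ker (g - 1) := by
    intro v hv
    rw [LinearMap.mem_ker, hG] at hv ⊢
    rw [hgb', ← map_sub, hv, map_zero]
  have hF' : ∀ v ∈ LinearMap.range (g - 1), ρ b v ∈ LinearMap.range (g - 1) := by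
    rintro v ⟨u, rfl⟩
    refine ⟨ρ b u, ?_⟩
    rw [hG, hG, hgb', map_sub]
  have hsker : s ∈ LinearMap.ker (g - 1) := by
    rw [LinearMap.mem_ker, hG, hgs, sub_self]
  rcases split_rank ρ b R Q h _ _ hc hsup hF hF' with ⟨_, h2⟩ | ⟨h1, h2⟩
  · exfalso
    apply hs0
    have : s ∈ LinearMap.ker (g - 1) ⊓ LinearMap.range (g - 1) := ⟨hsker, h2 hs⟩
    rw [hc] at this
    exact (Submodule.mem_bot _).mp this
  · obtain ⟨v, hv⟩ := h.sq
    have hvtop : v ∈ LinearMap.ker (g - 1) ⊔ LinearMap.range (g - 1) := by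
      rw [hsup]; exact Submodule.mem_top
    obtain ⟨v₁, hv₁, v₂, hv₂, rfl⟩ := Submodule.mem_sup.mp hvtop
    have hNv₂ : (ρ b - 1) v₂ = 0 := by rw [hN, h1 v₂ hv₂, sub_self]
    have hne : (ρ b - 1) ((ρ b - 1) v₁) ≠ 0 := by
      rw [map_add, hNv₂, add_zero] at hv
      exact hv
    set F := LinearMap.ker (g - 1) with hFdef
    have hNF : ∀ u ∈ F, (ρ b - 1) u ∈ F := by
      intro u hu
      rw [hN]
      exact F.sub_mem (hF u hu) hu
    have hm1 : (ρ b - 1) v₁ ∈ F := hNF v₁ hv₁
    have hm2 : (ρ b - 1) ((ρ b - 1) v₁) ∈ F := hNF _ hm1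
    have hcube : ∀ u : E, (ρ b - 1) ((ρ b - 1) ((ρ b - 1) u)) = 0 := n_cube ρ b R Q h
    -- independence
    have hind : ∀ x y z : ZMod 3,
        x • v₁ + y • (ρ b - 1) v₁ + z • (ρ b - 1) ((ρ b - 1) v₁) = 0 → x = 0 ∧ y = 0 ∧ z = 0 := by
      intro x y z h0
      have hx : x = 0 := by
        have := congrArg (fun u => (ρ b - 1) ((ρ b - 1) u)) h0
        simp only [map_add, map_smul, hcube, map_zero, smul_zero, add_zero] at this
        rcases smul_eq_zero.mp this with h' | h'
        · exact h'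
        · exact absurd h' hne
      subst hx
      rw [zero_smul, zero_add] at h0
      have hy : y = 0 := by
        have := congrArg (fun u => (ρ b - 1) u) h0
        simp only [map_add, map_smul, hcube, map_zero, smul_zero, add_zero] at this
        rcases smul_eq_zero.mp this with h' | h'
        · exact h'
        · exact absurd h' hne
      subst hy
      rw [zero_smul, zero_add] at h0
      rcases smul_eq_zero.mp h0 with h' | h'
      · exact ⟨rfl, rfl, h'⟩
      · exact absurd h' hne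
    have hcard : Nat.card (ZMod 3 × ZMod 3 × ZMod 3) = 27 := by
      rw [Nat.card_prod, Nat.card_prod, Nat.card_zmod]
    rw [← hcard]
    apply Nat.card_le_card_of_injective
      (fun p : ZMod 3 × ZMod 3 × ZMod 3 =>
        (⟨p.1 • v₁ + p.2.1 • (ρ b - 1) v₁ + p.2.2 • (ρ b - 1) ((ρ b - 1) v₁),
          F.add_mem (F.add_mem (F.smul_mem _ hv₁) (F.smul_mem _ hm1)) (F.smul_mem _ hm2)⟩ : ↥F))
    rintro ⟨x, y, z⟩ ⟨x', y', z'⟩ hp
    have hp' := congrArg Subtype.val hp
    simp only at hp'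
    have h0 : (x - x') • v₁ + (y - y') • (ρ b - 1) v₁ +
        (z - z') • (ρ b - 1) ((ρ b - 1) v₁) = 0 := by
      rw [sub_smul, sub_smul, sub_smul]
      have := sub_eq_zero.mpr hp'
      rw [← this]
      abel
    obtain ⟨e1, e2, e3⟩ := hind _ _ _ h0
    rw [sub_eq_zero] at e1 e2 e3
    rw [e1, e2, e3]

end Cfsg.Agent.Helper12.S15
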