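import Mathlib
import Cfsg.Agent.Lib.S15.S15Defs

/-! S4415 design (helper12), piece LDETINV.  See plans/S4415_plan.md. -/

set_option autoImplicit false

namespace Cfsg.Agent.Helper12.S15

/-- the determinant of an involution -/
theorem det_invol {E : Type*} [AddCommGroup E] [Module (ZMod 3) E] [Finite E]
    (f : Module.End (ZMod 3) E) (hf : f * f = 1) :
    LinearMap.det f = (-1) ^ Module.finrank (ZMod 3) ↥(LinearMap.ker (f + 1)) := by
  have hff : ∀ v : E, f (f v) = v := by
    intro v
    have := congrArg (fun g : Module.End (ZMod 3) E => g v) hf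
    simpa using this
  have h4 : ∀ v : E, (4 : ZMod 3) • v = v := by
    intro v
    have : (4 : ZMod 3) = 1 := by decide
    rw [this, one_smul]
  have h2 : ∀ v : E, (2 : ZMod 3) • v = 0 → v = 0 := by
    intro v hv
    have h1 : (2 : ZMod 3) • ((2 : ZMod 3) • v) = 0 := by rw [hv, smul_zero]
    rw [smul_smul] at h1
    have : (2 : ZMod 3) * 2 = 4 := by norm_num
    rw [this, h4] at h1
    exact h1
  set p : Submodule (ZMod 3) E := LinearMap.ker (f - 1) with hp
  set q : Submodule (ZMod 3) E := LinearMap.ker (f + 1) with hq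
  have hpmem : ∀ v : E, v ∈ p ↔ f v = v := by
    intro v
    rw [hp, LinearMap.mem_ker, LinearMap.sub_apply, sub_eq_zero]
    rfl
  have hqmem : ∀ v : E, v ∈ q ↔ f v = -v := by
    intro v
    rw [hq, LinearMap.mem_ker, LinearMap.add_apply, add_eq_zero_iff_eq_neg]
    rfl
  have hcompl : IsCompl p q := by
    constructor
    · rw [disjoint_iff, eq_bot_iff]
      intro v hv
      rw [Submodule.mem_inf, hpmem, hqmem] at hv
      rw [Submodule.mem_bot]
      apply h2
      have h1 : v = -v := hv.1.symm.trans hv.2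
      rw [two_smul]
      nth_rw 1 [h1]
      exact neg_add_cancel v
    · rw [codisjoint_iff, eq_top_iff]
      intro v _
      have h1 : v + f v ∈ p := by
        rw [hpmem, map_add, hff, add_comm]
      have h3 : v - f v ∈ q := by
        rw [hqmem, map_sub, hff, neg_sub]
      have h5 : v = (2 : ZMod 3) • (v + f v) + (2 : ZMod 3) • (v - f v) := by
        rw [← smul_add]
        have : v + f v + (v - f v) = (2 : ZMod 3) • v := by rw [two_smul]; abel
        rw [this, smul_smul]
        have : (2 : ZMod 3) * 2 = 4 := by norm_num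
        rw [this, h4]
      rw [h5]
      exact Submodule.add_mem _ (Submodule.mem_sup_left (p.smul_mem _ h1))
        (Submodule.mem_sup_right (q.smul_mem _ h3))
  set e : (↥p × ↥q) ≃ₗ[ZMod 3] E := Submodule.prodEquivOfIsCompl p q hcompl with he
  set g : Module.End (ZMod 3) (↥p × ↥q) :=
    LinearMap.prodMap (LinearMap.id : ↥p →ₗ[ZMod 3] ↥p)
      ((-1 : ZMod 3) • (LinearMap.id : ↥q →ₗ[ZMod 3] ↥q)) with hg
  have hconj : (e : (↥p × ↥q) →ₗ[ZMod 3] E) ∘ₗ g ∘ₗ (e.symm : E →ₗ[ZMod 3] (↥p × ↥q)) = f := by
    apply LinearMap.ext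
    intro v
    obtain ⟨⟨x, y⟩, rfl⟩ := e.surjective v
    simp only [LinearMap.comp_apply, LinearEquiv.coe_coe, LinearEquiv.symm_apply_apply]
    have hx := (hpmem x).mp x.2
    have hy := (hqmem y).mp y.2
    rw [hg, LinearMap.prodMap_apply, he, Submodule.coe_prodEquivOfIsCompl',
      Submodule.coe_prodEquivOfIsCompl', map_add, hx, hy]
    simp
  have hdet : LinearMap.det f = LinearMap.det g := by
    rw [← hconj, LinearMap.det_conj]
  rw [hdet, hg, LinearMap.det_prodMap, LinearMap.det_id, one_mul, LinearMap.det_smul,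
    LinearMap.det_id, mul_one]

end Cfsg.Agent.Helper12.S15
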