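import Mathlib
import Cfsg.Agent.Lib.S15.S15Defs
import Cfsg.Agent.Lib.S15.LONEOP
import Cfsg.Agent.Lib.S15.LDETINV
/-! S4415 (design helper12), block E (designer helper16), piece ECRB2 (implemented by helper11).
See plans/S4415_plan.md (section E) and plans/S4415_blockE.md. -/

set_option autoImplicit false
set_option linter.unusedSectionVars false

namespace Cfsg.Agent.Helper12.S15

variable {S : Type*} [Group S] [Finite S] {E : Type*} [AddCommGroup E] [Module (ZMod 3) E]
  [Finite E]

/-- `|E| = 27` and `|ker(g-1)| ≥ 27` force `g = 1`. -/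
theorem e_crb_triv (g : Module.End (ZMod 3) E) (hE : Nat.card E = 27)
    (hker : 27 ≤ Nat.card ↥(LinearMap.ker (g - 1))) : g = 1 := by
  have hbij : Function.Bijective (Subtype.val : ↥(LinearMap.ker (g - 1)) → E) :=
    Function.Injective.bijective_of_nat_card_le Subtype.val_injective (by rw [hE]; exact hker)
  apply LinearMap.ext
  intro v
  obtain ⟨w, rfl⟩ := hbij.2 v
  have h1 := w.2
  rw [LinearMap.mem_ker, LinearMap.sub_apply, sub_eq_zero] at h1
  exact h1

/-- `|E| = 81`, `g` of order prime to 3 with `|ker(g-1)| ≥ 27`: `g = 1` or `g` is a reflection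
(`det g = -1`).  Proof: `oneop` gives `|ker(g-1)|·|range(g-1)| = 81`; if `|range(g-1)| = 3 = ⟨w⟩`,
`g w = λ w` with `λ ≠ 1` (as `ker ⊓ range = ⊥`), `λ ≠ 0`, so `λ = -1`, `g * g = 1`, and `det_invol`
with `ker (g+1) = range (g-1)` of finrank 1. -/
theorem e_crb_refl (g : Module.End (ZMod 3) E) (k : ℕ) (hk : Nat.Coprime k 3) (hg : g ^ k = 1)
    (hE : Nat.card E = 81) (hker : 27 ≤ Nat.card ↥(LinearMap.ker (g - 1))) :
    g = 1 ∨ LinearMap.det g = -1 := by
  classical
  obtain ⟨hinf, hsup⟩ := oneop g k hk hg
  have hKmem : ∀ v : E, v ∈ LinearMap.ker (g - 1) ↔ g v = v := by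
    intro v
    rw [LinearMap.mem_ker, LinearMap.sub_apply, sub_eq_zero]
    rfl
  have hcompl : IsCompl (LinearMap.ker (g - 1)) (LinearMap.range (g - 1)) :=
    ⟨disjoint_iff.mpr hinf, codisjoint_iff.mpr hsup⟩
  have hcard : Nat.card ↥(LinearMap.ker (g - 1)) * Nat.card ↥(LinearMap.range (g - 1)) = 81 := by
    rw [← hE, ← Nat.card_prod]
    exact Nat.card_congr (Submodule.prodEquivOfIsCompl _ _ hcompl).toEquiv
  have hRg3 : Nat.card ↥(LinearMap.range (g - 1)) ≤ 3 := by
    by_contra h
    push Not at h
    have h1 : 27 * 4 ≤ Nat.card ↥(LinearMap.ker (g - 1)) * Nat.card ↥(LinearMap.range (g - 1)) :=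
      Nat.mul_le_mul hker h
    omega
  have hfr : Module.finrank (ZMod 3) ↥(LinearMap.range (g - 1)) ≤ 1 := by
    have h1 := Module.natCard_eq_pow_finrank (K := ZMod 3) (V := ↥(LinearMap.range (g - 1)))
    rw [Nat.card_zmod] at h1
    rw [h1] at hRg3
    by_contra h
    push Not at h
    have h2 : 3 ^ 2 ≤ 3 ^ Module.finrank (ZMod 3) ↥(LinearMap.range (g - 1)) :=
      Nat.pow_le_pow_right (by norm_num) h
    omega
  obtain ⟨w0, hw0⟩ := finrank_le_one_iff.mp hfr
  set w : E := (w0 : E) with hw
  have hwR : w ∈ LinearMap.range (g - 1) := w0.2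
  have hgen : ∀ b ∈ LinearMap.range (g - 1), ∃ c : ZMod 3, b = c • w := by
    intro b hb
    obtain ⟨c, hc⟩ := hw0 ⟨b, hb⟩
    refine ⟨c, ?_⟩
    have := congrArg Subtype.val hc
    simpa using this.symm
  by_cases hw00 : w = 0
  · -- the range is trivial
    left
    apply LinearMap.ext
    intro v
    obtain ⟨c, hc⟩ := hgen ((g - 1) v) (LinearMap.mem_range_self _ _)
    rw [hw00, smul_zero, LinearMap.sub_apply, sub_eq_zero] at hc
    exact hc
  · right
    -- `g w = lam • w`
    have hgwR : g w ∈ LinearMap.range (g - 1) := by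
      obtain ⟨u, hu⟩ := hwR
      refine ⟨g u, ?_⟩
      rw [← hu]
      simp only [LinearMap.sub_apply, Module.End.one_apply, map_sub]
    obtain ⟨lam, hlam⟩ := hgen (g w) hgwR
    have hlam1 : lam ≠ 1 := by
      intro h1
      rw [h1, one_smul] at hlam
      have h2 : w ∈ LinearMap.ker (g - 1) ⊓ LinearMap.range (g - 1) := ⟨(hKmem w).mpr hlam, hwR⟩
      rw [hinf, Submodule.mem_bot] at h2
      exact hw00 h2
    have hlam0 : lam ≠ 0 := by
      intro h0
      rw [h0, zero_smul] at hlam
      -- `g` is injective as `g ^ k = 1`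
      have hk0 : k ≠ 0 := by
        intro hk0
        rw [hk0] at hk
        simp at hk
      obtain ⟨k', rfl⟩ := Nat.exists_eq_succ_of_ne_zero hk0
      have h2 : (g ^ (k' + 1)) w = w := by rw [hg]; rfl
      rw [pow_succ, Module.End.mul_apply, hlam, map_zero] at h2
      exact hw00 h2.symm
    have hlamv : lam = -1 := by
      have hall : ∀ c : ZMod 3, c ≠ 1 → c ≠ 0 → c = -1 := by decide
      exact hall lam hlam1 hlam0
    rw [hlamv, neg_smul, one_smul] at hlam
    -- `g` inverts the range
    have hginv : ∀ b ∈ LinearMap.range (g - 1), g b = -b := by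
      intro b hb
      obtain ⟨c, rfl⟩ := hgen b hb
      rw [map_smul, hlam, smul_neg]
    have hdecomp : ∀ v : E, ∃ a ∈ LinearMap.ker (g - 1), ∃ b ∈ LinearMap.range (g - 1), a + b = v := by
      intro v
      have hv : v ∈ LinearMap.ker (g - 1) ⊔ LinearMap.range (g - 1) := by rw [hsup]; trivial
      exact Submodule.mem_sup.mp hv
    have hgg : g * g = 1 := by
      apply LinearMap.ext
      intro v
      obtain ⟨a, ha, b, hb, rfl⟩ := hdecomp v
      rw [Module.End.mul_apply, Module.End.one_apply, map_add, map_add, (hKmem a).mp ha,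
        (hKmem a).mp ha, hginv b hb, map_neg, hginv b hb, neg_neg]
    have hker2 : LinearMap.ker (g + 1) = LinearMap.range (g - 1) := by
      apply le_antisymm
      · intro v hv
        rw [LinearMap.mem_ker, LinearMap.add_apply, Module.End.one_apply] at hv
        obtain ⟨a, ha, b, hb, rfl⟩ := hdecomp v
        rw [map_add, (hKmem a).mp ha, hginv b hb] at hv
        have h2 : a + a = 0 := by
          have : a + -b + (a + b) = a + a := by abel
          rw [← this]; exact hv
        have h3 : a = 0 := by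
          have h4 : a + a + a = 0 := by
            have := ZModModule.char_nsmul_eq_zero 3 a
            rwa [succ_nsmul, succ_nsmul, one_nsmul] at this
          rw [h2, zero_add] at h4
          exact h4
        rw [h3, zero_add]
        exact hb
      · intro b hb
        rw [LinearMap.mem_ker, LinearMap.add_apply, Module.End.one_apply, hginv b hb,
          neg_add_cancel]
    have hfr1 : Module.finrank (ZMod 3) ↥(LinearMap.range (g - 1)) = 1 := by
      apply le_antisymm hfr
      rw [Nat.succ_le_iff, Module.finrank_pos_iff_exists_ne_zero]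
      refine ⟨w0, ?_⟩
      intro h0
      apply hw00
      rw [hw, h0]
      rfl
    rw [det_invol g hgg, hker2, hfr1, pow_one]

end Cfsg.Agent.Helper12.S15
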