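import Mathlib
import Cfsg.Agent.Lib.S15.S15Defs

/-! S4415 design (helper12), piece LDET.  See plans/S4415_plan.md. -/

set_option autoImplicit false

namespace Cfsg.Agent.Helper12.S15

/-- `det ρ(r) = 1` on `R` (generation principle) -/
theorem det_one {S : Type*} [Group S] [Finite S] {E : Type*} [AddCommGroup E]
    [Module (ZMod 3) E] [Finite E] (ρ : Representation (ZMod 3) S E) (b : S) (R Q : Subgroup S) (h : Setting ρ b R Q) : ∀ r ∈ R, LinearMap.det (ρ r) = 1 := by
  -- the determinant character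
  let d : S →* ZMod 3 := (LinearMap.det : (E →ₗ[ZMod 3] E) →* ZMod 3).comp ρ
  have hd : ∀ g : S, d g = LinearMap.det (ρ g) := fun g => rfl
  have hle : R ≤ d.ker := by
    apply h.gen
    intro r _
    rw [MonoidHom.mem_ker, map_mul, map_mul, map_mul]
    have h1 : d r⁻¹ * d r = 1 := by rw [← map_mul, inv_mul_cancel, map_one]
    have h2 : d b * d b⁻¹ = 1 := by rw [← map_mul, mul_inv_cancel, map_one]
    calc d r⁻¹ * (d b * d r * d b⁻¹) = (d r⁻¹ * d r) * (d b * d b⁻¹) := by ring
      _ = 1 := by rw [h1, h2, one_mul]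
  intro r hr
  have := hle hr
  rw [MonoidHom.mem_ker] at this
  rw [← hd]
  exact this

end Cfsg.Agent.Helper12.S15
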