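import Mathlib
import Cfsg.Agent.Lib.S15.S15Defs
import Cfsg.Agent.Lib.S15.LN3

/-! S4415 design (helper12), piece LFTAB.  See plans/S4415_plan.md. -/

set_option autoImplicit false

namespace Cfsg.Agent.Helper12.S15

theorem lftab_mul_apply {S : Type*} [Group S] {E : Type*} [AddCommGroup E]
    [Module (ZMod 3) E] (ρ : Representation (ZMod 3) S E) (a c : S) (v : E) :
    ρ (a * c) v = ρ a (ρ c v) := by
  rw [map_mul, Module.End.mul_apply]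

theorem lftab_swap {S : Type*} [Group S] {E : Type*} [AddCommGroup E]
    [Module (ZMod 3) E] (ρ : Representation (ZMod 3) S E) {b q q' : S} (hq : b * q * b⁻¹ = q')
    (v : E) : ρ q' (ρ b v) = ρ b (ρ q v) := by
  rw [← lftab_mul_apply, ← lftab_mul_apply]
  congr 2
  rw [← hq]
  group

/-- the action table of `Q` on the frame vectors -/
theorem frame_table {S : Type*} [Group S] [Finite S] {E : Type*} [AddCommGroup E]
    [Module (ZMod 3) E] [Finite E] (ρ : Representation (ZMod 3) S E) (b : S) (R Q : Subgroup S) (h : Setting ρ b R Q) (q₁ q₂ q₃ : S) (e₁ e₂ e₃ : E) (f : QFrame ρ b Q q₁ q₂ q₃ e₁ e₂ e₃) :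
    ρ q₃ e₁ = -e₁ ∧ ρ q₁ e₂ = -e₂ ∧ ρ q₂ e₂ = e₂ ∧ ρ q₃ e₂ = -e₂ ∧
      ρ q₁ e₃ = -e₃ ∧ ρ q₂ e₃ = -e₃ ∧ ρ q₃ e₃ = e₃ ∧ e₂ ≠ 0 ∧ e₃ ≠ 0 := by
  have h31 : ρ q₃ e₁ = -e₁ := by
    rw [← f.q12, lftab_mul_apply, f.q₂e₁, map_neg, f.q₁e₁]
  have h22 : ρ q₂ e₂ = e₂ := by
    rw [← f.be₁, lftab_swap ρ f.bq₁, f.q₁e₁]
  have h32 : ρ q₃ e₂ = -e₂ := by
    rw [← f.be₁, lftab_swap ρ f.bq₂, f.q₂e₁, map_neg]
  have h12 : ρ q₁ e₂ = -e₂ := by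
    rw [← f.be₁, lftab_swap ρ f.bq₃, h31, map_neg]
  have h33 : ρ q₃ e₃ = e₃ := by
    rw [← f.be₂, lftab_swap ρ f.bq₂, h22]
  have h13 : ρ q₁ e₃ = -e₃ := by
    rw [← f.be₂, lftab_swap ρ f.bq₃, h32, map_neg]
  have h23 : ρ q₂ e₃ = -e₃ := by
    rw [← f.be₂, lftab_swap ρ f.bq₁, h12, map_neg]
  have he3 : e₃ ≠ 0 := by
    intro h0
    apply f.e₁0
    rw [← f.be₃, h0, map_zero]
  have he2 : e₂ ≠ 0 := by
    intro h0
    apply he3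
    rw [← f.be₂, h0, map_zero]
  exact ⟨h31, h12, h22, h32, h13, h23, h33, he2, he3⟩

/-- the other two weight spaces are the lines through `e₂`, `e₃` -/
theorem frame_lines {S : Type*} [Group S] [Finite S] {E : Type*} [AddCommGroup E]
    [Module (ZMod 3) E] [Finite E] (ρ : Representation (ZMod 3) S E) (b : S) (R Q : Subgroup S) (h : Setting ρ b R Q) (q₁ q₂ q₃ : S) (e₁ e₂ e₃ : E) (f : QFrame ρ b Q q₁ q₂ q₃ e₁ e₂ e₃) :
    (∀ v : E, ρ q₂ v = v → ρ q₃ v = -v → ∃ c : ZMod 3, v = c • e₂) ∧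
      (∀ v : E, ρ q₃ v = v → ρ q₁ v = -v → ∃ c : ZMod 3, v = c • e₃) := by
  constructor
  · intro v h2 h3
    have hu1 : ρ q₁ (ρ b (ρ b v)) = ρ b (ρ b v) := by
      rw [lftab_swap ρ f.bq₃, lftab_swap ρ f.bq₂, h2]
    have hu2 : ρ q₂ (ρ b (ρ b v)) = -(ρ b (ρ b v)) := by
      rw [lftab_swap ρ f.bq₁, lftab_swap ρ f.bq₃, h3, map_neg, map_neg]
    obtain ⟨c, hc⟩ := f.line _ hu1 hu2
    refine ⟨c, ?_⟩
    have h3' := rho_b_cube ρ b R Q h v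
    rw [← h3', hc, map_smul, f.be₁]
  · intro v h3 h1
    have hu1 : ρ q₁ (ρ b v) = ρ b v := by
      rw [lftab_swap ρ f.bq₃, h3]
    have hu2 : ρ q₂ (ρ b v) = -(ρ b v) := by
      rw [lftab_swap ρ f.bq₁, h1, map_neg]
    obtain ⟨c, hc⟩ := f.line _ hu1 hu2
    refine ⟨c, ?_⟩
    have h3' := rho_b_cube ρ b R Q h v
    rw [← h3', hc, map_smul, map_smul, f.be₁, f.be₂]

end Cfsg.Agent.Helper12.S15
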