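import Mathlib
import Cfsg.Agent.Lib.S15.S15Defs
import Cfsg.Agent.Lib.S15.LFTAB

/-! S4415 design (helper12), piece LFIND.  See plans/S4415_plan.md. -/

set_option autoImplicit false

namespace Cfsg.Agent.Helper12.S15

/-- the frame vectors are linearly independent, even modulo `C_E(Q)` -/
theorem frame_indep {S : Type*} [Group S] [Finite S] {E : Type*} [AddCommGroup E]
    [Module (ZMod 3) E] [Finite E] (ρ : Representation (ZMod 3) S E) (b : S) (R Q : Subgroup S) (h : Setting ρ b R Q) (q₁ q₂ q₃ : S) (e₁ e₂ e₃ : E) (f : QFrame ρ b Q q₁ q₂ q₃ e₁ e₂ e₃)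
    (w : E) (hw : w ∈ fixS ρ Q) (x y z : ZMod 3) (h0 : w + x • e₁ + y • e₂ + z • e₃ = 0) :
    w = 0 ∧ x = 0 ∧ y = 0 ∧ z = 0 := by
  obtain ⟨t31, t12, t22, t32, t13, t23, t33, he2, he3⟩ :=
    frame_table ρ b R Q h q₁ q₂ q₃ e₁ e₂ e₃ f
  have hq1w : ρ q₁ w = w := (mem_fixS ρ Q w).mp hw q₁ f.q₁Q
  have hq2w : ρ q₂ w = w := (mem_fixS ρ Q w).mp hw q₂ f.q₂Q
  have hq3w : ρ q₃ w = w := (mem_fixS ρ Q w).mp hw q₃ f.q₃Q
  have h1 : w + x • e₁ - y • e₂ - z • e₃ = 0 := by
    have := congrArg (ρ q₁) h0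
    simp only [map_add, map_smul, map_zero, hq1w, f.q₁e₁, t12, t13, smul_neg] at this
    rw [← this]; abel
  have h2 : w - x • e₁ + y • e₂ - z • e₃ = 0 := by
    have := congrArg (ρ q₂) h0
    simp only [map_add, map_smul, map_zero, hq2w, f.q₂e₁, t22, t23, smul_neg] at this
    rw [← this]; abel
  have h3 : w - x • e₁ - y • e₂ + z • e₃ = 0 := by
    have := congrArg (ρ q₃) h0
    simp only [map_add, map_smul, map_zero, hq3w, t31, t32, t33, smul_neg] at this
    rw [← this]; abel
  have hw0 : w = 0 := by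
    have h4 : (4 : ZMod 3) • w = 0 := by
      have : (4 : ZMod 3) • w = (w + x • e₁ + y • e₂ + z • e₃) + (w + x • e₁ - y • e₂ - z • e₃)
          + (w - x • e₁ + y • e₂ - z • e₃) + (w - x • e₁ - y • e₂ + z • e₃) := by
        module
      rw [this, h0, h1, h2, h3]; simp
    exact (smul_eq_zero.mp h4).resolve_left (by decide)
  have hx : x = 0 := by
    have h4 : (2 : ZMod 3) • (x • e₁) = 0 := by
      have : (2 : ZMod 3) • (x • e₁) = (w + x • e₁ + y • e₂ + z • e₃)
          + (w + x • e₁ - y • e₂ - z • e₃) - (2 : ZMod 3) • w := by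
        module
      rw [this, h0, h1, hw0]; simp
    have := (smul_eq_zero.mp h4).resolve_left (by decide)
    exact (smul_eq_zero.mp this).resolve_right f.e₁0
  have hy : y = 0 := by
    have h4 : (2 : ZMod 3) • (y • e₂) = 0 := by
      have : (2 : ZMod 3) • (y • e₂) = (w + x • e₁ + y • e₂ + z • e₃)
          + (w - x • e₁ + y • e₂ - z • e₃) - (2 : ZMod 3) • w := by
        module
      rw [this, h0, h2, hw0]; simp
    have := (smul_eq_zero.mp h4).resolve_left (by decide)
    exact (smul_eq_zero.mp this).resolve_right he2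
  have hz : z = 0 := by
    have h4 : (2 : ZMod 3) • (z • e₃) = 0 := by
      have : (2 : ZMod 3) • (z • e₃) = (w + x • e₁ + y • e₂ + z • e₃)
          + (w - x • e₁ - y • e₂ + z • e₃) - (2 : ZMod 3) • w := by
        module
      rw [this, h0, h3, hw0]; simp
    have := (smul_eq_zero.mp h4).resolve_left (by decide)
    exact (smul_eq_zero.mp this).resolve_right he3
  exact ⟨hw0, hx, hy, hz⟩

end Cfsg.Agent.Helper12.S15
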