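import Mathlib
import Cfsg.Agent.Lib.S15.S15Defs
import Cfsg.Agent.Lib.S15.LFTAB
import Cfsg.Agent.Lib.S15.LFIND

/-! S4415 design (helper12), piece LFDEC.  See plans/S4415_plan.md. -/

set_option autoImplicit false

namespace Cfsg.Agent.Helper12.S15

/-- the multiplication table of the four-group -/
theorem lfdec_table {S : Type*} [Group S] [Finite S] {E : Type*} [AddCommGroup E]
    [Module (ZMod 3) E] [Finite E] (ρ : Representation (ZMod 3) S E) (b : S) (R Q : Subgroup S) (h : Setting ρ b R Q) (q₁ q₂ q₃ : S) (e₁ e₂ e₃ : E) (f : QFrame ρ b Q q₁ q₂ q₃ e₁ e₂ e₃) :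
    q₁ * q₁ = 1 ∧ q₂ * q₂ = 1 ∧ q₃ * q₃ = 1 ∧ q₁ * q₃ = q₂ ∧ q₃ * q₁ = q₂ ∧ q₂ * q₃ = q₁ ∧
      q₃ * q₂ = q₁ := by
  have s1 : q₁ * q₁ = 1 := by rw [← pow_two]; exact h.Q2 q₁ f.q₁Q
  have s2 : q₂ * q₂ = 1 := by rw [← pow_two]; exact h.Q2 q₂ f.q₂Q
  have s3 : q₃ * q₃ = 1 := by rw [← pow_two]; exact h.Q2 q₃ f.q₃Q
  refine ⟨s1, s2, s3, ?_, ?_, ?_, ?_⟩
  · rw [← f.q12, ← mul_assoc, s1, one_mul]
  · rw [← f.q21, mul_assoc, s1, mul_one]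
  · rw [← f.q21, ← mul_assoc, s2, one_mul]
  · rw [← f.q12, mul_assoc, s2, mul_one]

/-- `E = C_E(Q) ⊕ ⟨e₁,e₂,e₃⟩` -/
theorem frame_decomp {S : Type*} [Group S] [Finite S] {E : Type*} [AddCommGroup E]
    [Module (ZMod 3) E] [Finite E] (ρ : Representation (ZMod 3) S E) (b : S) (R Q : Subgroup S) (h : Setting ρ b R Q) (q₁ q₂ q₃ : S) (e₁ e₂ e₃ : E) (f : QFrame ρ b Q q₁ q₂ q₃ e₁ e₂ e₃) (v : E) :
    ∃ w ∈ fixS ρ Q, ∃ x y z : ZMod 3, v = w + x • e₁ + y • e₂ + z • e₃ := by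
  obtain ⟨m11, m22, m33, m13, m31, m23, m32⟩ := lfdec_table ρ b R Q h q₁ q₂ q₃ e₁ e₂ e₃ f
  have hmul : ∀ (a c : S) (u : E), ρ a (ρ c u) = ρ (a * c) u := fun a c u =>
    (lftab_mul_apply ρ a c u).symm
  have h11 : ρ q₁ (ρ q₁ v) = v := by rw [hmul, m11, map_one]; rfl
  have h22 : ρ q₂ (ρ q₂ v) = v := by rw [hmul, m22, map_one]; rfl
  have h33 : ρ q₃ (ρ q₃ v) = v := by rw [hmul, m33, map_one]; rfl
  have h12 : ρ q₁ (ρ q₂ v) = ρ q₃ v := by rw [hmul, f.q12]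
  have h21 : ρ q₂ (ρ q₁ v) = ρ q₃ v := by rw [hmul, f.q21]
  have h13 : ρ q₁ (ρ q₃ v) = ρ q₂ v := by rw [hmul, m13]
  have h31 : ρ q₃ (ρ q₁ v) = ρ q₂ v := by rw [hmul, m31]
  have h23 : ρ q₂ (ρ q₃ v) = ρ q₁ v := by rw [hmul, m23]
  have h32 : ρ q₃ (ρ q₂ v) = ρ q₁ v := by rw [hmul, m32]
  -- the four components
  have hc1 : ρ q₁ (v + ρ q₁ v + ρ q₂ v + ρ q₃ v) = v + ρ q₁ v + ρ q₂ v + ρ q₃ v := by
    simp only [map_add, h11, h12, h13]; abel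
  have hc2 : ρ q₂ (v + ρ q₁ v + ρ q₂ v + ρ q₃ v) = v + ρ q₁ v + ρ q₂ v + ρ q₃ v := by
    simp only [map_add, h21, h22, h23]; abel
  have hc3 : ρ q₃ (v + ρ q₁ v + ρ q₂ v + ρ q₃ v) = v + ρ q₁ v + ρ q₂ v + ρ q₃ v := by
    simp only [map_add, h31, h32, h33]; abel
  have hcfix : v + ρ q₁ v + ρ q₂ v + ρ q₃ v ∈ fixS ρ Q := by
    rw [mem_fixS]
    intro q hq
    rcases f.Qmem q hq with rfl | rfl | rfl | rfl
    · rw [map_one]; rfl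
    · exact hc1
    · exact hc2
    · exact hc3
  have hu1a : ρ q₁ (v + ρ q₁ v - ρ q₂ v - ρ q₃ v) = v + ρ q₁ v - ρ q₂ v - ρ q₃ v := by
    simp only [map_add, map_sub, h11, h12, h13]; abel
  have hu1b : ρ q₂ (v + ρ q₁ v - ρ q₂ v - ρ q₃ v) = -(v + ρ q₁ v - ρ q₂ v - ρ q₃ v) := by
    simp only [map_add, map_sub, h21, h22, h23]; abel
  have hu2a : ρ q₂ (v - ρ q₁ v + ρ q₂ v - ρ q₃ v) = v - ρ q₁ v + ρ q₂ v - ρ q₃ v := by
    simp only [map_add, map_sub, h21, h22, h23]; abel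
  have hu2b : ρ q₃ (v - ρ q₁ v + ρ q₂ v - ρ q₃ v) = -(v - ρ q₁ v + ρ q₂ v - ρ q₃ v) := by
    simp only [map_add, map_sub, h31, h32, h33]; abel
  have hu3a : ρ q₃ (v - ρ q₁ v - ρ q₂ v + ρ q₃ v) = v - ρ q₁ v - ρ q₂ v + ρ q₃ v := by
    simp only [map_add, map_sub, h31, h32, h33]; abel
  have hu3b : ρ q₁ (v - ρ q₁ v - ρ q₂ v + ρ q₃ v) = -(v - ρ q₁ v - ρ q₂ v + ρ q₃ v) := by
    simp only [map_add, map_sub, h11, h12, h13]; abel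
  obtain ⟨x, hx⟩ := f.line _ hu1a hu1b
  obtain ⟨y, hy⟩ := (frame_lines ρ b R Q h q₁ q₂ q₃ e₁ e₂ e₃ f).1 _ hu2a hu2b
  obtain ⟨z, hz⟩ := (frame_lines ρ b R Q h q₁ q₂ q₃ e₁ e₂ e₃ f).2 _ hu3a hu3b
  refine ⟨v + ρ q₁ v + ρ q₂ v + ρ q₃ v, hcfix, x, y, z, ?_⟩
  rw [← hx, ← hy, ← hz]
  have h4 : (v + ρ q₁ v + ρ q₂ v + ρ q₃ v) + (v + ρ q₁ v - ρ q₂ v - ρ q₃ v)
      + (v - ρ q₁ v + ρ q₂ v - ρ q₃ v) + (v - ρ q₁ v - ρ q₂ v + ρ q₃ v) = (4 : ZMod 3) • v := by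
    module
  rw [h4]
  have : (4 : ZMod 3) = 1 := by decide
  rw [this, one_smul]

/-- `[E,Q] = ⟨e₁,e₂,e₃⟩` -/
theorem comS_Q_eq {S : Type*} [Group S] [Finite S] {E : Type*} [AddCommGroup E]
    [Module (ZMod 3) E] [Finite E] (ρ : Representation (ZMod 3) S E) (b : S) (R Q : Subgroup S) (h : Setting ρ b R Q) (q₁ q₂ q₃ : S) (e₁ e₂ e₃ : E) (f : QFrame ρ b Q q₁ q₂ q₃ e₁ e₂ e₃) (v : E) :
    v ∈ comS ρ Q ↔ ∃ x y z : ZMod 3, v = x • e₁ + y • e₂ + z • e₃ := by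
  obtain ⟨t31, t12, t22, t32, t13, t23, t33, -, -⟩ := frame_table ρ b R Q h q₁ q₂ q₃ e₁ e₂ e₃ f
  constructor
  · intro hv
    unfold comS at hv
    refine Submodule.span_induction (p := fun u _ => ∃ x y z : ZMod 3, u = x • e₁ + y • e₂ + z • e₃)
      ?_ ?_ ?_ ?_ hv
    · rintro u ⟨t, ht, u', rfl⟩
      obtain ⟨w, hw, x, y, z, rfl⟩ := frame_decomp ρ b R Q h q₁ q₂ q₃ e₁ e₂ e₃ f u'
      have hq1w : ρ q₁ w = w := (mem_fixS ρ Q w).mp hw q₁ f.q₁Q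
      have hq2w : ρ q₂ w = w := (mem_fixS ρ Q w).mp hw q₂ f.q₂Q
      have hq3w : ρ q₃ w = w := (mem_fixS ρ Q w).mp hw q₃ f.q₃Q
      rcases f.Qmem t ht with rfl | rfl | rfl | rfl
      · refine ⟨0, 0, 0, ?_⟩
        rw [map_one]
        simp
      · refine ⟨0, -2 * y, -2 * z, ?_⟩
        simp only [map_add, map_smul, hq1w, f.q₁e₁, t12, t13, smul_neg]
        module
      · refine ⟨-2 * x, 0, -2 * z, ?_⟩
        simp only [map_add, map_smul, hq2w, f.q₂e₁, t22, t23, smul_neg]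
        module
      · refine ⟨-2 * x, -2 * y, 0, ?_⟩
        simp only [map_add, map_smul, hq3w, t31, t32, t33, smul_neg]
        module
    · exact ⟨0, 0, 0, by simp⟩
    · rintro u1 u2 - - ⟨x1, y1, z1, rfl⟩ ⟨x2, y2, z2, rfl⟩
      exact ⟨x1 + x2, y1 + y2, z1 + z2, by module⟩
    · rintro c u - ⟨x1, y1, z1, rfl⟩
      exact ⟨c * x1, c * y1, c * z1, by module⟩
  · rintro ⟨x, y, z, rfl⟩
    have hneg2 : (-2 : ZMod 3) = 1 := by decide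
    have he1 : e₁ ∈ comS ρ Q := by
      have h1 := sub_mem_comS ρ Q f.q₂Q e₁
      rw [f.q₂e₁] at h1
      have h2 : -e₁ - e₁ = (-2 : ZMod 3) • e₁ := by module
      rwa [h2, hneg2, one_smul] at h1
    have he2 : e₂ ∈ comS ρ Q := by
      have h1 := sub_mem_comS ρ Q f.q₁Q e₂
      rw [t12] at h1
      have h2 : -e₂ - e₂ = (-2 : ZMod 3) • e₂ := by module
      rwa [h2, hneg2, one_smul] at h1
    have he3 : e₃ ∈ comS ρ Q := by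
      have h1 := sub_mem_comS ρ Q f.q₁Q e₃
      rw [t13] at h1
      have h2 : -e₃ - e₃ = (-2 : ZMod 3) • e₃ := by module
      rwa [h2, hneg2, one_smul] at h1
    exact Submodule.add_mem _ (Submodule.add_mem _ (Submodule.smul_mem _ _ he1)
      (Submodule.smul_mem _ _ he2)) (Submodule.smul_mem _ _ he3)

end Cfsg.Agent.Helper12.S15
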