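import Mathlib
import Cfsg.Agent.Lib.S15.S15Defs
import Cfsg.Agent.Lib.S15.LFTAB
import Cfsg.Agent.Lib.S15.LFIND
import Cfsg.Agent.Lib.S15.LFDEC
import Cfsg.Agent.Lib.S15.LCORA

/-! S4415 design (helper12), piece LFKER.  See plans/S4415_plan.md. -/

set_option autoImplicit false

namespace Cfsg.Agent.Helper12.S15

theorem lfker_sub_one_apply {S : Type*} [Group S] {E : Type*} [AddCommGroup E]
    [Module (ZMod 3) E] (ρ : Representation (ZMod 3) S E) (b : S) (v : E) :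
    (ρ b - 1) v = ρ b v - v := by
  rw [LinearMap.sub_apply, Module.End.one_apply]

/-- `C_E(b) = C_E(Q) ⊕ ⟨e₁+e₂+e₃⟩` -/
theorem frame_ker {S : Type*} [Group S] [Finite S] {E : Type*} [AddCommGroup E]
    [Module (ZMod 3) E] [Finite E] (ρ : Representation (ZMod 3) S E) (b : S) (R Q : Subgroup S) (h : Setting ρ b R Q) (q₁ q₂ q₃ : S) (e₁ e₂ e₃ : E) (f : QFrame ρ b Q q₁ q₂ q₃ e₁ e₂ e₃) (v : E) :
    ρ b v = v ↔ ∃ w ∈ fixS ρ Q, ∃ x : ZMod 3, v = w + x • (e₁ + e₂ + e₃) := by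
  constructor
  · intro hv
    obtain ⟨w, hw, x, y, z, rfl⟩ := frame_decomp ρ b R Q h q₁ q₂ q₃ e₁ e₂ e₃ f v
    have hbw : ρ b w = w := (b_fix_fixQ ρ b R Q h).1 w hw
    have h0 : (0 : E) + (z - x) • e₁ + (x - y) • e₂ + (y - z) • e₃ = 0 := by
      have h1 : ρ b (w + x • e₁ + y • e₂ + z • e₃) - (w + x • e₁ + y • e₂ + z • e₃) = 0 := by
        rw [hv, sub_self]
      rw [map_add, map_add, map_add, map_smul, map_smul, map_smul, hbw, f.be₁, f.be₂, f.be₃] at h1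
      have h2 : (0 : E) + (z - x) • e₁ + (x - y) • e₂ + (y - z) • e₃
          = w + x • e₂ + y • e₃ + z • e₁ - (w + x • e₁ + y • e₂ + z • e₃) := by
        simp only [sub_smul]
        abel
      rw [h2, h1]
    obtain ⟨-, hzx, hxy, -⟩ :=
      frame_indep ρ b R Q h q₁ q₂ q₃ e₁ e₂ e₃ f 0 (Submodule.zero_mem _) _ _ _ h0
    have e1 : z = x := sub_eq_zero.mp hzx
    have e2 : y = x := (sub_eq_zero.mp hxy).symm
    refine ⟨w, hw, x, ?_⟩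
    rw [e1, e2, smul_add, smul_add]
    abel
  · rintro ⟨w, hw, x, rfl⟩
    have hbw : ρ b w = w := (b_fix_fixQ ρ b R Q h).1 w hw
    rw [map_add, map_smul, map_add, map_add, hbw, f.be₁, f.be₂, f.be₃]
    congr 2
    abel

/-- `[E,b] = ⟨e₂-e₁, e₃-e₂⟩` -/
theorem frame_range {S : Type*} [Group S] [Finite S] {E : Type*} [AddCommGroup E]
    [Module (ZMod 3) E] [Finite E] (ρ : Representation (ZMod 3) S E) (b : S) (R Q : Subgroup S) (h : Setting ρ b R Q) (q₁ q₂ q₃ : S) (e₁ e₂ e₃ : E) (f : QFrame ρ b Q q₁ q₂ q₃ e₁ e₂ e₃) (v : E) :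
    v ∈ LinearMap.range (ρ b - 1) ↔ ∃ x y : ZMod 3, v = x • (e₂ - e₁) + y • (e₃ - e₂) := by
  constructor
  · rintro ⟨u, rfl⟩
    obtain ⟨w, hw, x, y, z, rfl⟩ := frame_decomp ρ b R Q h q₁ q₂ q₃ e₁ e₂ e₃ f u
    have hbw : ρ b w = w := (b_fix_fixQ ρ b R Q h).1 w hw
    refine ⟨x - z, y - z, ?_⟩
    rw [lfker_sub_one_apply, map_add, map_add, map_add, map_smul, map_smul, map_smul, hbw,
      f.be₁, f.be₂, f.be₃]
    simp only [sub_smul, smul_sub]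
    abel
  · rintro ⟨x, y, rfl⟩
    refine ⟨x • e₁ + y • e₂, ?_⟩
    rw [lfker_sub_one_apply, map_add, map_smul, map_smul, f.be₁, f.be₂]
    simp only [smul_sub]
    abel

theorem frame_s_mem {S : Type*} [Group S] [Finite S] {E : Type*} [AddCommGroup E]
    [Module (ZMod 3) E] [Finite E] (ρ : Representation (ZMod 3) S E) (b : S) (R Q : Subgroup S) (h : Setting ρ b R Q) (q₁ q₂ q₃ : S) (e₁ e₂ e₃ : E) (f : QFrame ρ b Q q₁ q₂ q₃ e₁ e₂ e₃) :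
    e₁ + e₂ + e₃ ∈ LinearMap.range (ρ b - 1) ∧ e₁ + e₂ + e₃ ≠ 0 ∧ ρ b (e₁ + e₂ + e₃) = e₁ + e₂ + e₃ := by
  refine ⟨?_, ?_, ?_⟩
  · refine ⟨(ρ b - 1) e₁, ?_⟩
    rw [n_sq ρ b R Q h e₁, f.be₁, f.be₂]
  · intro h0
    have h1 : (0 : E) + (1 : ZMod 3) • e₁ + (1 : ZMod 3) • e₂ + (1 : ZMod 3) • e₃ = 0 := by
      rw [one_smul, one_smul, one_smul, zero_add]
      exact h0
    obtain ⟨-, hx, -, -⟩ :=
      frame_indep ρ b R Q h q₁ q₂ q₃ e₁ e₂ e₃ f 0 (Submodule.zero_mem _) _ _ _ h1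
    exact one_ne_zero hx
  · rw [map_add, map_add, f.be₁, f.be₂, f.be₃]
    abel

end Cfsg.Agent.Helper12.S15
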