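import Mathlib
import Cfsg.Agent.Lib.S15.S15Defs
import Cfsg.Agent.Lib.Helper22.NGFrame

/-! S4415 design (helper12), piece GQGRP.  See plans/S4415_plan.md. -/

set_option autoImplicit false

namespace Cfsg.Agent.Helper12.S15

/-- the three involutions of `Q`, cycled by `b` (group-theoretic, no module) -/
theorem g_exists_q {S : Type*} [Group S] (b : S) (hb3 : b ^ 3 = 1) (Q : Subgroup S)
    (hQ4 : Nat.card ↥Q = 4) (hQ2 : ∀ q ∈ Q, q ^ 2 = 1) (hbQ : ∀ q ∈ Q, b * q * b⁻¹ ∈ Q)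
    (hbQ' : ∃ q ∈ Q, b * q * b⁻¹ ≠ q) :
    ∃ q₁ q₂ q₃ : S, q₁ ∈ Q ∧ q₂ ∈ Q ∧ q₃ ∈ Q ∧ (∀ q ∈ Q, q = 1 ∨ q = q₁ ∨ q = q₂ ∨ q = q₃) ∧
      q₁ ≠ 1 ∧ q₁ * q₂ = q₃ ∧ q₂ * q₁ = q₃ ∧ b * q₁ * b⁻¹ = q₂ ∧ b * q₂ * b⁻¹ = q₃ ∧
      b * q₃ * b⁻¹ = q₁ := by
  -- `Q` is elementary abelian (exponent 2)
  have hQel : Cfsg.IsElementaryAbelian 2 Q := by
    refine ⟨⟨⟨?_⟩⟩, hQ2⟩
    rintro ⟨x, hx⟩ ⟨y, hy⟩
    apply Subtype.ext
    change x * y = y * x
    have h1 := hQ2 x hx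
    have h2 := hQ2 y hy
    have h3 := hQ2 (x * y) (Q.mul_mem hx hy)
    rw [pow_two] at h1 h2 h3
    calc x * y = (y * y) * (x * y) * (x * x) := by rw [h1, h2, one_mul, mul_one]
      _ = y * ((y * x) * (y * x)) * x := by group
      _ = y * (x * y * (x * y))⁻¹⁻¹ * x := by
          rw [inv_inv]
          have e : y * x * (y * x) = (x * y * (x * y))⁻¹⁻¹ → True := fun _ => trivial
          -- (y x)(y x) = ((x y)(x y))^{-1} ^ {-1}: both are 1
          have e1 : y * x * (y * x) = 1 := by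
            have : y * x = (x * y)⁻¹ := by
              rw [mul_inv_rev]
              have hx' : x⁻¹ = x := inv_eq_of_mul_eq_one_left h1
              have hy' : y⁻¹ = y := inv_eq_of_mul_eq_one_left h2
              rw [hx', hy']
            rw [this, ← mul_inv_rev, h3, inv_one]
          rw [e1, h3]
      _ = y * x := by rw [inv_inv, h3, mul_one]
  have hbn : b ∈ Subgroup.normalizer (Q : Set S) := by
    rw [Subgroup.mem_normalizer_iff]
    intro q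
    constructor
    · exact hbQ q
    · intro hq
      -- q = b⁻¹ (b q b⁻¹) b, and b⁻¹ = b * b
      have h1 := hbQ _ hq
      have e : b * (b * (b * q * b⁻¹) * b⁻¹) * b⁻¹ = b ^ 3 * q * (b ^ 3)⁻¹ := by
        simp only [pow_succ, pow_zero, one_mul, mul_inv_rev, mul_assoc]
      have h2 := hbQ _ h1
      rw [e, hb3] at h2
      simpa using h2
  have hbQ'' : ∃ q ∈ Q, b⁻¹ * q * b ≠ q := by
    obtain ⟨q, hq, hne⟩ := hbQ'
    refine ⟨q, hq, ?_⟩
    intro h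
    apply hne
    calc b * q * b⁻¹ = b * (b⁻¹ * q * b) * b⁻¹ := by rw [h]
      _ = q := by group
  obtain ⟨x₁, x₂, x₃, h1, h2, h3, n1, -, -, -, -, -, c12, c23, c31, p12, -, -, -, -, -, k12, -, -, hall⟩ :=
    Cfsg.Agent.Helper22.NGF.four_group_cycle Q hQel hQ4 b hb3 hbn hbQ''
  exact ⟨x₁, x₂, x₃, h1, h2, h3, hall, n1, p12, by rw [← k12]; exact p12, c12, c23, c31⟩

end Cfsg.Agent.Helper12.S15
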