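import Mathlib
import Cfsg.Agent.Lib.S15.S15Defs
import Cfsg.Agent.Lib.S15.GQGRP

/-! S4415 design (helper12), piece LQGRP.  See plans/S4415_plan.md. -/

set_option autoImplicit false

namespace Cfsg.Agent.Helper12.S15

/-- the three involutions of `Q`, cycled by `b` -/
theorem exists_q {S : Type*} [Group S] [Finite S] {E : Type*} [AddCommGroup E]
    [Module (ZMod 3) E] [Finite E] (ρ : Representation (ZMod 3) S E) (b : S) (R Q : Subgroup S) (h : Setting ρ b R Q) :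
    ∃ q₁ q₂ q₃ : S, q₁ ∈ Q ∧ q₂ ∈ Q ∧ q₃ ∈ Q ∧ (∀ q ∈ Q, q = 1 ∨ q = q₁ ∨ q = q₂ ∨ q = q₃) ∧
      q₁ ≠ 1 ∧ q₁ * q₂ = q₃ ∧ q₂ * q₁ = q₃ ∧ b * q₁ * b⁻¹ = q₂ ∧ b * q₂ * b⁻¹ = q₃ ∧
      b * q₃ * b⁻¹ = q₁ :=
  g_exists_q b h.b3 Q h.Q4 h.Q2 h.bQ h.bQ'

end Cfsg.Agent.Helper12.S15
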