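import Mathlib
import Cfsg.Agent.Lib.S15.S15Defs
import Cfsg.Agent.Lib.S15.LN3
import Cfsg.Agent.Lib.S15.LRANK
import Cfsg.Agent.Lib.Helper22.NGFrame

/-! S4415 design (helper12), piece LQWT.  See plans/S4415_plan.md. -/

set_option autoImplicit false

namespace Cfsg.Agent.Helper12.S15

/-- the generic frame lemma `NGF.frame_core` instantiated in a `Setting` -/
theorem lqwt_core {S : Type*} [Group S] {E : Type*} [AddCommGroup E]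
    [Module (ZMod 3) E] [Finite E] (ρ : Representation (ZMod 3) S E) (b : S) (R Q : Subgroup S) (h : Setting ρ b R Q) (q₁ q₂ q₃ : S)
    (hq₁ : q₁ ∈ Q) (hq₂ : q₂ ∈ Q) (hq1 : q₁ ≠ 1) (h12 : q₁ * q₂ = q₃) (h21 : q₂ * q₁ = q₃)
    (hb1 : b * q₁ * b⁻¹ = q₂) (hb2 : b * q₂ * b⁻¹ = q₃) :
    ∃ e₁ e₂ e₃ : E, e₁ ≠ 0 ∧ ρ b e₁ = e₂ ∧ ρ b e₂ = e₃ ∧ ρ b e₃ = e₁ ∧
      ρ q₁ e₁ = e₁ ∧ ρ q₁ e₂ = -e₂ ∧ ρ q₁ e₃ = -e₃ ∧ ρ q₂ e₁ = -e₁ ∧ ρ q₂ e₂ = e₂ ∧ ρ q₂ e₃ = -e₃ ∧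
      (∀ v, ∃ s₁ s₂ s₃ : ZMod 3, ∃ c : E, ρ q₁ c = c ∧ ρ q₂ c = c ∧
        v = s₁ • e₁ + s₂ • e₂ + s₃ • e₃ + c) ∧
      (∀ c, ρ q₁ c = c → ρ q₂ c = c → ρ b c = c) ∧
      (∀ v, ρ q₁ v = v → ρ q₂ v = -v → ∃ s : ZMod 3, v = s • e₁) := by
  have hJ := lrank_jd ρ b R Q h
  have a1 : ∀ v, ρ q₁ (ρ q₁ v) = v := by
    intro v
    rw [← Module.End.mul_apply, ← map_mul, ← pow_two, h.Q2 q₁ hq₁, map_one, Module.End.one_apply]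
  have a2 : ∀ v, ρ q₂ (ρ q₂ v) = v := by
    intro v
    rw [← Module.End.mul_apply, ← map_mul, ← pow_two, h.Q2 q₂ hq₂, map_one, Module.End.one_apply]
  have a12 : ∀ v, ρ q₁ (ρ q₂ v) = ρ q₂ (ρ q₁ v) := by
    intro v
    rw [← Module.End.mul_apply, ← Module.End.mul_apply, ← map_mul, ← map_mul, h12, h21]
  have t1 : ∀ v, ρ b (ρ q₁ v) = ρ q₂ (ρ b v) := by
    intro v
    rw [← Module.End.mul_apply, ← Module.End.mul_apply, ← map_mul, ← map_mul]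
    have : b * q₁ = q₂ * b := by rw [← hb1]; group
    rw [this]
  have t2 : ∀ v, ρ b (ρ q₂ v) = ρ q₁ (ρ q₂ (ρ b v)) := by
    intro v
    rw [← Module.End.mul_apply, ← Module.End.mul_apply, ← Module.End.mul_apply, ← map_mul,
      ← map_mul, ← map_mul]
    have : b * q₂ = q₁ * q₂ * b := by rw [h12, ← hb2]; group
    rw [this]
  have hX1 : ∃ v, ρ q₁ v ≠ v := by
    by_contra hcon
    push Not at hcon
    apply hq1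
    apply h.faith q₁ (Subgroup.mem_sup_left (h.QR hq₁))
    ext v
    rw [hcon v, Module.End.one_apply]
  exact Cfsg.Agent.Helper22.NGF.frame_core (ρ b) (ρ q₁) (ρ q₂) hJ a1 a2 a12 t1 t2 hX1

/-- the four-group `Q = {1,q₁,q₂,q₁q₂}` acts non-trivially, so (as `b` cycles the three non-trivial
weight spaces) the weight space `{q₁ = 1, q₂ = -1}` is non-zero -/
theorem exists_weight {S : Type*} [Group S] [Finite S] {E : Type*} [AddCommGroup E]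
    [Module (ZMod 3) E] [Finite E] (ρ : Representation (ZMod 3) S E) (b : S) (R Q : Subgroup S) (h : Setting ρ b R Q) (q₁ q₂ q₃ : S)
    (hq₁ : q₁ ∈ Q) (hq₂ : q₂ ∈ Q) (hq1 : q₁ ≠ 1) (h12 : q₁ * q₂ = q₃) (h21 : q₂ * q₁ = q₃)
    (hb1 : b * q₁ * b⁻¹ = q₂) (hb2 : b * q₂ * b⁻¹ = q₃) (hb3 : b * q₃ * b⁻¹ = q₁) :
    ∃ e : E, e ≠ 0 ∧ ρ q₁ e = e ∧ ρ q₂ e = -e := by
  obtain ⟨e₁, e₂, e₃, he0, -, -, -, h1, -, -, h2, -⟩ :=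
    lqwt_core ρ b R Q h q₁ q₂ q₃ hq₁ hq₂ hq1 h12 h21 hb1 hb2
  exact ⟨e₁, he0, h1, h2⟩

end Cfsg.Agent.Helper12.S15
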