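import Mathlib
import Cfsg.Agent.Lib.S15.S15Defs
import Cfsg.Agent.Lib.S15.LN3
import Cfsg.Agent.Lib.S15.LRANK
import Cfsg.Agent.Lib.S15.LQWT

/-! S4415 design (helper12), piece LQLINE.  See plans/S4415_plan.md. -/

set_option autoImplicit false

namespace Cfsg.Agent.Helper12.S15

/-- `(b-1)^2 = 1 + b + b^2` is injective on the weight space `{q₁ = 1, q₂ = -1}` (the three summands
lie in three different weight spaces), so that weight space is a line -/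
theorem weight_line {S : Type*} [Group S] [Finite S] {E : Type*} [AddCommGroup E]
    [Module (ZMod 3) E] [Finite E] (ρ : Representation (ZMod 3) S E) (b : S) (R Q : Subgroup S) (h : Setting ρ b R Q) (q₁ q₂ q₃ : S)
    (hq₁ : q₁ ∈ Q) (hq₂ : q₂ ∈ Q) (hq1 : q₁ ≠ 1) (h12 : q₁ * q₂ = q₃) (h21 : q₂ * q₁ = q₃)
    (hb1 : b * q₁ * b⁻¹ = q₂) (hb2 : b * q₂ * b⁻¹ = q₃) (hb3 : b * q₃ * b⁻¹ = q₁)
    (e : E) (he0 : e ≠ 0) (he1 : ρ q₁ e = e) (he2 : ρ q₂ e = -e) :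
    ∀ v : E, ρ q₁ v = v → ρ q₂ v = -v → ∃ c : ZMod 3, v = c • e := by
  obtain ⟨e₁, e₂, e₃, he₁0, -, -, -, -, -, -, -, -, -, -, -, hline⟩ :=
    lqwt_core ρ b R Q h q₁ q₂ q₃ hq₁ hq₂ hq1 h12 h21 hb1 hb2
  obtain ⟨s, hs⟩ := hline e he1 he2
  have hs0 : s ≠ 0 := by
    rintro rfl
    rw [zero_smul] at hs
    exact he0 hs
  intro v hv1 hv2
  obtain ⟨t, ht⟩ := hline v hv1 hv2
  refine ⟨t * s⁻¹, ?_⟩
  rw [hs, smul_smul, mul_assoc, inv_mul_cancel₀ hs0, mul_one, ht]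

end Cfsg.Agent.Helper12.S15
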