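import Mathlib
import Cfsg.Agent.Lib.S15.S15Defs
import Cfsg.Agent.Lib.S15.LN3
import Cfsg.Agent.Lib.S15.LQGRP
import Cfsg.Agent.Lib.S15.LQWT
import Cfsg.Agent.Lib.S15.LQLINE

/-! S4415 design (helper12), piece LFRAME.  See plans/S4415_plan.md. -/

set_option autoImplicit false

namespace Cfsg.Agent.Helper12.S15

theorem exists_frame {S : Type*} [Group S] [Finite S] {E : Type*} [AddCommGroup E]
    [Module (ZMod 3) E] [Finite E] (ρ : Representation (ZMod 3) S E) (b : S) (R Q : Subgroup S) (h : Setting ρ b R Q) :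
    ∃ q₁ q₂ q₃ : S, ∃ e₁ e₂ e₃ : E, QFrame ρ b Q q₁ q₂ q₃ e₁ e₂ e₃ := by
  obtain ⟨q₁, q₂, q₃, hq₁, hq₂, hq₃, hall, hq1, h12, h21, hb1, hb2, hb3⟩ := exists_q ρ b R Q h
  obtain ⟨e₁, e₂, e₃, he0, be1, be2, be3, h11, -, -, h21', -, -, -, -, hline⟩ :=
    lqwt_core ρ b R Q h q₁ q₂ q₃ hq₁ hq₂ hq1 h12 h21 hb1 hb2
  exact ⟨q₁, q₂, q₃, e₁, e₂, e₃,
    { q₁Q := hq₁, q₂Q := hq₂, q₃Q := hq₃, Qmem := hall, q₁1 := hq1, q12 := h12, q21 := h21,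
      bq₁ := hb1, bq₂ := hb2, bq₃ := hb3, be₁ := be1, be₂ := be2, be₃ := be3, e₁0 := he0,
      q₁e₁ := h11, q₂e₁ := h21', line := hline }⟩

end Cfsg.Agent.Helper12.S15
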