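import Mathlib
import Cfsg.Agent.Lib.S15.S15Defs
import Cfsg.Agent.Lib.S15.ECRB1
import Cfsg.Agent.Lib.S15.ECRB2
import Cfsg.Agent.Lib.S15.LN3
import Cfsg.Agent.Lib.S15.LRANK
import Cfsg.Agent.Lib.S15.LFRAME
import Cfsg.Agent.Lib.S15.LFKER
import Cfsg.Agent.Lib.S15.LDET
/-! S4415 (design helper12), block E (designer helper16), piece ECRB3.
See plans/S4415_plan.md (section E) and plans/S4415_blockE.md. -/

set_option autoImplicit false
set_option linter.unusedSectionVars false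

namespace Cfsg.Agent.Helper12.S15

variable {S : Type*} [Group S] [Finite S] {E : Type*} [AddCommGroup E] [Module (ZMod 3) E]
  [Finite E]

omit [Finite S] in
theorem s15_ecrb3_finrank (n : ℕ) (hE : Nat.card E = 3 ^ n) : Module.finrank (ZMod 3) E = n := by
  have : Fintype E := Fintype.ofFinite E
  have h1 : Nat.card E = 3 ^ Module.finrank (ZMod 3) E := by
    rw [Nat.card_eq_fintype_card, Module.card_eq_pow_finrank (K := ZMod 3) (V := E), ZMod.card]
  rw [hE] at h1
  exact (Nat.pow_right_injective (le_refl 2 |>.trans (by norm_num : 2 ≤ 3)) h1).symm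

omit [Finite S] in
/-- a submodule with 3 elements is spanned by any of its non-zero vectors -/
theorem s15_ecrb3_line (L : Submodule (ZMod 3) E) (hL : Nat.card ↥L = 3) (s : E) (hs : s ∈ L)
    (hs0 : s ≠ 0) : ∀ v ∈ L, ∃ x : ZMod 3, v = x • s := by
  classical
  have : Fintype ↥L := Fintype.ofFinite _
  let φ : ZMod 3 → ↥L := fun x => ⟨x • s, L.smul_mem x hs⟩
  have hinj : Function.Injective φ := by
    intro x y hxy
    have h1 : x • s = y • s := congrArg Subtype.val hxy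
    have h2 : (x - y) • s = 0 := by rw [sub_smul, h1, sub_self]
    rcases smul_eq_zero.mp h2 with h3 | h3
    · exact sub_eq_zero.mp h3
    · exact absurd h3 hs0
  have hcard : Fintype.card (ZMod 3) = Fintype.card ↥L := by
    rw [ZMod.card, ← Nat.card_eq_fintype_card, hL]
  have hbij := (Fintype.bijective_iff_injective_and_card φ).mpr ⟨hinj, hcard⟩
  intro v hv
  obtain ⟨x, hx⟩ := hbij.2 ⟨v, hv⟩
  exact ⟨x, (congrArg Subtype.val hx).symm⟩

/-- `C_R(b)` acts by scalars `±1` when `|E| ∈ {27, 81}`.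
Proof: take a frame, `s = e₁+e₂+e₃ = N²e₁ ∈ range (N*N)` (`n_sq`), `range (N*N)` has 3 elements
(`card_range_sq`), `ρ c` commutes with `N`, so `ρ c s = ε s` with `ε = ±1`; `g := ε • ρ c` has order
dividing `2 * orderOf c` (prime to 3 by `Setting.cop`), commutes with `ρ b`, fixes `s`
(`frame_s_mem`: `s ∈ range N`, `s ≠ 0`); `e_crb_ker`, then `e_crb_triv` / `e_crb_refl`; a reflection
is impossible since `det g = ε⁴ det (ρ c) = 1` (`det_one`, `LinearMap.det_smul`, finrank 4). -/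
theorem e_crb (ρ : Representation (ZMod 3) S E) (b : S) (R Q : Subgroup S) (h : Setting ρ b R Q)
    (hE : Nat.card E = 27 ∨ Nat.card E = 81) (c : S) (hc : c ∈ R) (hcb : b * c * b⁻¹ = c) :
    ρ c = 1 ∨ ρ c = -1 := by
  obtain ⟨q₁, q₂, q₃, e₁, e₂, e₃, f⟩ := exists_frame ρ b R Q h
  obtain ⟨hsr, hs0, -⟩ := frame_s_mem ρ b R Q h q₁ q₂ q₃ e₁ e₂ e₃ f
  -- commutation
  have hbc : b * c = c * b := by
    have h1 := congrArg (· * b) hcb
    simpa [mul_assoc] using h1
  have hcomm : ρ c * ρ b = ρ b * ρ c := by rw [← map_mul, ← map_mul, hbc]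
  have hcommN : ρ c * (ρ b - 1) = (ρ b - 1) * ρ c := by
    rw [mul_sub, sub_mul, hcomm, mul_one, one_mul]
  -- `s ∈ range (N*N)`
  have hsNN : e₁ + e₂ + e₃ ∈ LinearMap.range ((ρ b - 1) * (ρ b - 1)) := by
    refine ⟨e₁, ?_⟩
    rw [Module.End.mul_apply, n_sq ρ b R Q h e₁, f.be₁, f.be₂]
  have hcs : ρ c (e₁ + e₂ + e₃) ∈ LinearMap.range ((ρ b - 1) * (ρ b - 1)) := by
    obtain ⟨v, hv⟩ := hsNN
    refine ⟨ρ c v, ?_⟩
    rw [← hv]
    have h1 : (ρ b - 1) * (ρ b - 1) * ρ c = ρ c * ((ρ b - 1) * (ρ b - 1)) := by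
      rw [mul_assoc, ← hcommN, ← mul_assoc, ← hcommN, mul_assoc]
    exact LinearMap.congr_fun h1 v
  obtain ⟨x, hx⟩ := s15_ecrb3_line _ (card_range_sq ρ b R Q h) (e₁ + e₂ + e₃) hsNN hs0 _ hcs
  have hcinj : ρ c (e₁ + e₂ + e₃) ≠ 0 := by
    intro h0
    have h2 : ρ c⁻¹ (ρ c (e₁ + e₂ + e₃)) = e₁ + e₂ + e₃ := by
      have h1 : ρ c⁻¹ * ρ c = 1 := by rw [← map_mul, inv_mul_cancel, map_one]
      exact LinearMap.congr_fun h1 (e₁ + e₂ + e₃)
    rw [h0, map_zero] at h2
    exact hs0 h2.symm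
  have hx' : x = 1 ∨ x = -1 := by
    have h3 : ∀ y : ZMod 3, y = 0 ∨ y = 1 ∨ y = -1 := by decide
    rcases h3 x with h0 | h1 | h1
    · exfalso
      rw [h0, zero_smul] at hx
      exact hcinj hx
    · exact Or.inl h1
    · exact Or.inr h1
  have hxx : x * x = 1 := by
    rcases hx' with h1 | h1
    · rw [h1, one_mul]
    · rw [h1, neg_mul_neg, one_mul]
  -- the operator `g`
  have hgs : (x • ρ c) (e₁ + e₂ + e₃) = e₁ + e₂ + e₃ := by
    rw [LinearMap.smul_apply, hx, smul_smul, hxx, one_smul]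
  have hgb : (x • ρ c) * ρ b = ρ b * (x • ρ c) := by
    rw [smul_mul_assoc, hcomm, mul_smul_comm]
  have hk : Nat.Coprime (orderOf c * 2) 3 := by
    have h1 : orderOf c ∣ Nat.card ↥R := by
      have h2 := orderOf_dvd_natCard (⟨c, hc⟩ : ↥R)
      rwa [Subgroup.orderOf_mk] at h2
    have h2 : (orderOf c).Coprime 3 := Nat.Coprime.coprime_dvd_left h1 h.cop
    exact Nat.Coprime.mul_left h2 (by decide)
  have hgk : (x • ρ c) ^ (orderOf c * 2) = 1 := by
    have h1 : (ρ c) ^ (orderOf c * 2) = 1 := by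
      rw [← map_pow, pow_mul, pow_orderOf_eq_one, one_pow, map_one]
    have h2 : x ^ (orderOf c * 2) = 1 := by
      rw [pow_mul', pow_two, hxx, one_pow]
    rw [smul_pow, h1, h2, one_smul]
  have hker := e_crb_ker ρ b R Q h (x • ρ c) (orderOf c * 2) hk hgk hgb (e₁ + e₂ + e₃) hsr hs0 hgs
  have hfin : x • ρ c = 1 → ρ c = 1 ∨ ρ c = -1 := by
    intro hg1
    have h1 : ρ c = x • (x • ρ c) := by rw [smul_smul, hxx, one_smul]
    rw [hg1] at h1
    rcases hx' with hx1 | hx1
    · left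
      rw [h1, hx1, one_smul]
    · right
      rw [h1, hx1, neg_smul, one_smul]
  rcases hE with hE | hE
  · exact hfin (e_crb_triv (x • ρ c) hE hker)
  · rcases e_crb_refl (x • ρ c) (orderOf c * 2) hk hgk hE hker with hg1 | hdet
    · exact hfin hg1
    · exfalso
      have hfr : Module.finrank (ZMod 3) E = 4 := s15_ecrb3_finrank 4 (by rw [hE]; norm_num)
      have h1 : LinearMap.det (x • ρ c) = x ^ 4 * LinearMap.det (ρ c) := by
        rw [LinearMap.det_smul, hfr]
      rw [det_one ρ b R Q h c hc, mul_one] at h1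
      have h2 : x ^ 4 = 1 := by
        have e4 : x ^ 4 = (x * x) * (x * x) := by ring
        rw [e4, hxx, one_mul]
      rw [h1, h2] at hdet
      exact absurd hdet (by decide)

/-- `C_R(b) = 1` when `|E| = 27` (`det (-1) = -1 ≠ 1` in dimension 3, `det_one`, `Setting.faith`). -/
theorem e_crb27 (ρ : Representation (ZMod 3) S E) (b : S) (R Q : Subgroup S) (h : Setting ρ b R Q)
    (hE : Nat.card E = 27) (c : S) (hc : c ∈ R) (hcb : b * c * b⁻¹ = c) : c = 1 := by
  have hcR : c ∈ R ⊔ Subgroup.zpowers b := Subgroup.mem_sup_left hc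
  rcases e_crb ρ b R Q h (Or.inl hE) c hc hcb with h1 | h1
  · exact h.faith c hcR h1
  · exfalso
    have hfr : Module.finrank (ZMod 3) E = 3 := s15_ecrb3_finrank 3 (by rw [hE]; norm_num)
    have hd := det_one ρ b R Q h c hc
    rw [h1] at hd
    have e1 : (-1 : Module.End (ZMod 3) E) = (-1 : ZMod 3) • (1 : Module.End (ZMod 3) E) := by
      rw [neg_smul, one_smul]
    rw [e1, LinearMap.det_smul, hfr, map_one] at hd
    exact absurd hd (by decide)

end Cfsg.Agent.Helper12.S15
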