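import Mathlib
import Cfsg.Agent.Lib.S15.S15Defs
import Cfsg.Agent.Lib.S15.LFRAME
import Cfsg.Agent.Lib.S15.LFKER
import Cfsg.Agent.Lib.S15.ECRB3
import Cfsg.Agent.Lib.S15.E3CORE

/-! S4415 design (helper12), piece E3MAIN (assembly by helper16).  See plans/S4415_plan.md. -/

set_option autoImplicit false

namespace Cfsg.Agent.Helper12.S15

/-- `dim E = 3`: `R = Q` -/
theorem e3_main {S : Type*} [Group S] [Finite S] {E : Type*} [AddCommGroup E]
    [Module (ZMod 3) E] [Finite E] (ρ : Representation (ZMod 3) S E) (b : S) (R Q : Subgroup S) (h : RSetting ρ b R Q) (hE : Nat.card E = 27) : R = Q := by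
  have hS : Setting ρ b R Q := h.toSetting
  obtain ⟨q₁, q₂, q₃, e₁, e₂, e₃, f⟩ := exists_frame ρ b R Q hS
  obtain ⟨hs, hs0, hbs⟩ := frame_s_mem ρ b R Q hS q₁ q₂ q₃ e₁ e₂ e₃ f
  refine e3_core ρ b R Q hS R hS.QR le_rfl hS.bR (fun t ht htb => e_crb27 ρ b R Q hS hE t ht htb)
    ⊤ ?_ (fun _ _ _ _ => Submodule.mem_top) (e₁ + e₂ + e₃) hs hs0 hbs Submodule.mem_top
  rw [← hE]
  exact Nat.card_congr (Submodule.topEquiv (R := ZMod 3) (M := E)).toEquiv

end Cfsg.Agent.Helper12.S15
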