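import Mathlib
import Cfsg.Agent.Lib.S15.S15Defs

/-! S4415 (design helper12), block E (designer helper16), piece EDEFS.
See plans/S4415_plan.md (section E) and plans/S4415_blockE.md. -/

set_option autoImplicit false
set_option linter.unusedSectionVars false

namespace Cfsg.Agent.Helper12.S15

variable {S : Type*} [Group S] [Finite S] {E : Type*} [AddCommGroup E] [Module (ZMod 3) E]
  [Finite E]

/-- membership in `A₁ = Q ∪ Qz` (the subgroup `Q × ⟨z⟩` when `z` is a central involution) -/
def inA1 (Q : Subgroup S) (z : S) (a : S) : Prop := ∃ q ∈ Q, a = q ∨ a = q * z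

theorem inA1_of_mem (Q : Subgroup S) (z : S) {q : S} (hq : q ∈ Q) : inA1 Q z q := ⟨q, hq, Or.inl rfl⟩

theorem inA1_mul_z (Q : Subgroup S) (z : S) {q : S} (hq : q ∈ Q) : inA1 Q z (q * z) :=
  ⟨q, hq, Or.inr rfl⟩

end Cfsg.Agent.Helper12.S15
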