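import Mathlib
import Cfsg.Agent.Lib.S15.S15Defs
import Cfsg.Agent.Lib.S15.EDEFS
import Cfsg.Agent.Lib.S15.LFRAME
import Cfsg.Agent.Lib.S15.ECRB3
/-! S4415 (design helper12), block E (designer helper16), piece E4ZB.
See plans/S4415_plan.md (section E) and plans/S4415_blockE.md. -/

set_option autoImplicit false
set_option linter.unusedSectionVars false

namespace Cfsg.Agent.Helper12.S15

variable {S : Type*} [Group S] [Finite S] {E : Type*} [AddCommGroup E] [Module (ZMod 3) E]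
  [Finite E]

omit [Finite E] in
/-- in characteristic 3, `-w = w` forces `w = 0` -/
theorem e4zb_neg_eq_self (w : E) (h3 : -w = w) : w = 0 := by
  have h4 : w + w + w = 0 := by
    have := ZModModule.char_nsmul_eq_zero 3 w
    rwa [succ_nsmul, succ_nsmul, one_nsmul] at this
  have h5 : w + w = 0 := by
    nth_rewrite 1 [← h3]; simp
  rw [h5, zero_add] at h4
  exact h4

omit [Finite S] [Finite E] in
/-- conjugates of an element acting as `-1` act as `-1` -/
theorem e4zb_conj_neg (ρ : Representation (ZMod 3) S E) (z : S) (hz : ρ z = -1) (x : S) :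
    ρ (x * z * x⁻¹) = -1 := by
  rw [map_mul, map_mul, hz, mul_neg, mul_one, neg_mul, ← map_mul, mul_inv_cancel, map_one]

/-- basic facts on `z ∈ R` with `ρ z = -1` (all from `Setting.faith`; `z ∉ Q` since each `q ∈ Q` fixes a
non-zero vector (`QFrame`: `ρ q₁ e₁ = e₁`, …, or `q = 1`)). -/
theorem e4_z_basic (ρ : Representation (ZMod 3) S E) (b : S) (R Q : Subgroup S) (h : Setting ρ b R Q)
    (z : S) (hzR : z ∈ R) (hz : ρ z = -1) :
    z ^ 2 = 1 ∧ z ≠ 1 ∧ b * z * b⁻¹ = z ∧ (∀ x ∈ R, x * z = z * x) ∧ z ∉ Q := by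
  have hzz : z * z = 1 := by
    apply h.faith _ (Subgroup.mem_sup_left (R.mul_mem hzR hzR))
    rw [map_mul, hz]; simp
  have hzi : z⁻¹ = z := inv_eq_of_mul_eq_one_left hzz
  have hz1 : z ≠ 1 := by
    intro h1
    obtain ⟨v, hv⟩ := h.sq
    apply hv
    apply e4zb_neg_eq_self
    have h2 : ρ z ((ρ b - 1) ((ρ b - 1) v)) = (ρ b - 1) ((ρ b - 1) v) := by
      rw [h1, map_one]; rfl
    rw [hz] at h2
    simpa using h2
  -- conjugates of `z` by elements normalising `R` equal `z`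
  have hconj : ∀ x : S, x * z * x⁻¹ ∈ R → x * z * x⁻¹ = z := by
    intro x hx
    have h2 : x * z * x⁻¹ * z = 1 := by
      apply h.faith _ (Subgroup.mem_sup_left (R.mul_mem hx hzR))
      rw [map_mul, e4zb_conj_neg ρ z hz x, hz]; simp
    have h3 : x * z * x⁻¹ = z⁻¹ := eq_inv_of_mul_eq_one_left h2
    rw [h3, hzi]
  have hbz : b * z * b⁻¹ = z := hconj b (h.bR z hzR)
  refine ⟨by rw [pow_two]; exact hzz, hz1, hbz, ?_, ?_⟩
  · intro x hx
    have h1 := hconj x (R.mul_mem (R.mul_mem hx hzR) (R.inv_mem hx))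
    calc x * z = x * z * x⁻¹ * x := by group
      _ = z * x := by rw [h1]
  · intro hzQ
    obtain ⟨q₁, q₂, q₃, e₁, e₂, e₃, f⟩ := exists_frame ρ b R Q h
    have hq1 : z = q₁ → False := by
      intro h1
      apply f.e₁0
      apply e4zb_neg_eq_self
      have h2 := f.q₁e₁
      rw [← h1, hz] at h2
      simpa using h2
    rcases f.Qmem z hzQ with h1 | h1 | h1 | h1
    · exact hz1 h1
    · exact hq1 h1
    · -- `z = q₂`: then `q₃ = z` and `q₁ = z`
      have h3 : q₃ = z := by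
        rw [← f.bq₂, ← h1]; exact hbz
      have h4 : q₁ = z := by
        rw [← f.bq₃, h3]; exact hbz
      exact hq1 h4.symm
    · have h4 : q₁ = z := by
        rw [← f.bq₃, ← h1]; exact hbz
      exact hq1 h4.symm

/-- `C_R(b) = {1, z}` (`e_crb` + `Setting.faith`) -/
theorem e4_z_cent (ρ : Representation (ZMod 3) S E) (b : S) (R Q : Subgroup S) (h : Setting ρ b R Q)
    (hE : Nat.card E = 81) (z : S) (hzR : z ∈ R) (hz : ρ z = -1) (c : S) (hc : c ∈ R)
    (hcb : b * c * b⁻¹ = c) : c = 1 ∨ c = z := by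
  obtain ⟨hz2, -, -, -, -⟩ := e4_z_basic ρ b R Q h z hzR hz
  have hzz : z * z = 1 := by rw [← pow_two]; exact hz2
  have hzi : z⁻¹ = z := inv_eq_of_mul_eq_one_left hzz
  rcases e_crb ρ b R Q h (Or.inr hE) c hc hcb with h1 | h1
  · left
    exact h.faith _ (Subgroup.mem_sup_left hc) h1
  · right
    have h2 : c * z = 1 := by
      apply h.faith _ (Subgroup.mem_sup_left (R.mul_mem hc hzR))
      rw [map_mul, h1, hz]; simp
    have h3 : c = z⁻¹ := eq_inv_of_mul_eq_one_left h2
    rw [h3, hzi]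

/-- `|C_R(b)| = 2` -/
theorem e4_z_cent_card (ρ : Representation (ZMod 3) S E) (b : S) (R Q : Subgroup S) (h : Setting ρ b R Q)
    (hE : Nat.card E = 81) (z : S) (hzR : z ∈ R) (hz : ρ z = -1) :
    Nat.card {t : S // t ∈ R ∧ b * t * b⁻¹ = t} = 2 := by
  obtain ⟨-, hz1, hbz, -, -⟩ := e4_z_basic ρ b R Q h z hzR hz
  rw [Nat.card_eq_two_iff]
  refine ⟨⟨1, R.one_mem, by rw [mul_one, mul_inv_cancel]⟩, ⟨z, hzR, hbz⟩, ?_, ?_⟩
  · intro h1
    exact hz1 (congrArg Subtype.val h1).symm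
  · ext ⟨t, htR, htb⟩
    simp only [Set.mem_insert_iff, Set.mem_singleton_iff, Set.mem_univ, iff_true]
    rcases e4_z_cent ρ b R Q h hE z hzR hz t htR htb with h1 | h1
    · left; exact Subtype.ext h1
    · right; exact Subtype.ext h1

end Cfsg.Agent.Helper12.S15
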