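import Mathlib
import Cfsg.Agent.Lib.S15.S15Defs
import Cfsg.Agent.Lib.S15.LCORA
import Cfsg.Agent.Lib.S15.LFRAME
import Cfsg.Agent.Lib.S15.LFTAB
import Cfsg.Agent.Lib.S15.LFKER
import Cfsg.Agent.Lib.S15.LFDEC
import Cfsg.Agent.Lib.S15.LFIND
/-! S4415 (design helper12), block E (designer helper16), piece EK1.
See plans/S4415_plan.md (section E) and plans/S4415_blockE.md. -/

set_option autoImplicit false
set_option linter.unusedSectionVars false

namespace Cfsg.Agent.Helper12.S15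

variable {S : Type*} [Group S] [Finite S] {E : Type*} [AddCommGroup E] [Module (ZMod 3) E]
  [Finite E]

/-- the stabiliser of a vector (helper for EK1) -/
def ek1Stab (ρ : Representation (ZMod 3) S E) (v : E) : Subgroup S where
  carrier := {k | ρ k v = v}
  one_mem' := by
    show ρ 1 v = v
    rw [map_one]; rfl
  mul_mem' := by
    intro a c ha hc
    have ha' : ρ a v = v := ha
    have hc' : ρ c v = v := hc
    show ρ (a * c) v = v
    rw [map_mul, Module.End.mul_apply, hc', ha']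
  inv_mem' := by
    intro a ha
    have ha' : ρ a v = v := ha
    show ρ a⁻¹ v = v
    calc ρ a⁻¹ v = ρ a⁻¹ (ρ a v) := by rw [ha']
      _ = v := by rw [← Module.End.mul_apply, ← map_mul, inv_mul_cancel, map_one]; rfl

theorem ek1_mem_stab (ρ : Representation (ZMod 3) S E) (v : E) (k : S) :
    k ∈ ek1Stab ρ v ↔ ρ k v = v := Iff.rfl

theorem ek1_sign (c : ZMod 3) (hc : c ≠ 0) : c = 1 ∨ c = -1 := by
  revert c; decide

/-- K1: `C_R(Q) = Q · C_{C_R(Q)}(b)`.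
Proof: `x` commutes with `Q`, so it preserves the three weight lines: `ρ x eᵢ = εᵢ • eᵢ`
(`QFrame.line`, `frame_lines`), `εᵢ = ±1`.  The sign patterns of `1,q₁,q₂,q₃` on `(e₁,e₂,e₃)` are
`(+,+,+),(+,-,-),(-,+,-),(-,-,+)` (`frame_table`), so for a suitable `q ∈ Q` the element `c := q * x`
acts on `e₁,e₂,e₃` by one common sign.  Then `u := c⁻¹ * (b * c * b⁻¹)` fixes `e₁,e₂,e₃`, and so do all
elements of `K := {k ∈ R | k commutes with Q, k fixes e₁,e₂,e₃}`, a `b`-invariant subgroup fixing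
`e₂ - e₁ ∈ range (ρ b - 1)`, `≠ 0` (`frame_range`, `frame_indep`); `cor_A` gives `b u b⁻¹ = u`.  Hence
`b c b⁻¹ = c u`, `b² c b⁻² = c u²`, `c = b³ c b⁻³ = c u³`, `u³ = 1`, and `u ∈ R` has order prime to 3
(`Setting.cop`), so `u = 1`. -/
theorem e_k1 (ρ : Representation (ZMod 3) S E) (b : S) (R Q : Subgroup S) (h : Setting ρ b R Q)
    (x : S) (hx : x ∈ R) (hxQ : ∀ q ∈ Q, x * q * x⁻¹ = q) :
    ∃ q ∈ Q, b * (q * x) * b⁻¹ = q * x := by
  obtain ⟨q₁, q₂, q₃, e₁, e₂, e₃, f⟩ := exists_frame ρ b R Q h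
  obtain ⟨t31, t12, t22, t32, t13, t23, t33, he2, he3⟩ :=
    frame_table ρ b R Q h q₁ q₂ q₃ e₁ e₂ e₃ f
  obtain ⟨line2, line3⟩ := frame_lines ρ b R Q h q₁ q₂ q₃ e₁ e₂ e₃ f
  obtain ⟨m11, m22, m33, m13, m31, m23, m32⟩ := lfdec_table ρ b R Q h q₁ q₂ q₃ e₁ e₂ e₃ f
  have hmul : ∀ (a c : S) (u : E), ρ (a * c) u = ρ a (ρ c u) := lftab_mul_apply ρ
  have hinj : ∀ (k : S) (v : E), ρ k v = 0 → v = 0 := by
    intro k v hv
    have h1 : ρ k⁻¹ (ρ k v) = v := by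
      rw [← hmul, inv_mul_cancel, map_one]; rfl
    rw [hv, map_zero] at h1
    exact h1.symm
  -- Q is abelian
  have hQc : ∀ a ∈ Q, ∀ a' ∈ Q, a * a' = a' * a := by
    intro a ha a' ha'
    rcases f.Qmem a ha with rfl | rfl | rfl | rfl <;>
      rcases f.Qmem a' ha' with rfl | rfl | rfl | rfl <;>
      simp only [one_mul, mul_one, f.q12, f.q21, m13, m31, m23, m32]
  -- b⁻¹ normalises Q
  have hbinvQ : ∀ q ∈ Q, b⁻¹ * q * b ∈ Q := by
    intro q hq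
    rcases f.Qmem q hq with rfl | rfl | rfl | rfl
    · simp
    · have : b⁻¹ * q * b = q₃ := by rw [← f.bq₃]; group
      rw [this]; exact f.q₃Q
    · have : b⁻¹ * q * b = q₁ := by rw [← f.bq₁]; group
      rw [this]; exact f.q₁Q
    · have : b⁻¹ * q * b = q₂ := by rw [← f.bq₂]; group
      rw [this]; exact f.q₂Q
  -- ρ b⁻¹ on the frame
  have hbi1 : ρ b⁻¹ e₁ = e₃ := by
    rw [← f.be₃, ← hmul, inv_mul_cancel, map_one]; rfl
  have hbi2 : ρ b⁻¹ e₂ = e₁ := by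
    rw [← f.be₁, ← hmul, inv_mul_cancel, map_one]; rfl
  have hbi3 : ρ b⁻¹ e₃ = e₂ := by
    rw [← f.be₂, ← hmul, inv_mul_cancel, map_one]; rfl
  -- elements commuting with Q act on the lines
  have hcomm : ∀ k : S, (∀ q ∈ Q, k * q * k⁻¹ = q) → ∀ q ∈ Q, ∀ v : E,
      ρ q (ρ k v) = ρ k (ρ q v) := by
    intro k hk q hq v
    rw [← hmul, ← hmul]
    have h1 : q * k = k * q := by
      calc q * k = (k * q * k⁻¹) * k := by rw [hk q hq]
        _ = k * q := by group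
    rw [h1]
  have hline : ∀ k : S, (∀ q ∈ Q, k * q * k⁻¹ = q) →
      (∃ c : ZMod 3, (c = 1 ∨ c = -1) ∧ ρ k e₁ = c • e₁) ∧
      (∃ c : ZMod 3, (c = 1 ∨ c = -1) ∧ ρ k e₂ = c • e₂) ∧
      (∃ c : ZMod 3, (c = 1 ∨ c = -1) ∧ ρ k e₃ = c • e₃) := by
    intro k hk
    have a1 : ∃ c : ZMod 3, ρ k e₁ = c • e₁ := by
      refine f.line _ ?_ ?_
      · rw [hcomm k hk q₁ f.q₁Q, f.q₁e₁]
      · rw [hcomm k hk q₂ f.q₂Q, f.q₂e₁, map_neg]
    have a2 : ∃ c : ZMod 3, ρ k e₂ = c • e₂ := by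
      refine line2 _ ?_ ?_
      · rw [hcomm k hk q₂ f.q₂Q, t22]
      · rw [hcomm k hk q₃ f.q₃Q, t32, map_neg]
    have a3 : ∃ c : ZMod 3, ρ k e₃ = c • e₃ := by
      refine line3 _ ?_ ?_
      · rw [hcomm k hk q₃ f.q₃Q, t33]
      · rw [hcomm k hk q₁ f.q₁Q, t13, map_neg]
    obtain ⟨c1, h1⟩ := a1
    obtain ⟨c2, h2⟩ := a2
    obtain ⟨c3, h3⟩ := a3
    refine ⟨⟨c1, ek1_sign c1 ?_, h1⟩, ⟨c2, ek1_sign c2 ?_, h2⟩, ⟨c3, ek1_sign c3 ?_, h3⟩⟩
    · rintro rfl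
      rw [zero_smul] at h1
      exact f.e₁0 (hinj k e₁ h1)
    · rintro rfl
      rw [zero_smul] at h2
      exact he2 (hinj k e₂ h2)
    · rintro rfl
      rw [zero_smul] at h3
      exact he3 (hinj k e₃ h3)
  -- choose q with a common sign
  have key : ∃ q ∈ Q, ∃ ε : ZMod 3, (ε = 1 ∨ ε = -1) ∧ ρ (q * x) e₁ = ε • e₁ ∧
      ρ (q * x) e₂ = ε • e₂ ∧ ρ (q * x) e₃ = ε • e₃ := by
    obtain ⟨⟨c1, s1, h1⟩, ⟨c2, s2, h2⟩, ⟨c3, s3, h3⟩⟩ := hline x hxQ
    rcases s1 with rfl | rfl <;> rcases s2 with rfl | rfl <;> rcases s3 with rfl | rfl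
    · -- (+,+,+)
      exact ⟨1, Q.one_mem, 1, Or.inl rfl, by rw [one_mul, h1], by rw [one_mul, h2],
        by rw [one_mul, h3]⟩
    · -- (+,+,-) : q₃ gives (-,-,-)
      refine ⟨q₃, f.q₃Q, -1, Or.inr rfl, ?_, ?_, ?_⟩
      · rw [hmul, h1, map_smul, t31]; simp
      · rw [hmul, h2, map_smul, t32]; simp
      · rw [hmul, h3, map_smul, t33]
    · -- (+,-,+) : q₂ gives (-,-,-)
      refine ⟨q₂, f.q₂Q, -1, Or.inr rfl, ?_, ?_, ?_⟩
      · rw [hmul, h1, map_smul, f.q₂e₁]; simp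
      · rw [hmul, h2, map_smul, t22]
      · rw [hmul, h3, map_smul, t23]; simp
    · -- (+,-,-) : q₁ gives (+,+,+)
      refine ⟨q₁, f.q₁Q, 1, Or.inl rfl, ?_, ?_, ?_⟩
      · rw [hmul, h1, map_smul, f.q₁e₁]
      · rw [hmul, h2, map_smul, t12]; simp
      · rw [hmul, h3, map_smul, t13]; simp
    · -- (-,+,+) : q₁ gives (-,-,-)
      refine ⟨q₁, f.q₁Q, -1, Or.inr rfl, ?_, ?_, ?_⟩
      · rw [hmul, h1, map_smul, f.q₁e₁]
      · rw [hmul, h2, map_smul, t12]; simp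
      · rw [hmul, h3, map_smul, t13]; simp
    · -- (-,+,-) : q₂ gives (+,+,+)
      refine ⟨q₂, f.q₂Q, 1, Or.inl rfl, ?_, ?_, ?_⟩
      · rw [hmul, h1, map_smul, f.q₂e₁]; simp
      · rw [hmul, h2, map_smul, t22]
      · rw [hmul, h3, map_smul, t23]; simp
    · -- (-,-,+) : q₃ gives (+,+,+)
      refine ⟨q₃, f.q₃Q, 1, Or.inl rfl, ?_, ?_, ?_⟩
      · rw [hmul, h1, map_smul, t31]; simp
      · rw [hmul, h2, map_smul, t32]; simp
      · rw [hmul, h3, map_smul, t33]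
    · -- (-,-,-)
      exact ⟨1, Q.one_mem, -1, Or.inr rfl, by rw [one_mul, h1], by rw [one_mul, h2],
        by rw [one_mul, h3]⟩
  obtain ⟨q, hqQ, ε, hε, hc1, hc2, hc3⟩ := key
  refine ⟨q, hqQ, ?_⟩
  set c := q * x with hcdef
  have hεε : ε * ε = 1 := by
    rcases hε with rfl | rfl <;> decide
  have hcR : c ∈ R := R.mul_mem (h.QR hqQ) hx
  -- c centralises Q
  have hcen : ∀ k : S, k ∈ Subgroup.centralizer (Q : Set S) ↔ ∀ q' ∈ Q, k * q' * k⁻¹ = q' := by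
    intro k
    rw [Subgroup.mem_centralizer_iff]
    constructor
    · intro hk q' hq'
      rw [← hk q' hq']; group
    · intro hk q' hq'
      calc q' * k = (k * q' * k⁻¹) * k := by rw [hk q' hq']
        _ = k * q' := by group
  have hqcen : q ∈ Subgroup.centralizer (Q : Set S) := by
    rw [Subgroup.mem_centralizer_iff]
    intro q' hq'
    exact hQc q' hq' q hqQ
  have hxcen : x ∈ Subgroup.centralizer (Q : Set S) := (hcen x).2 hxQ
  have hccen : c ∈ Subgroup.centralizer (Q : Set S) := Subgroup.mul_mem _ hqcen hxcen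
  -- b-conjugation preserves the centraliser of Q
  have hbcen : ∀ k ∈ Subgroup.centralizer (Q : Set S),
      b * k * b⁻¹ ∈ Subgroup.centralizer (Q : Set S) := by
    intro k hk
    rw [Subgroup.mem_centralizer_iff] at hk ⊢
    intro q' hq'
    have h1 := hk (b⁻¹ * q' * b) (hbinvQ q' hq')
    calc q' * (b * k * b⁻¹) = b * ((b⁻¹ * q' * b) * k) * b⁻¹ := by group
      _ = b * (k * (b⁻¹ * q' * b)) * b⁻¹ := by rw [h1]
      _ = b * k * b⁻¹ * q' := by group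
  -- the subgroup K
  set K : Subgroup S := R ⊓ Subgroup.centralizer (Q : Set S) ⊓ ek1Stab ρ e₁ ⊓ ek1Stab ρ e₂ ⊓
    ek1Stab ρ e₃ with hKdef
  have hKmem : ∀ k : S, k ∈ K ↔ (k ∈ R ∧ k ∈ Subgroup.centralizer (Q : Set S)) ∧ ρ k e₁ = e₁ ∧
      ρ k e₂ = e₂ ∧ ρ k e₃ = e₃ := by
    intro k
    simp only [hKdef, Subgroup.mem_inf, ek1_mem_stab]
    tauto
  have hKR : K ≤ R := fun k hk => ((hKmem k).1 hk).1.1
  have hbK : ∀ t ∈ K, b * t * b⁻¹ ∈ K := by
    intro t ht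
    obtain ⟨⟨htR, htc⟩, ht1, ht2, ht3⟩ := (hKmem t).1 ht
    refine (hKmem _).2 ⟨⟨h.bR t htR, hbcen t htc⟩, ?_, ?_, ?_⟩
    · rw [hmul, hmul, hbi1, ht3, f.be₃]
    · rw [hmul, hmul, hbi2, ht1, f.be₁]
    · rw [hmul, hmul, hbi3, ht2, f.be₂]
  have hw : e₂ - e₁ ∈ LinearMap.range (ρ b - 1) :=
    ⟨e₁, by rw [lfker_sub_one_apply, f.be₁]⟩
  have hw0 : e₂ - e₁ ≠ 0 := by
    intro h0
    have h1 : (0 : E) + (-1 : ZMod 3) • e₁ + (1 : ZMod 3) • e₂ + (0 : ZMod 3) • e₃ = 0 := by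
      rw [zero_add, neg_one_smul, one_smul, zero_smul, add_zero, neg_add_eq_sub]
      exact h0
    have h2 := frame_indep ρ b R Q h q₁ q₂ q₃ e₁ e₂ e₃ f 0 (Submodule.zero_mem _) (-1) 1 0 h1
    exact absurd h2.2.2.1 (by decide)
  have hfixK : ∀ t ∈ K, ρ t (e₂ - e₁) = e₂ - e₁ := by
    intro t ht
    obtain ⟨-, ht1, ht2, -⟩ := (hKmem t).1 ht
    rw [map_sub, ht1, ht2]
  have hcor := cor_A ρ b R Q h K hKR hbK (e₂ - e₁) hw hw0 hfixK
  -- the element u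
  set u := c⁻¹ * (b * c * b⁻¹) with hudef
  have hci : ∀ v : E, ρ c v = ε • v → ρ c⁻¹ v = ε • v := by
    intro v hv
    have h1 : ρ c⁻¹ (ρ c v) = v := by
      rw [← hmul, inv_mul_cancel, map_one]; rfl
    rw [hv, map_smul] at h1
    calc ρ c⁻¹ v = (ε * ε) • ρ c⁻¹ v := by rw [hεε, one_smul]
      _ = ε • (ε • ρ c⁻¹ v) := by rw [mul_smul]
      _ = ε • v := by rw [h1]
  have huK : u ∈ K := by
    refine (hKmem u).2 ⟨⟨R.mul_mem (R.inv_mem hcR) (h.bR c hcR),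
      Subgroup.mul_mem _ (Subgroup.inv_mem _ hccen) (hbcen c hccen)⟩, ?_, ?_, ?_⟩
    · rw [hudef, hmul, hmul, hmul, hbi1, hc3, map_smul, f.be₃, map_smul, hci e₁ hc1, ← mul_smul,
        hεε, one_smul]
    · rw [hudef, hmul, hmul, hmul, hbi2, hc1, map_smul, f.be₁, map_smul, hci e₂ hc2, ← mul_smul,
        hεε, one_smul]
    · rw [hudef, hmul, hmul, hmul, hbi3, hc2, map_smul, f.be₂, map_smul, hci e₃ hc3, ← mul_smul,
        hεε, one_smul]
  have hbu : b * u * b⁻¹ = u := hcor u huK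
  have hb3 : b * b * b = 1 := by
    have := h.b3
    rwa [pow_succ, pow_two] at this
  have hbc : b * c * b⁻¹ = c * u := by rw [hudef]; group
  -- u ^ 3 = 1
  have hu3 : u * u * u = 1 := by
    have h2 : b * (b * c * b⁻¹) * b⁻¹ = c * u * u := by
      rw [hbc]
      calc b * (c * u) * b⁻¹ = (b * c * b⁻¹) * (b * u * b⁻¹) := by group
        _ = c * u * u := by rw [hbc, hbu]
    have h3 : b * (b * (b * c * b⁻¹) * b⁻¹) * b⁻¹ = c * u * u * u := by
      rw [h2]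
      calc b * (c * u * u) * b⁻¹ = (b * c * b⁻¹) * (b * u * b⁻¹) * (b * u * b⁻¹) := by group
        _ = c * u * u * u := by rw [hbc, hbu]
    have h4 : b * (b * (b * c * b⁻¹) * b⁻¹) * b⁻¹ = c := by
      have hbi : b⁻¹ * b⁻¹ * b⁻¹ = 1 := by
        have : (b * b * b)⁻¹ = 1 := by rw [hb3, inv_one]
        rw [← this]; group
      calc b * (b * (b * c * b⁻¹) * b⁻¹) * b⁻¹ = (b * b * b) * c * (b⁻¹ * b⁻¹ * b⁻¹) := by group
        _ = c := by rw [hb3, hbi, one_mul, mul_one]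
    rw [h4] at h3
    have h5 : c * (u * u * u) = c * 1 := by
      rw [mul_one]
      calc c * (u * u * u) = c * u * u * u := by group
        _ = c := h3.symm
    exact mul_left_cancel h5
  -- u = 1 since |R| is prime to 3
  have hu1 : u = 1 := by
    have huR : u ∈ R := hKR huK
    have ho3 : orderOf u ∣ 3 := by
      apply orderOf_dvd_of_pow_eq_one
      rw [pow_succ, pow_two]; exact hu3
    have hoR : orderOf u ∣ Nat.card ↥R := by
      have := orderOf_dvd_natCard (⟨u, huR⟩ : ↥R)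
      rwa [Subgroup.orderOf_mk] at this
    have h1 : orderOf u ∣ 1 := by
      have := Nat.dvd_gcd hoR ho3
      rwa [h.cop] at this
    exact orderOf_eq_one_iff.1 (Nat.dvd_one.1 h1)
  rw [hbc, hu1, mul_one]

end Cfsg.Agent.Helper12.S15
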