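import Mathlib
import Cfsg.Agent.Lib.S15.S15Defs
import Cfsg.Agent.Lib.S15.EDEFS
import Cfsg.Agent.Lib.S15.EK1
import Cfsg.Agent.Lib.S15.E4ZB
/-! S4415 (design helper12), block E (designer helper16), piece E4A1.
See plans/S4415_plan.md (section E) and plans/S4415_blockE.md. -/

set_option autoImplicit false
set_option linter.unusedSectionVars false
set_option linter.unusedVariables false

namespace Cfsg.Agent.Helper12.S15

variable {S : Type*} [Group S] [Finite S] {E : Type*} [AddCommGroup E] [Module (ZMod 3) E]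
  [Finite E]

/-- `Q` is abelian (exponent 2) -/
theorem e4a1_Q_comm (ρ : Representation (ZMod 3) S E) (b : S) (R Q : Subgroup S)
    (h : Setting ρ b R Q) (p q : S) (hp : p ∈ Q) (hq : q ∈ Q) : p * q = q * p := by
  have h1 := h.Q2 p hp
  have h2 := h.Q2 q hq
  have h3 := h.Q2 (p * q) (Q.mul_mem hp hq)
  rw [pow_two] at h1 h2 h3
  have hpi : p⁻¹ = p := inv_eq_of_mul_eq_one_right h1
  have hqi : q⁻¹ = q := inv_eq_of_mul_eq_one_right h2
  have h4 : (p * q)⁻¹ = p * q := inv_eq_of_mul_eq_one_right h3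
  rw [mul_inv_rev, hpi, hqi] at h4
  exact h4.symm

/-- elements of `A₁ = Q ∪ Qz` lie in `R` -/
theorem inA1_mem_R (ρ : Representation (ZMod 3) S E) (b : S) (R Q : Subgroup S) (h : Setting ρ b R Q)
    (z : S) (hzR : z ∈ R) (hz : ρ z = -1) (a : S) (ha : inA1 Q z a) : a ∈ R := by
  obtain ⟨q, hq, h1 | h1⟩ := ha <;> rw [h1]
  · exact h.QR hq
  · exact R.mul_mem (h.QR hq) hzR

/-- `A₁` centralises `Q` (`Q` has exponent 2, hence is abelian; `z` is central) -/
theorem inA1_comm_Q (ρ : Representation (ZMod 3) S E) (b : S) (R Q : Subgroup S) (h : Setting ρ b R Q)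
    (z : S) (hzR : z ∈ R) (hz : ρ z = -1) (a : S) (ha : inA1 Q z a) :
    ∀ q ∈ Q, a * q * a⁻¹ = q := by
  obtain ⟨hz2, hz1, hzb, hzc, hzQ⟩ := e4_z_basic ρ b R Q h z hzR hz
  intro q' hq'
  obtain ⟨q, hq, h1 | h1⟩ := ha <;> rw [h1]
  · rw [e4a1_Q_comm ρ b R Q h q q' hq hq']
    group
  · have hzq : z * q' = q' * z := (hzc q' (h.QR hq')).symm
    calc q * z * q' * (q * z)⁻¹ = q * (z * q') * z⁻¹ * q⁻¹ := by group
      _ = q * (q' * z) * z⁻¹ * q⁻¹ := by rw [hzq]
      _ = (q * q') * q⁻¹ := by group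
      _ = (q' * q) * q⁻¹ := by rw [e4a1_Q_comm ρ b R Q h q q' hq hq']
      _ = q' := by group

theorem inA1_sq (ρ : Representation (ZMod 3) S E) (b : S) (R Q : Subgroup S) (h : Setting ρ b R Q)
    (z : S) (hzR : z ∈ R) (hz : ρ z = -1) (a : S) (ha : inA1 Q z a) : a ^ 2 = 1 := by
  obtain ⟨hz2, hz1, hzb, hzc, hzQ⟩ := e4_z_basic ρ b R Q h z hzR hz
  obtain ⟨q, hq, h1 | h1⟩ := ha <;> rw [h1]
  · exact h.Q2 q hq
  · have hqz : q * z = z * q := hzc q (h.QR hq)
    have h2 := h.Q2 q hq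
    rw [pow_two] at h2 hz2 ⊢
    calc q * z * (q * z) = q * (z * q) * z := by group
      _ = q * (q * z) * z := by rw [hqz]
      _ = (q * q) * (z * z) := by group
      _ = 1 := by rw [h2, hz2, one_mul]

theorem inA1_mul (ρ : Representation (ZMod 3) S E) (b : S) (R Q : Subgroup S) (h : Setting ρ b R Q)
    (z : S) (hzR : z ∈ R) (hz : ρ z = -1) (a a' : S) (ha : inA1 Q z a) (ha' : inA1 Q z a') :
    inA1 Q z (a * a') := by
  obtain ⟨hz2, hz1, hzb, hzc, hzQ⟩ := e4_z_basic ρ b R Q h z hzR hz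
  rw [pow_two] at hz2
  obtain ⟨q, hq, h1 | h1⟩ := ha <;> obtain ⟨q', hq', h2 | h2⟩ := ha' <;> rw [h1, h2]
  · exact ⟨q * q', Q.mul_mem hq hq', Or.inl rfl⟩
  · exact ⟨q * q', Q.mul_mem hq hq', Or.inr (by group)⟩
  · refine ⟨q * q', Q.mul_mem hq hq', Or.inr ?_⟩
    have hzq : z * q' = q' * z := (hzc q' (h.QR hq')).symm
    calc q * z * q' = q * (z * q') := by group
      _ = q * (q' * z) := by rw [hzq]
      _ = q * q' * z := by group
  · refine ⟨q * q', Q.mul_mem hq hq', Or.inl ?_⟩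
    have hzq : z * q' = q' * z := (hzc q' (h.QR hq')).symm
    calc q * z * (q' * z) = q * (z * q') * z := by group
      _ = q * (q' * z) * z := by rw [hzq]
      _ = q * q' * (z * z) := by group
      _ = q * q' := by rw [hz2, mul_one]

theorem inA1_conj_b (ρ : Representation (ZMod 3) S E) (b : S) (R Q : Subgroup S) (h : Setting ρ b R Q)
    (z : S) (hzR : z ∈ R) (hz : ρ z = -1) (a : S) (ha : inA1 Q z a) :
    inA1 Q z (b * a * b⁻¹) := by
  obtain ⟨hz2, hz1, hzb, hzc, hzQ⟩ := e4_z_basic ρ b R Q h z hzR hz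
  obtain ⟨q, hq, h1 | h1⟩ := ha <;> rw [h1]
  · exact ⟨b * q * b⁻¹, h.bQ q hq, Or.inl rfl⟩
  · refine ⟨b * q * b⁻¹, h.bQ q hq, Or.inr ?_⟩
    calc b * (q * z) * b⁻¹ = (b * q * b⁻¹) * (b * z * b⁻¹) := by group
      _ = b * q * b⁻¹ * z := by rw [hzb]

/-- `|A₁| = 8` (`z ∉ Q`, `Setting.Q4`) -/
theorem inA1_card (ρ : Representation (ZMod 3) S E) (b : S) (R Q : Subgroup S) (h : Setting ρ b R Q)
    (z : S) (hzR : z ∈ R) (hz : ρ z = -1) : Nat.card {a : S // inA1 Q z a} = 8 := by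
  classical
  obtain ⟨hz2, hz1, hzb, hzc, hzQ⟩ := e4_z_basic ρ b R Q h z hzR hz
  have hcard : Nat.card (↥Q × Bool) = 8 := by
    rw [Nat.card_prod, h.Q4, Nat.card_eq_fintype_card, Fintype.card_bool]
  rw [← hcard]
  symm
  let f : ↥Q × Bool → {a : S // inA1 Q z a} := fun p =>
    match p with
    | (q, false) => ⟨q, q, q.2, Or.inl rfl⟩
    | (q, true) => ⟨q * z, q, q.2, Or.inr rfl⟩
  apply Nat.card_congr
  apply Equiv.ofBijective f
  constructor
  · rintro ⟨q, ε⟩ ⟨q', ε'⟩ hff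
    have hff' := congrArg Subtype.val hff
    cases ε <;> cases ε'
    · simp only [f] at hff'
      rw [Subtype.ext hff']
    · exfalso
      simp only [f] at hff'
      apply hzQ
      have : z = (q' : S)⁻¹ * q := by rw [hff']; group
      rw [this]
      exact Q.mul_mem (Q.inv_mem q'.2) q.2
    · exfalso
      simp only [f] at hff'
      apply hzQ
      have : z = (q : S)⁻¹ * q' := by rw [← hff']; group
      rw [this]
      exact Q.mul_mem (Q.inv_mem q.2) q'.2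
    · simp only [f] at hff'
      have := mul_right_cancel hff'
      rw [Subtype.ext this]
  · rintro ⟨a, q, hq, h1 | h1⟩
    · exact ⟨(⟨q, hq⟩, false), Subtype.ext h1.symm⟩
    · exact ⟨(⟨q, hq⟩, true), Subtype.ext h1.symm⟩

/-- `C_R(Q) = A₁` (`e_k1` + `e4_z_cent`) -/
theorem e4_a1_cent (ρ : Representation (ZMod 3) S E) (b : S) (R Q : Subgroup S) (h : Setting ρ b R Q)
    (hE : Nat.card E = 81) (z : S) (hzR : z ∈ R) (hz : ρ z = -1) (x : S) (hx : x ∈ R)
    (hxQ : ∀ q ∈ Q, x * q * x⁻¹ = q) : inA1 Q z x := by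
  obtain ⟨q, hq, hqb⟩ := e_k1 ρ b R Q h x hx hxQ
  have hqx : q * x ∈ R := R.mul_mem (h.QR hq) hx
  rcases e4_z_cent ρ b R Q h hE z hzR hz (q * x) hqx hqb with h1 | h1
  · refine ⟨q⁻¹, Q.inv_mem hq, Or.inl ?_⟩
    exact eq_inv_of_mul_eq_one_right h1
  · refine ⟨q⁻¹, Q.inv_mem hq, Or.inr ?_⟩
    rw [← h1]
    group

/-- `z` commutes with everything in `R`, so `x ∈ R` with `inA1` … : an element of `A₁` that commutes
with `b` is `1` or `z` -/
theorem inA1_cent_b (ρ : Representation (ZMod 3) S E) (b : S) (R Q : Subgroup S) (h : Setting ρ b R Q)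
    (hE : Nat.card E = 81) (z : S) (hzR : z ∈ R) (hz : ρ z = -1) (a : S) (ha : inA1 Q z a)
    (hab : b * a * b⁻¹ = a) : a = 1 ∨ a = z :=
  e4_z_cent ρ b R Q h hE z hzR hz a (inA1_mem_R ρ b R Q h z hzR hz a ha) hab

/-- `A₁` as a subgroup: elementary abelian of order 8 inside `R` (from the lemmas above:
`inA1_mul`, `inA1_sq`, `inA1_mem_R`, `inA1_card`, `inA1_comm_Q`) -/
theorem e4_a1_sub (ρ : Representation (ZMod 3) S E) (b : S) (R Q : Subgroup S) (h : Setting ρ b R Q)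
    (z : S) (hzR : z ∈ R) (hz : ρ z = -1) :
    ∃ A : Subgroup S, A ≤ R ∧ (∀ a : S, a ∈ A ↔ inA1 Q z a) ∧ Nat.card ↥A = 8 ∧
      Cfsg.IsElementaryAbelian 2 A := by
  obtain ⟨hz2, hz1, hzb, hzc, hzQ⟩ := e4_z_basic ρ b R Q h z hzR hz
  have hinv : ∀ a : S, inA1 Q z a → a⁻¹ = a := by
    intro a ha
    have := inA1_sq ρ b R Q h z hzR hz a ha
    rw [pow_two] at this
    exact inv_eq_of_mul_eq_one_right this
  let A : Subgroup S :=
    { carrier := {a | inA1 Q z a}
      mul_mem' := fun {a a'} ha ha' => inA1_mul ρ b R Q h z hzR hz a a' ha ha'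
      one_mem' := inA1_of_mem Q z Q.one_mem
      inv_mem' := fun {a} ha => by
        show inA1 Q z a⁻¹
        rw [hinv a ha]
        exact ha }
  have hAmem : ∀ a : S, a ∈ A ↔ inA1 Q z a := fun a => Iff.rfl
  refine ⟨A, fun a ha => inA1_mem_R ρ b R Q h z hzR hz a ha, hAmem, ?_, ?_, ?_⟩
  · rw [← inA1_card ρ b R Q h z hzR hz]
    exact Nat.card_congr (Equiv.subtypeEquivRight hAmem)
  · refine ⟨⟨fun a a' => ?_⟩⟩
    apply Subtype.ext
    show (a : S) * (a' : S) = (a' : S) * (a : S)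
    have ha : inA1 Q z (a : S) := a.2
    have ha' : inA1 Q z (a' : S) := a'.2
    have haR := inA1_mem_R ρ b R Q h z hzR hz _ ha
    have hcomm := inA1_comm_Q ρ b R Q h z hzR hz _ ha
    obtain ⟨q', hq', h1 | h1⟩ := ha'
    · rw [h1]
      have := hcomm q' hq'
      calc (a : S) * q' = ((a : S) * q' * (a : S)⁻¹) * a := by group
        _ = q' * a := by rw [this]
    · rw [h1]
      have := hcomm q' hq'
      calc (a : S) * (q' * z) = ((a : S) * q' * (a : S)⁻¹) * (a * z) := by group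
        _ = q' * ((a : S) * z) := by rw [this]
        _ = q' * (z * a) := by rw [hzc _ haR]
        _ = q' * z * a := by group
  · intro a ha
    exact inA1_sq ρ b R Q h z hzR hz a ha

end Cfsg.Agent.Helper12.S15
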