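import Mathlib
import Cfsg.Agent.Lib.S15.S15Defs
import Cfsg.Agent.Lib.S15.LFRAME
import Cfsg.Agent.Lib.S15.LFIND
import Cfsg.Agent.Lib.S15.LFDEC
/-! S4415 (design helper12), block E (designer helper16), piece ECARDQ.
See plans/S4415_plan.md (section E) and plans/S4415_blockE.md. -/

set_option autoImplicit false
set_option linter.unusedSectionVars false

namespace Cfsg.Agent.Helper12.S15

variable {S : Type*} [Group S] [Finite S] {E : Type*} [AddCommGroup E] [Module (ZMod 3) E]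
  [Finite E]

theorem ecardq_card_triple : Nat.card (ZMod 3 × ZMod 3 × ZMod 3) = 27 := by
  rw [Nat.card_prod, Nat.card_prod, Nat.card_zmod]

/-- `|E| = |C_E(Q)| · 27` (from `frame_decomp` + `frame_indep`: `(w,x,y,z) ↦ w + x e₁ + y e₂ + z e₃` is a
bijection `C_E(Q) × F₃³ → E`). -/
theorem e_card_fixQ (ρ : Representation (ZMod 3) S E) (b : S) (R Q : Subgroup S)
    (h : Setting ρ b R Q) : Nat.card E = Nat.card ↥(fixS ρ Q) * 27 := by
  obtain ⟨q₁, q₂, q₃, e₁, e₂, e₃, f⟩ := exists_frame ρ b R Q h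
  have hbij : Function.Bijective
      (fun p : ↥(fixS ρ Q) × (ZMod 3 × ZMod 3 × ZMod 3) =>
        (p.1 : E) + p.2.1 • e₁ + p.2.2.1 • e₂ + p.2.2.2 • e₃) := by
    constructor
    · rintro ⟨w, x, y, z⟩ ⟨w', x', y', z'⟩ heq
      have heq' : (w : E) + x • e₁ + y • e₂ + z • e₃ = (w' : E) + x' • e₁ + y' • e₂ + z' • e₃ :=
        heq
      have h0 : ((w : E) - (w' : E)) + (x - x') • e₁ + (y - y') • e₂ + (z - z') • e₃ = 0 := by
        have e : ((w : E) - (w' : E)) + (x - x') • e₁ + (y - y') • e₂ + (z - z') • e₃ =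
            ((w : E) + x • e₁ + y • e₂ + z • e₃) - ((w' : E) + x' • e₁ + y' • e₂ + z' • e₃) := by
          module
        rw [e, heq', sub_self]
      obtain ⟨hw, hx, hy, hz⟩ := frame_indep ρ b R Q h q₁ q₂ q₃ e₁ e₂ e₃ f _
        ((fixS ρ Q).sub_mem w.2 w'.2) _ _ _ h0
      have e1 : w = w' := Subtype.ext (sub_eq_zero.1 hw)
      rw [e1, sub_eq_zero.1 hx, sub_eq_zero.1 hy, sub_eq_zero.1 hz]
    · intro v
      obtain ⟨w, hw, x, y, z, hv⟩ := frame_decomp ρ b R Q h q₁ q₂ q₃ e₁ e₂ e₃ f v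
      exact ⟨(⟨w, hw⟩, x, y, z), hv.symm⟩
  rw [← Nat.card_congr (Equiv.ofBijective _ hbij), Nat.card_prod, ecardq_card_triple]

/-- `|[E,Q]| = 27` (from `comS_Q_eq` + `frame_indep`). -/
theorem e_card_comQ (ρ : Representation (ZMod 3) S E) (b : S) (R Q : Subgroup S)
    (h : Setting ρ b R Q) : Nat.card ↥(comS ρ Q) = 27 := by
  obtain ⟨q₁, q₂, q₃, e₁, e₂, e₃, f⟩ := exists_frame ρ b R Q h
  have hbij : Function.Bijective
      (fun p : ZMod 3 × ZMod 3 × ZMod 3 =>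
        (⟨p.1 • e₁ + p.2.1 • e₂ + p.2.2 • e₃,
          (comS_Q_eq ρ b R Q h q₁ q₂ q₃ e₁ e₂ e₃ f _).2 ⟨p.1, p.2.1, p.2.2, rfl⟩⟩ :
            ↥(comS ρ Q))) := by
    constructor
    · rintro ⟨x, y, z⟩ ⟨x', y', z'⟩ heq
      have heq' : x • e₁ + y • e₂ + z • e₃ = x' • e₁ + y' • e₂ + z' • e₃ :=
        congrArg Subtype.val heq
      have h0 : (0 : E) + (x - x') • e₁ + (y - y') • e₂ + (z - z') • e₃ = 0 := by
        have e : (0 : E) + (x - x') • e₁ + (y - y') • e₂ + (z - z') • e₃ =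
            (x • e₁ + y • e₂ + z • e₃) - (x' • e₁ + y' • e₂ + z' • e₃) := by
          module
        rw [e, heq', sub_self]
      obtain ⟨_, hx, hy, hz⟩ := frame_indep ρ b R Q h q₁ q₂ q₃ e₁ e₂ e₃ f 0
        (fixS ρ Q).zero_mem _ _ _ h0
      rw [sub_eq_zero.1 hx, sub_eq_zero.1 hy, sub_eq_zero.1 hz]
    · rintro ⟨v, hv⟩
      obtain ⟨x, y, z, hxyz⟩ := (comS_Q_eq ρ b R Q h q₁ q₂ q₃ e₁ e₂ e₃ f v).1 hv
      exact ⟨(x, y, z), Subtype.ext hxyz.symm⟩
  rw [← Nat.card_congr (Equiv.ofBijective _ hbij), ecardq_card_triple]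

end Cfsg.Agent.Helper12.S15
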