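import Mathlib
import Cfsg.Agent.Lib.S15.S15Defs
import Cfsg.Agent.Lib.S15.ECARDQ
/-! S4415 (design helper12), block E (designer helper16), piece E4C0.
See plans/S4415_plan.md (section E) and plans/S4415_blockE.md. -/

set_option autoImplicit false
set_option linter.unusedSectionVars false

namespace Cfsg.Agent.Helper12.S15

variable {S : Type*} [Group S] [Finite S] {E : Type*} [AddCommGroup E] [Module (ZMod 3) E]
  [Finite E]

/-- `|E| = 81`: `C_E(Q)` is a line (`e_card_fixQ` gives `|fixS ρ Q| = 3`). -/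
theorem e4_c0 (ρ : Representation (ZMod 3) S E) (b : S) (R Q : Subgroup S) (h : Setting ρ b R Q)
    (hE : Nat.card E = 81) :
    ∃ c₀ : E, c₀ ≠ 0 ∧ c₀ ∈ fixS ρ Q ∧ ∀ v ∈ fixS ρ Q, ∃ x : ZMod 3, v = x • c₀ := by
  have hcard := e_card_fixQ ρ b R Q h
  rw [hE] at hcard
  have hF : Nat.card ↥(fixS ρ Q) = 3 := by omega
  have hfin : Finite ↥(fixS ρ Q) := inferInstance
  have hnt : Nontrivial ↥(fixS ρ Q) := by
    rw [← Finite.one_lt_card_iff_nontrivial, hF]
    norm_num
  obtain ⟨c, hc⟩ := exists_ne (0 : ↥(fixS ρ Q))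
  let g : ZMod 3 → ↥(fixS ρ Q) := fun x => x • c
  have hg : Function.Injective g := by
    intro x y hxy
    have h1 : (x - y) • c = 0 := by
      rw [sub_smul]
      exact sub_eq_zero.2 hxy
    rcases smul_eq_zero.1 h1 with h2 | h2
    · exact sub_eq_zero.1 h2
    · exact absurd h2 hc
  have hbij : Function.Bijective g :=
    hg.bijective_of_nat_card_le (by rw [hF, Nat.card_zmod])
  refine ⟨(c : E), ?_, c.2, ?_⟩
  · intro h0
    exact hc (Subtype.ext h0)
  · intro v hv
    obtain ⟨x, hx⟩ := hbij.2 ⟨v, hv⟩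
    refine ⟨x, ?_⟩
    have := congrArg (fun u : ↥(fixS ρ Q) => (u : E)) hx
    simpa [g] using this.symm

end Cfsg.Agent.Helper12.S15
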