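import Mathlib
import Cfsg.Agent.Lib.S15.S15Defs
import Cfsg.Agent.Lib.S15.EDEFS
import Cfsg.Agent.Lib.S15.LQGRP
import Cfsg.Agent.Lib.S15.E4ZB
import Cfsg.Agent.Lib.S15.E4A1
import Cfsg.Agent.Lib.S15.LN3
/-! S4415 (design helper12), block E (designer helper16), piece E4CEN.
See plans/S4415_plan.md (section E) and plans/S4415_blockE.md. -/

set_option autoImplicit false
set_option linter.unusedSectionVars false

namespace Cfsg.Agent.Helper12.S15

variable {S : Type*} [Group S] [Finite S] {E : Type*} [AddCommGroup E] [Module (ZMod 3) E]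
  [Finite E]

/-- `|R| = 32`: `Z(R) = {1, z}`.
Proof: a central `c` centralises `Q`, so `c = q` or `q z` with `q ∈ Q` (`e4_a1_cent`); if `q ≠ 1` then
`q` is central in `R` (`z` is), hence so are `b q b⁻¹`, `b² q b⁻²` (`Setting.bR`), i.e. all of `Q`
(`exists_q`); then every `x ∈ R` centralises `Q`, lies in `A₁`, and `|R| ≤ 8` (`inA1_card`). -/
theorem e4_center (ρ : Representation (ZMod 3) S E) (b : S) (R Q : Subgroup S) (h : Setting ρ b R Q)
    (hE : Nat.card E = 81) (z : S) (hzR : z ∈ R) (hz : ρ z = -1) (h32 : Nat.card ↥R = 32)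
    (c : S) (hc : c ∈ R) (hcc : ∀ x ∈ R, x * c = c * x) : c = 1 ∨ c = z := by
  classical
  obtain ⟨hz2, hz1, hbz, hzc, hzQ⟩ := e4_z_basic ρ b R Q h z hzR hz
  have hzz : z * z = 1 := by rw [← pow_two]; exact hz2
  -- `c` centralises `Q`
  have hcQ : ∀ q ∈ Q, c * q * c⁻¹ = q := by
    intro q hq
    have h1 := hcc q (h.QR hq)
    rw [← h1, mul_assoc, mul_inv_cancel, mul_one]
  obtain ⟨q, hq, hcq⟩ := e4_a1_cent ρ b R Q h hE z hzR hz c hc hcQ
  -- `q` is central in `R`
  have hqc : ∀ x ∈ R, x * q = q * x := by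
    intro x hx
    rcases hcq with h1 | h1
    · rw [← h1]; exact hcc x hx
    · have hq' : q = c * z := by rw [h1, mul_assoc, hzz, mul_one]
      rw [hq', ← mul_assoc, hcc x hx, mul_assoc, hzc x hx, mul_assoc]
  by_cases hq1 : q = 1
  · rcases hcq with h1 | h1
    · left; rw [h1, hq1]
    · right; rw [h1, hq1, one_mul]
  exfalso
  -- conjugation by `b` preserves centrality in `R`
  have hconj : ∀ y : S, (∀ x ∈ R, x * y = y * x) →
      ∀ x ∈ R, x * (b * y * b⁻¹) = (b * y * b⁻¹) * x := by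
    intro y hy x hx
    have h1 := hy _ (bR_inv ρ b R Q h x hx)
    calc x * (b * y * b⁻¹) = b * ((b⁻¹ * x * b) * y) * b⁻¹ := by group
      _ = b * (y * (b⁻¹ * x * b)) * b⁻¹ := by rw [h1]
      _ = (b * y * b⁻¹) * x := by group
  obtain ⟨q₁, q₂, q₃, hq₁, hq₂, hq₃, hmem, hq₁1, h12, h21, hb1, hb2, hb3⟩ := exists_q ρ b R Q h
  have hall : (∀ x ∈ R, x * q₁ = q₁ * x) ∧ (∀ x ∈ R, x * q₂ = q₂ * x) ∧
      (∀ x ∈ R, x * q₃ = q₃ * x) := by
    rcases hmem q hq with h1 | h1 | h1 | h1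
    · exact absurd h1 hq1
    · rw [h1] at hqc
      have c2 := hconj q₁ hqc
      rw [hb1] at c2
      have c3 := hconj q₂ c2
      rw [hb2] at c3
      exact ⟨hqc, c2, c3⟩
    · rw [h1] at hqc
      have c3 := hconj q₂ hqc
      rw [hb2] at c3
      have c1 := hconj q₃ c3
      rw [hb3] at c1
      exact ⟨c1, hqc, c3⟩
    · rw [h1] at hqc
      have c1 := hconj q₃ hqc
      rw [hb3] at c1
      have c2 := hconj q₁ c1
      rw [hb1] at c2
      exact ⟨c1, c2, hqc⟩
  obtain ⟨hc1, hc2, hc3⟩ := hall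
  have hQc : ∀ q' ∈ Q, ∀ x ∈ R, x * q' = q' * x := by
    intro q' hq' x hx
    rcases hmem q' hq' with h1 | h1 | h1 | h1
    · rw [h1, mul_one, one_mul]
    · rw [h1]; exact hc1 x hx
    · rw [h1]; exact hc2 x hx
    · rw [h1]; exact hc3 x hx
  have hRA : ∀ x ∈ R, inA1 Q z x := by
    intro x hx
    apply e4_a1_cent ρ b R Q h hE z hzR hz x hx
    intro q' hq'
    rw [hQc q' hq' x hx, mul_assoc, mul_inv_cancel, mul_one]
  have hle : Nat.card ↥R ≤ Nat.card {a : S // inA1 Q z a} := by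
    apply Nat.card_le_card_of_injective (fun x : ↥R => (⟨x.1, hRA x.1 x.2⟩ : {a : S // inA1 Q z a}))
    intro x y hxy
    apply Subtype.ext
    have h9 := congrArg (fun t : {a : S // inA1 Q z a} => t.1) hxy
    exact h9
  rw [inA1_card ρ b R Q h z hzR hz, h32] at hle
  omega

end Cfsg.Agent.Helper12.S15
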