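import Mathlib
import Cfsg.Agent.Lib.S15.S15Defs
import Cfsg.Agent.Lib.S15.EDEFS
import Cfsg.Agent.Lib.S15.E4ZB
import Cfsg.Agent.Lib.S15.E4A1
import Cfsg.Agent.Lib.Helper1.Coprime
/-! S4415 (design helper12), block E (designer helper16), piece E4S1.
See plans/S4415_plan.md (section E) and plans/S4415_blockE.md. -/

set_option autoImplicit false
set_option linter.unusedSectionVars false

namespace Cfsg.Agent.Helper12.S15

variable {S : Type*} [Group S] [Finite S] {E : Type*} [AddCommGroup E] [Module (ZMod 3) E]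
  [Finite E]

/-- `|R| = 32`: `A₁ = Q ∪ Qz` is normal in `R`.
Proof: take the subgroup `A` of `e4_a1_sub` (order 8).  In the 2-group `↥R` normalisers grow
(`IsPGroup.isNilpotent`, `normalizerCondition_of_isNilpotent`), so `N := N_R(A)` has order 16 or 32.
If 16: `N` is `b`-invariant (`inA1_conj_b`, `Setting.bR`), `[N:A] = 2`, so for `x ∈ N ∖ A` the coset
`xA` is `b`-invariant; `Cfsg.Agent.Helper1.exists_centralizer_mem_coset` (`D = A`, `A = zpowers b`)
gives `c ∈ xA` commuting with `b`; `c ∈ R`, so `c ∈ {1,z} ⊆ A` (`e4_z_cent`), contradiction. -/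
theorem e4_a1_normal (ρ : Representation (ZMod 3) S E) (b : S) (R Q : Subgroup S) (h : Setting ρ b R Q)
    (hE : Nat.card E = 81) (z : S) (hzR : z ∈ R) (hz : ρ z = -1) (h32 : Nat.card ↥R = 32)
    (x : S) (hx : x ∈ R) (a : S) (ha : inA1 Q z a) : inA1 Q z (x * a * x⁻¹) := by
  obtain ⟨A, hAR, hA, hA8, -⟩ := e4_a1_sub ρ b R Q h z hzR hz
  -- it is enough to show that `R` normalises `A`
  suffices hRN : R ≤ Subgroup.normalizer (A : Set S) by
    rw [← hA]
    exact (Subgroup.mem_normalizer_iff.mp (hRN hx) a).mp ((hA a).mpr ha)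
  -- `b` normalises `A`
  have hbA : ∀ a' ∈ A, b * a' * b⁻¹ ∈ A := by
    intro a' ha'
    rw [hA] at ha' ⊢
    exact inA1_conj_b ρ b R Q h z hzR hz a' ha'
  have hbN : b ∈ Subgroup.normalizer (A : Set S) :=
    Subgroup.mem_normalizer_fintype (fun n hn => hbA n hn)
  -- normalisers grow in the 2-group `↥R`
  have hP : IsPGroup 2 ↥R := IsPGroup.of_card (n := 5) (by rw [h32]; norm_num)
  haveI : Group.IsNilpotent ↥R := hP.isNilpotent
  have hNC : NormalizerCondition ↥R := normalizerCondition_of_isNilpotent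
  have hAlt : A.subgroupOf R < ⊤ := by
    rw [lt_top_iff_ne_top]
    intro htop
    have h1 : Nat.card ↥(A.subgroupOf R) = Nat.card ↥R := by
      rw [htop]
      exact Nat.card_congr (Subgroup.topEquiv (G := ↥R)).toEquiv
    rw [Nat.card_congr (Subgroup.subgroupOfEquivOfLe hAR).toEquiv, hA8, h32] at h1
    norm_num at h1
  have hlt := hNC _ hAlt
  rw [← Subgroup.subgroupOf_normalizer_eq hAR] at hlt
  obtain ⟨x', hx'N, hx'A⟩ := SetLike.exists_of_lt hlt
  have hx₀R : (x' : S) ∈ R := x'.2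
  have hx₀N : (x' : S) ∈ Subgroup.normalizer (A : Set S) := Subgroup.mem_subgroupOf.mp hx'N
  have hx₀A : (x' : S) ∉ A := fun hmem => hx'A (Subgroup.mem_subgroupOf.mpr hmem)
  -- `N = N_R(A)`
  obtain ⟨N, hNdef⟩ : ∃ N : Subgroup S, N = R ⊓ Subgroup.normalizer (A : Set S) := ⟨_, rfl⟩
  have hAN : A ≤ N := by
    rw [hNdef]
    exact le_inf hAR Subgroup.le_normalizer
  have hNR : N ≤ R := by
    rw [hNdef]
    exact inf_le_left
  have hNnorm : N ≤ Subgroup.normalizer (A : Set S) := by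
    rw [hNdef]
    exact inf_le_right
  have hx₀ : (x' : S) ∈ N := by
    rw [hNdef]
    exact ⟨hx₀R, hx₀N⟩
  have hcardN : Nat.card ↥N = 16 ∨ Nat.card ↥N = 32 := by
    have h1 : Nat.card ↥A ∣ Nat.card ↥N := Subgroup.card_dvd_of_le hAN
    have h2 : Nat.card ↥N ∣ Nat.card ↥R := Subgroup.card_dvd_of_le hNR
    rw [hA8] at h1
    rw [h32] at h2
    obtain ⟨m, hm⟩ := h1
    rw [hm] at h2
    have h3 : m ∣ 4 := Nat.dvd_of_mul_dvd_mul_left (by norm_num : 0 < 8) (by simpa using h2)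
    have h4 : m ≤ 4 := Nat.le_of_dvd (by norm_num) h3
    have hpos : 0 < Nat.card ↥N := Nat.card_pos
    have hne8 : Nat.card ↥N ≠ 8 := by
      intro h8
      have h5 : A = N := Subgroup.eq_of_le_of_card_ge hAN (by rw [h8, hA8])
      exact hx₀A (h5 ▸ hx₀)
    interval_cases m
    · omega
    · omega
    · left; omega
    · norm_num at h3
    · right; omega
  rcases hcardN with h16 | hN32
  · -- the impossible case `|N| = 16`
    exfalso
    have hidx : (A.subgroupOf N).index = 2 := by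
      have h1 := Subgroup.relIndex_mul_relIndex (⊥ : Subgroup S) A N bot_le hAN
      rw [Subgroup.relIndex_bot_left, Subgroup.relIndex_bot_left, hA8, h16] at h1
      have h2 : A.relIndex N = 2 := by omega
      exact h2
    -- `y = b x b⁻¹ ∈ N ∖ A`
    have hyN : b * (x' : S) * b⁻¹ ∈ N := by
      rw [hNdef]
      refine ⟨h.bR _ hx₀R, ?_⟩
      exact Subgroup.mul_mem _ (Subgroup.mul_mem _ hbN hx₀N) (Subgroup.inv_mem _ hbN)
    have hyA : b * (x' : S) * b⁻¹ ∉ A := fun hmem =>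
      hx₀A ((Subgroup.mem_normalizer_iff.mp hbN _).mpr hmem)
    have hxiN : (x' : S)⁻¹ ∈ N := N.inv_mem hx₀
    have hxiA : (x' : S)⁻¹ ∉ A := fun hmem => hx₀A (by simpa using A.inv_mem hmem)
    have hprod : (x' : S)⁻¹ * (b * (x' : S) * b⁻¹) ∈ A := by
      have h1 := (Subgroup.mul_mem_iff_of_index_two hidx
        (a := (⟨(x' : S)⁻¹, hxiN⟩ : ↥N)) (b := (⟨b * (x' : S) * b⁻¹, hyN⟩ : ↥N))).mpr
        ⟨fun hm => absurd (Subgroup.mem_subgroupOf.mp hm) hxiA,
          fun hm => absurd (Subgroup.mem_subgroupOf.mp hm) hyA⟩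
      exact Subgroup.mem_subgroupOf.mp h1
    -- the subgroup of the `a` normalising `A` with `x⁻¹ a x a⁻¹ ∈ A`
    let T : Subgroup S :=
      { carrier := {a' | a' ∈ Subgroup.normalizer (A : Set S) ∧
          (x' : S)⁻¹ * a' * (x' : S) * a'⁻¹ ∈ A}
        one_mem' := by
          refine ⟨Subgroup.one_mem _, ?_⟩
          have e1 : (x' : S)⁻¹ * 1 * (x' : S) * 1⁻¹ = 1 := by group
          rw [e1]
          exact A.one_mem
        mul_mem' := by
          rintro a₁ a₂ ⟨h1, h1'⟩ ⟨h2, h2'⟩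
          refine ⟨Subgroup.mul_mem _ h1 h2, ?_⟩
          have h3 : a₁ * ((x' : S)⁻¹ * a₂ * (x' : S) * a₂⁻¹) * a₁⁻¹ ∈ A :=
            (Subgroup.mem_normalizer_iff.mp h1 _).mp h2'
          have e1 : (x' : S)⁻¹ * (a₁ * a₂) * (x' : S) * (a₁ * a₂)⁻¹ =
              ((x' : S)⁻¹ * a₁ * (x' : S) * a₁⁻¹) *
                (a₁ * ((x' : S)⁻¹ * a₂ * (x' : S) * a₂⁻¹) * a₁⁻¹) := by group
          rw [e1]
          exact A.mul_mem h1' h3
        inv_mem' := by
          rintro a₁ ⟨h1, h1'⟩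
          refine ⟨Subgroup.inv_mem _ h1, ?_⟩
          have h3 := (Subgroup.mem_normalizer_iff.mp (Subgroup.inv_mem _ h1) _).mp (A.inv_mem h1')
          have e1 : (x' : S)⁻¹ * a₁⁻¹ * (x' : S) * a₁⁻¹⁻¹ =
              a₁⁻¹ * ((x' : S)⁻¹ * a₁ * (x' : S) * a₁⁻¹)⁻¹ * a₁⁻¹⁻¹ := by group
          rw [e1]
          exact h3 }
    have hbT : Subgroup.zpowers b ≤ T := by
      rw [Subgroup.zpowers_le]
      refine ⟨hbN, ?_⟩
      have e1 : (x' : S)⁻¹ * b * (x' : S) * b⁻¹ = (x' : S)⁻¹ * (b * (x' : S) * b⁻¹) := by group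
      rw [e1]
      exact hprod
    have hBN : Subgroup.zpowers b ≤ Subgroup.normalizer (A : Set S) := fun a' ha' => (hbT ha').1
    have hcop : (Nat.card ↥(Subgroup.zpowers b)).Coprime (Nat.card ↥A) := by
      rw [hA8, Nat.card_zpowers]
      have h1 : orderOf b ∣ 3 := orderOf_dvd_of_pow_eq_one h.b3
      exact Nat.Coprime.coprime_dvd_left h1 (by norm_num)
    have hsolv : Group.IsSolvable ↥(Subgroup.zpowers b) := by
      apply isSolvable_of_comm
      rintro ⟨a₁, ha₁⟩ ⟨a₂, ha₂⟩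
      rw [Subgroup.mem_zpowers_iff] at ha₁ ha₂
      obtain ⟨i, rfl⟩ := ha₁
      obtain ⟨j, rfl⟩ := ha₂
      apply Subtype.ext
      exact zpow_mul_comm b i j
    obtain ⟨c, hcC, hcA⟩ := Cfsg.Agent.Helper1.exists_centralizer_mem_coset A (Subgroup.zpowers b)
      hBN hcop (Or.inl hsolv) (x' : S) (fun a' ha' => (hbT ha').2)
    have hcb : b * c * b⁻¹ = c := by
      have h1 := (Subgroup.mem_centralizer_iff.mp hcC) b (Subgroup.mem_zpowers b)
      rw [h1, mul_inv_cancel_right]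
    have hcR : c ∈ R := by
      have e1 : c = (x' : S) * ((x' : S)⁻¹ * c) := by group
      rw [e1]
      exact R.mul_mem hx₀R (hAR hcA)
    have hcnA : c ∉ A := by
      intro hmem
      apply hx₀A
      have e1 : (x' : S) = c * ((x' : S)⁻¹ * c)⁻¹ := by group
      rw [e1]
      exact A.mul_mem hmem (A.inv_mem hcA)
    rcases e4_z_cent ρ b R Q h hE z hzR hz c hcR hcb with h1 | h1
    · exact hcnA (h1 ▸ A.one_mem)
    · apply hcnA
      rw [h1, hA]
      have h2 := inA1_mul_z Q z (Q.one_mem)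
      rwa [one_mul] at h2
  · have h5 : N = R := Subgroup.eq_of_le_of_card_ge hNR (by rw [hN32, h32])
    rw [← h5]
    exact hNnorm

end Cfsg.Agent.Helper12.S15
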