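import Mathlib
import Cfsg.Agent.Lib.S15.S15Defs
import Cfsg.Agent.Lib.S15.EDEFS
import Cfsg.Agent.Lib.S15.LQGRP
import Cfsg.Agent.Lib.S15.E4ZB
import Cfsg.Agent.Lib.S15.E4A1
import Cfsg.Agent.Lib.S15.E4S1
/-! S4415 (design helper12), block E (designer helper16), piece E4S2.
See plans/S4415_plan.md (section E) and plans/S4415_blockE.md. -/

set_option autoImplicit false
set_option linter.unusedSectionVars false

namespace Cfsg.Agent.Helper12.S15

variable {S : Type*} [Group S] [Finite S] {E : Type*} [AddCommGroup E] [Module (ZMod 3) E]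
  [Finite E]

/-- squaring of a self-map of `Fin 3` -/
def s15_e4s2_sq (f : Fin 3 → Fin 3) : Fin 3 → Fin 3 := f ∘ f

/-- the 32-nd power of a self-map of `Fin 3` -/
def s15_e4s2_sq5 (f : Fin 3 → Fin 3) : Fin 3 → Fin 3 :=
  s15_e4s2_sq (s15_e4s2_sq (s15_e4s2_sq (s15_e4s2_sq (s15_e4s2_sq f))))

def s15_e4s2_mk (a c d : Fin 3) : Fin 3 → Fin 3 :=
  fun i => if i = 0 then a else if i = 1 then c else d

/-- `p` times its conjugate by the 3-cycle -/
def s15_e4s2_tw (p : Fin 3 → Fin 3) : Fin 3 → Fin 3 :=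
  p ∘ ((fun i => i + 1) ∘ p ∘ (fun i => i + 2))

set_option maxRecDepth 4000 in
/-- a self-map `p` of three points such that `p` and `p · σ p σ⁻¹` both have 2-power order is trivial -/
theorem s15_e4s2_core : ∀ a c d : Fin 3,
    s15_e4s2_sq5 (s15_e4s2_mk a c d) = id →
    s15_e4s2_sq5 (s15_e4s2_tw (s15_e4s2_mk a c d)) = id → s15_e4s2_mk a c d = id := by
  decide

theorem s15_e4s2_mk_eq (p : Fin 3 → Fin 3) : p = s15_e4s2_mk (p 0) (p 1) (p 2) := by
  funext i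
  fin_cases i <;> rfl

theorem s15_e4s2_core' (p : Fin 3 → Fin 3) (h1 : s15_e4s2_sq5 p = id)
    (h2 : s15_e4s2_sq5 (s15_e4s2_tw p) = id) : p = id := by
  rw [s15_e4s2_mk_eq p] at h1 h2 ⊢
  exact s15_e4s2_core _ _ _ h1 h2

/-- `|R| = 32`: `R` acts trivially on `A₁/⟨z⟩`: `x q x⁻¹ ∈ {q, qz}`.
Proof (finite case analysis): write `Q = {1,q₁,q₂,q₃}` cycled by `b` (`exists_q`).  By `e4_a1_normal`,
`x qᵢ x⁻¹ = q_(π i) z^λ` for a permutation `π = π_x` of `{1,2,3}` (it is not `1` or `z`: `z` central,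
`z ∉ Q`).  (a) `π_x` is not a 3-cycle: if it is, so is `π_(x²)` (direct computation, orientation flips),
hence `π_(x^32)` is one, but `x^32 = 1` (`|R| = 32`).  (b) `π_x` is not a transposition: if `π_x = (12)`
then `π_(b x b⁻¹) = (23)` (as `b qᵢ b⁻¹ = q_(i+1)`, `b z b⁻¹ = z`) and `π_(x · b x b⁻¹)` is a 3-cycle,
contradicting (a) for `x * (b * x * b⁻¹) ∈ R`; the other transpositions are `b`-conjugate to this case. -/
theorem e4_conj_q (ρ : Representation (ZMod 3) S E) (b : S) (R Q : Subgroup S) (h : Setting ρ b R Q)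
    (hE : Nat.card E = 81) (z : S) (hzR : z ∈ R) (hz : ρ z = -1) (h32 : Nat.card ↥R = 32)
    (x : S) (hx : x ∈ R) (q : S) (hq : q ∈ Q) : x * q * x⁻¹ = q ∨ x * q * x⁻¹ = q * z := by
  obtain ⟨hz2, hz1, hbz, hzc, hzQ⟩ := e4_z_basic ρ b R Q h z hzR hz
  have hzz : z * z = 1 := by rw [← pow_two]; exact hz2
  obtain ⟨q₁, q₂, q₃, hq₁, hq₂, hq₃, hQmem, hq₁1, h12, h21, hb1, hb2, hb3⟩ := exists_q ρ b R Q h
  have hs1 : q₁ * q₁ = 1 := by rw [← pow_two]; exact h.Q2 q₁ hq₁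
  have hs2 : q₂ * q₂ = 1 := by rw [← pow_two]; exact h.Q2 q₂ hq₂
  -- the three involutions are distinct and non-trivial
  have hq₂1 : q₂ ≠ 1 := by
    intro h1
    apply hq₁1
    have h2 : b * q₁ * b⁻¹ = 1 := hb1.trans h1
    have h3 : q₁ = b⁻¹ * (b * q₁ * b⁻¹) * b := by group
    rw [h3, h2]
    group
  have hq₃1 : q₃ ≠ 1 := by
    intro h1
    apply hq₂1
    have h2 : b * q₂ * b⁻¹ = 1 := hb2.trans h1
    have h3 : q₂ = b⁻¹ * (b * q₂ * b⁻¹) * b := by group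
    rw [h3, h2]
    group
  have hne12 : q₁ ≠ q₂ := by
    intro h1
    apply hq₃1
    rw [← h12, ← h1, hs1]
  have hne13 : q₁ ≠ q₃ := by
    intro h1
    apply hq₂1
    have h2 : q₁ * q₂ = q₁ := h12.trans h1.symm
    exact mul_eq_left.mp h2
  have hne23 : q₂ ≠ q₃ := by
    intro h1
    apply hq₁1
    have h2 : q₂ * q₁ = q₂ := h21.trans h1.symm
    exact mul_eq_left.mp h2
  obtain ⟨qq, hqq⟩ : ∃ qq : Fin 3 → S, qq = ![q₁, q₂, q₃] := ⟨_, rfl⟩
  have hqq0 : qq 0 = q₁ := by rw [hqq]; rfl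
  have hqq1 : qq 1 = q₂ := by rw [hqq]; rfl
  have hqq2 : qq 2 = q₃ := by rw [hqq]; rfl
  have hqqQ : ∀ i, qq i ∈ Q := by
    intro i
    fin_cases i
    · show qq 0 ∈ Q
      rw [hqq0]; exact hq₁
    · show qq 1 ∈ Q
      rw [hqq1]; exact hq₂
    · show qq 2 ∈ Q
      rw [hqq2]; exact hq₃
  have hqq1' : ∀ i, qq i ≠ 1 := by
    intro i
    fin_cases i
    · show qq 0 ≠ 1
      rw [hqq0]; exact hq₁1
    · show qq 1 ≠ 1
      rw [hqq1]; exact hq₂1
    · show qq 2 ≠ 1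
      rw [hqq2]; exact hq₃1
  have hqqinj : ∀ i j, qq i = qq j → i = j := by
    intro i j hij
    fin_cases i <;> fin_cases j <;>
      first
      | rfl
      | (exfalso
         simp only [Fin.zero_eta, Fin.mk_one, Fin.reduceFinMk, hqq0, hqq1, hqq2] at hij
         first
         | exact hne12 hij
         | exact hne12 hij.symm
         | exact hne13 hij
         | exact hne13 hij.symm
         | exact hne23 hij
         | exact hne23 hij.symm)
  have hbqq : ∀ i, b * qq i * b⁻¹ = qq (i + 1) := by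
    intro i
    fin_cases i
    · show b * qq 0 * b⁻¹ = qq 1
      rw [hqq0, hqq1]; exact hb1
    · show b * qq 1 * b⁻¹ = qq 2
      rw [hqq1, hqq2]; exact hb2
    · show b * qq 2 * b⁻¹ = qq 0
      rw [hqq2, hqq0]; exact hb3
  have hbqq' : ∀ i, b⁻¹ * qq i * b = qq (i + 2) := by
    intro i
    have h1 := hbqq (i + 2)
    have h2 : i + 2 + 1 = i := by
      fin_cases i <;> rfl
    rw [h2] at h1
    rw [← h1]
    group
  -- no element of `Q` is `z` times an element of `Q`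
  have hQz : ∀ a ∈ Q, ∀ a' ∈ Q, a = a' * z → False := by
    intro a ha a' ha' haa
    apply hzQ
    have h1 : z = a'⁻¹ * a := by rw [haa]; group
    rw [h1]
    exact Q.mul_mem (Q.inv_mem ha') ha
  have hconjz : ∀ y ∈ R, y * z * y⁻¹ = z := by
    intro y hy
    rw [hzc y hy, mul_inv_cancel_right]
  -- the relation "`y` maps the class of `qq i` to the class of `qq j`"
  have F1 : ∀ y ∈ R, ∀ i, ∃ j, y * qq i * y⁻¹ = qq j ∨ y * qq i * y⁻¹ = qq j * z := by
    intro y hy i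
    obtain ⟨q', hq', hq'e⟩ := e4_a1_normal ρ b R Q h hE z hzR hz h32 y hy (qq i)
      (inA1_of_mem Q z (hqqQ i))
    have hq'1 : q' ≠ 1 := by
      intro h1
      rw [h1, one_mul] at hq'e
      rcases hq'e with h2 | h2
      · apply hqq1' i
        have h3 : qq i = y⁻¹ * (y * qq i * y⁻¹) * y := by group
        rw [h3, h2]
        group
      · apply hzQ
        have h3 : qq i = y⁻¹ * (y * qq i * y⁻¹) * y := by group
        have h4 : y⁻¹ * z * y = z := by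
          have h5 := hconjz y⁻¹ (R.inv_mem hy)
          rwa [inv_inv] at h5
        rw [h2, h4] at h3
        rw [← h3]
        exact hqqQ i
    rcases hQmem q' hq' with h1 | h1 | h1 | h1
    · exact absurd h1 hq'1
    · exact ⟨0, by rw [hqq0, ← h1]; exact hq'e⟩
    · exact ⟨1, by rw [hqq1, ← h1]; exact hq'e⟩
    · exact ⟨2, by rw [hqq2, ← h1]; exact hq'e⟩
  have F3 : ∀ y : S, ∀ i j j', (y * qq i * y⁻¹ = qq j ∨ y * qq i * y⁻¹ = qq j * z) →
      (y * qq i * y⁻¹ = qq j' ∨ y * qq i * y⁻¹ = qq j' * z) → j = j' := by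
    intro y i j j' h1 h2
    apply hqqinj
    rcases h1 with h1 | h1 <;> rcases h2 with h2 | h2
    · exact h1.symm.trans h2
    · exact absurd (h1.symm.trans h2) (fun h3 => hQz _ (hqqQ j) _ (hqqQ j') h3)
    · exact absurd (h2.symm.trans h1) (fun h3 => hQz _ (hqqQ j') _ (hqqQ j) h3)
    · exact mul_right_cancel (h1.symm.trans h2)
  -- composition
  have G2 : ∀ y₁ : S, ∀ y₂ ∈ R, ∀ p₁ p₂ : Fin 3 → Fin 3,
      (∀ i, y₁ * qq i * y₁⁻¹ = qq (p₁ i) ∨ y₁ * qq i * y₁⁻¹ = qq (p₁ i) * z) →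
      (∀ i, y₂ * qq i * y₂⁻¹ = qq (p₂ i) ∨ y₂ * qq i * y₂⁻¹ = qq (p₂ i) * z) →
      ∀ i, (y₂ * y₁) * qq i * (y₂ * y₁)⁻¹ = qq ((p₂ ∘ p₁) i) ∨
        (y₂ * y₁) * qq i * (y₂ * y₁)⁻¹ = qq ((p₂ ∘ p₁) i) * z := by
    intro y₁ y₂ hy₂ p₁ p₂ hp₁ hp₂ i
    have e1 : (y₂ * y₁) * qq i * (y₂ * y₁)⁻¹ = y₂ * (y₁ * qq i * y₁⁻¹) * y₂⁻¹ := by group
    rw [e1, Function.comp_apply]
    rcases hp₁ i with h1 | h1
    · rw [h1]
      exact hp₂ (p₁ i)
    · rw [h1]
      have e2 : y₂ * (qq (p₁ i) * z) * y₂⁻¹ = (y₂ * qq (p₁ i) * y₂⁻¹) * (y₂ * z * y₂⁻¹) := by group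
      rw [e2, hconjz y₂ hy₂]
      rcases hp₂ (p₁ i) with h2 | h2
      · right
        rw [h2]
      · left
        rw [h2, mul_assoc, hzz, mul_one]
  -- uniqueness of the induced map
  have G3 : ∀ y : S, ∀ p₁ p₂ : Fin 3 → Fin 3,
      (∀ i, y * qq i * y⁻¹ = qq (p₁ i) ∨ y * qq i * y⁻¹ = qq (p₁ i) * z) →
      (∀ i, y * qq i * y⁻¹ = qq (p₂ i) ∨ y * qq i * y⁻¹ = qq (p₂ i) * z) → p₁ = p₂ := by
    intro y p₁ p₂ hp₁ hp₂
    funext i
    exact F3 y i _ _ (hp₁ i) (hp₂ i)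
  -- conjugation by `b`
  have G5 : ∀ y : S, ∀ p : Fin 3 → Fin 3,
      (∀ i, y * qq i * y⁻¹ = qq (p i) ∨ y * qq i * y⁻¹ = qq (p i) * z) →
      ∀ i, (b * y * b⁻¹) * qq i * (b * y * b⁻¹)⁻¹ =
          qq (((fun i => i + 1) ∘ p ∘ (fun i => i + 2)) i) ∨
        (b * y * b⁻¹) * qq i * (b * y * b⁻¹)⁻¹ =
          qq (((fun i => i + 1) ∘ p ∘ (fun i => i + 2)) i) * z := by
    intro y p hp i
    have e1 : (b * y * b⁻¹) * qq i * (b * y * b⁻¹)⁻¹ =
        b * (y * (b⁻¹ * qq i * b) * y⁻¹) * b⁻¹ := by group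
    rw [e1, hbqq' i]
    simp only [Function.comp_apply]
    rcases hp (i + 2) with h1 | h1
    · left
      rw [h1, hbqq]
    · right
      rw [h1]
      have e2 : b * (qq (p (i + 2)) * z) * b⁻¹ = (b * qq (p (i + 2)) * b⁻¹) * (b * z * b⁻¹) := by
        group
      rw [e2, hbz, hbqq]
  -- squaring
  have Hsq : ∀ y ∈ R, ∀ p : Fin 3 → Fin 3,
      (∀ i, y * qq i * y⁻¹ = qq (p i) ∨ y * qq i * y⁻¹ = qq (p i) * z) →
      ∀ i, (y * y) * qq i * (y * y)⁻¹ = qq (s15_e4s2_sq p i) ∨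
        (y * y) * qq i * (y * y)⁻¹ = qq (s15_e4s2_sq p i) * z := by
    intro y hy p hp
    exact G2 y y hy p p hp hp
  have H32 : ∀ y ∈ R, ∀ p : Fin 3 → Fin 3,
      (∀ i, y * qq i * y⁻¹ = qq (p i) ∨ y * qq i * y⁻¹ = qq (p i) * z) →
      s15_e4s2_sq5 p = id := by
    intro y hy p hp
    have hy2 : y * y ∈ R := R.mul_mem hy hy
    have hy4 : y * y * (y * y) ∈ R := R.mul_mem hy2 hy2
    have hy8 : y * y * (y * y) * (y * y * (y * y)) ∈ R := R.mul_mem hy4 hy4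
    have hy16 : y * y * (y * y) * (y * y * (y * y)) * (y * y * (y * y) * (y * y * (y * y))) ∈ R :=
      R.mul_mem hy8 hy8
    have h2 := Hsq y hy p hp
    have h4 := Hsq _ hy2 _ h2
    have h8 := Hsq _ hy4 _ h4
    have h16 := Hsq _ hy8 _ h8
    have h32' := Hsq _ hy16 _ h16
    have hpow : y * y * (y * y) * (y * y * (y * y)) * (y * y * (y * y) * (y * y * (y * y))) *
        (y * y * (y * y) * (y * y * (y * y)) * (y * y * (y * y) * (y * y * (y * y)))) = 1 := by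
      have h1 : (⟨y, hy⟩ : ↥R) ^ 32 = 1 := by
        rw [← h32]
        exact pow_card_eq_one'
      have h3 : y ^ 32 = 1 := by
        have := congrArg Subtype.val h1
        simpa using this
      have e2 : y * y = y ^ 2 := (pow_two y).symm
      have e4 : y ^ 2 * y ^ 2 = y ^ 4 := by rw [← pow_add]
      have e8 : y ^ 4 * y ^ 4 = y ^ 8 := by rw [← pow_add]
      have e16 : y ^ 8 * y ^ 8 = y ^ 16 := by rw [← pow_add]
      have e32 : y ^ 16 * y ^ 16 = y ^ 32 := by rw [← pow_add]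
      rw [e2, e4, e8, e16, e32, h3]
    rw [hpow] at h32'
    have hid : ∀ i, (1 : S) * qq i * (1 : S)⁻¹ = qq (id i) ∨
        (1 : S) * qq i * (1 : S)⁻¹ = qq (id i) * z := by
      intro i
      left
      rw [one_mul, inv_one, mul_one]
      rfl
    exact G3 1 _ _ h32' hid
  -- the induced map of `x`
  choose p hp using F1 x hx
  have hbx : b * x * b⁻¹ ∈ R := h.bR x hx
  have h1 : s15_e4s2_sq5 p = id := H32 x hx p hp
  have h2 : s15_e4s2_sq5 (s15_e4s2_tw p) = id := by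
    apply H32 (x * (b * x * b⁻¹)) (R.mul_mem hx hbx)
    exact G2 (b * x * b⁻¹) x hx _ p (G5 x p hp) hp
  have hpid : p = id := s15_e4s2_core' p h1 h2
  -- conclusion
  rcases hQmem q hq with h3 | h3 | h3 | h3
  · left
    rw [h3, mul_one, mul_inv_cancel]
  · have h4 := hp 0
    rw [hpid, id, hqq0, ← h3] at h4
    exact h4
  · have h4 := hp 1
    rw [hpid, id, hqq1, ← h3] at h4
    exact h4
  · have h4 := hp 2
    rw [hpid, id, hqq2, ← h3] at h4
    exact h4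

end Cfsg.Agent.Helper12.S15
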