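import Mathlib
import Cfsg.Agent.Lib.S15.S15Defs

/-! S4415 (design helper12), block E (designer helper16), piece E4MONO.
See plans/S4415_plan.md (section E) and plans/S4415_blockE.md. -/

set_option autoImplicit false
set_option linter.unusedSectionVars false

namespace Cfsg.Agent.Helper12.S15

variable {S : Type*} [Group S] [Finite S] {E : Type*} [AddCommGroup E] [Module (ZMod 3) E]
  [Finite E]

/-- the explicit `4 × 4` determinant -/
theorem e4mono_det (α β γ δ : ZMod 3) :
    Matrix.det !![0, α, 0, 0; β, 0, 0, 0; 0, 0, 0, δ; 0, 0, γ, 0] = α * β * γ * δ := by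
  simp [Matrix.det_succ_row_zero, Fin.sum_univ_succ, Fin.succAbove]
  ring

/-- determinant of a monomial operator of shape `(c₀ e₁)(e₂ e₃)` in a basis `c₀,e₁,e₂,e₃`
(pure linear algebra: build a `Basis (Fin 4) (ZMod 3) E` from `hspan`/`hind`, `LinearMap.det_toMatrix`,
explicit `4 × 4` determinant). -/
theorem e4_mono (f : Module.End (ZMod 3) E) (c₀ e₁ e₂ e₃ : E)
    (hspan : ∀ v : E, ∃ w x y z : ZMod 3, v = w • c₀ + x • e₁ + y • e₂ + z • e₃)
    (hind : ∀ w x y z : ZMod 3, w • c₀ + x • e₁ + y • e₂ + z • e₃ = 0 →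
      w = 0 ∧ x = 0 ∧ y = 0 ∧ z = 0)
    (α β γ δ : ZMod 3) (h0 : f c₀ = β • e₁) (h1 : f e₁ = α • c₀) (h2 : f e₂ = γ • e₃)
    (h3 : f e₃ = δ • e₂) : LinearMap.det f = α * β * γ * δ := by
  classical
  have hli : LinearIndependent (ZMod 3) ![c₀, e₁, e₂, e₃] := by
    rw [Fintype.linearIndependent_iff]
    intro g hg
    rw [Fin.sum_univ_four] at hg
    obtain ⟨a0, a1, a2, a3⟩ := hind _ _ _ _ hg
    intro i
    fin_cases i
    · exact a0
    · exact a1
    · exact a2
    · exact a3
  have hsp : ⊤ ≤ Submodule.span (ZMod 3) (Set.range ![c₀, e₁, e₂, e₃]) := by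
    intro v _
    obtain ⟨w, x, y, z, rfl⟩ := hspan v
    have m : ∀ i, ![c₀, e₁, e₂, e₃] i ∈
        Submodule.span (ZMod 3) (Set.range ![c₀, e₁, e₂, e₃]) :=
      fun i => Submodule.subset_span ⟨i, rfl⟩
    exact Submodule.add_mem _ (Submodule.add_mem _ (Submodule.add_mem _
      (Submodule.smul_mem _ w (m 0)) (Submodule.smul_mem _ x (m 1)))
      (Submodule.smul_mem _ y (m 2))) (Submodule.smul_mem _ z (m 3))
  have hB0 : Module.Basis.mk hli hsp 0 = c₀ := by rw [Module.Basis.mk_apply]; rfl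
  have hB1 : Module.Basis.mk hli hsp 1 = e₁ := by rw [Module.Basis.mk_apply]; rfl
  have hB2 : Module.Basis.mk hli hsp 2 = e₂ := by rw [Module.Basis.mk_apply]; rfl
  have hB3 : Module.Basis.mk hli hsp 3 = e₃ := by rw [Module.Basis.mk_apply]; rfl
  rw [← LinearMap.det_toMatrix (Module.Basis.mk hli hsp) f]
  have hM : LinearMap.toMatrix (Module.Basis.mk hli hsp) (Module.Basis.mk hli hsp) f =
      !![0, α, 0, 0; β, 0, 0, 0; 0, 0, 0, δ; 0, 0, γ, 0] := by
    ext i j
    rw [LinearMap.toMatrix_apply]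
    fin_cases j
    · have e : f (Module.Basis.mk hli hsp 0) = β • Module.Basis.mk hli hsp 1 := by
        rw [hB0, hB1, h0]
      show (Module.Basis.mk hli hsp).repr (f (Module.Basis.mk hli hsp 0)) i = _
      rw [e, map_smul, Module.Basis.repr_self]
      fin_cases i <;> simp
    · have e : f (Module.Basis.mk hli hsp 1) = α • Module.Basis.mk hli hsp 0 := by
        rw [hB0, hB1, h1]
      show (Module.Basis.mk hli hsp).repr (f (Module.Basis.mk hli hsp 1)) i = _
      rw [e, map_smul, Module.Basis.repr_self]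
      fin_cases i <;> simp
    · have e : f (Module.Basis.mk hli hsp 2) = γ • Module.Basis.mk hli hsp 3 := by
        rw [hB2, hB3, h2]
      show (Module.Basis.mk hli hsp).repr (f (Module.Basis.mk hli hsp 2)) i = _
      rw [e, map_smul, Module.Basis.repr_self]
      fin_cases i <;> simp
    · have e : f (Module.Basis.mk hli hsp 3) = δ • Module.Basis.mk hli hsp 2 := by
        rw [hB2, hB3, h3]
      show (Module.Basis.mk hli hsp).repr (f (Module.Basis.mk hli hsp 3)) i = _
      rw [e, map_smul, Module.Basis.repr_self]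
      fin_cases i <;> simp
  rw [hM, e4mono_det]

end Cfsg.Agent.Helper12.S15
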