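import Mathlib
import Cfsg.Agent.Lib.S15.S15Defs
import Cfsg.Agent.Lib.S15.LFRAME
import Cfsg.Agent.Lib.S15.LFTAB
import Cfsg.Agent.Lib.S15.LFIND
import Cfsg.Agent.Lib.S15.LFDEC
import Cfsg.Agent.Lib.S15.LDET
import Cfsg.Agent.Lib.S15.E4C0
import Cfsg.Agent.Lib.S15.E4ZB
import Cfsg.Agent.Lib.S15.E4MONO
/-! S4415 (design helper12), block E (designer helper16), piece E4S4A.
See plans/S4415_plan.md (section E) and plans/S4415_blockE.md. -/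

set_option autoImplicit false
set_option linter.unusedSectionVars false

namespace Cfsg.Agent.Helper12.S15

variable {S : Type*} [Group S] [Finite S] {E : Type*} [AddCommGroup E] [Module (ZMod 3) E]
  [Finite E]

/-- An element `x ∈ R` commuting with `q₁` and with `x q₂ x⁻¹ = q₂ z` squares into `{1,z}`.
Proof: `ρ q₂ (ρ x v) = -ρ x (ρ q₂ v)` and `ρ q₁ (ρ x v) = ρ x (ρ q₁ v)`; with `c₀` from `e4_c0`:
`ρ x c₀ ∈ {q₁ = 1, q₂ = -1} = ⟨e₁⟩` (`QFrame.line`), `ρ x e₁ ∈ fixS ρ Q = ⟨c₀⟩`,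
`ρ x e₂ ∈ {q₃ = 1, q₁ = -1} = ⟨e₃⟩`, `ρ x e₃ ∈ {q₂ = 1, q₃ = -1} = ⟨e₂⟩` (`frame_lines`, `frame_table`):
`x c₀ = β e₁, x e₁ = α c₀, x e₂ = γ e₃, x e₃ = δ e₂`.  `e4_mono` + `det_one`: `αβγδ = 1`, all non-zero
(`ρ x` injective), so `αβ = γδ = ±1` and `ρ (x^2) = αβ • 1` on the spanning set (`frame_decomp`), i.e.
`ρ (x^2) = 1` or `= -1 = ρ z`; `Setting.faith` (apply it to `x^2` resp. `x^2 * z⁻¹`). -/
theorem e4_sq_type1 (ρ : Representation (ZMod 3) S E) (b : S) (R Q : Subgroup S) (h : Setting ρ b R Q)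
    (hE : Nat.card E = 81) (z : S) (hzR : z ∈ R) (hz : ρ z = -1) (q₁ q₂ q₃ : S)
    (e₁ e₂ e₃ : E) (f : QFrame ρ b Q q₁ q₂ q₃ e₁ e₂ e₃) (x : S) (hx : x ∈ R)
    (h1 : x * q₁ * x⁻¹ = q₁) (h2 : x * q₂ * x⁻¹ = q₂ * z) : x ^ 2 = 1 ∨ x ^ 2 = z := by
  obtain ⟨c₀, hc0, hc0fix, hc0span⟩ := e4_c0 ρ b R Q h hE
  obtain ⟨t31, t12, t22, t32, t13, t23, t33, he2, he3⟩ :=
    frame_table ρ b R Q h q₁ q₂ q₃ e₁ e₂ e₃ f
  obtain ⟨hl2, hl3⟩ := frame_lines ρ b R Q h q₁ q₂ q₃ e₁ e₂ e₃ f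
  have hmul : ∀ (a c : S) (u : E), ρ (a * c) u = ρ a (ρ c u) := fun a c u =>
    lftab_mul_apply ρ a c u
  have hz_apply : ∀ v : E, ρ z v = -v := by
    intro v
    rw [hz]
    simp
  -- commutation rules
  have hA : ∀ v : E, ρ q₁ (ρ x v) = ρ x (ρ q₁ v) := by
    intro v
    have e : x * q₁ = q₁ * x := by
      calc x * q₁ = (x * q₁ * x⁻¹) * x := by group
        _ = q₁ * x := by rw [h1]
    rw [← hmul, ← hmul, e]
  have hB : ∀ v : E, ρ q₂ (ρ x v) = -ρ x (ρ q₂ v) := by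
    intro v
    have e : x * q₂ = q₂ * z * x := by
      calc x * q₂ = (x * q₂ * x⁻¹) * x := by group
        _ = q₂ * z * x := by rw [h2]
    have h3 : ρ x (ρ q₂ v) = -ρ q₂ (ρ x v) := by
      rw [← hmul, e, hmul, hmul, hz_apply, map_neg]
    rw [h3, neg_neg]
  have hC : ∀ v : E, ρ q₃ (ρ x v) = -ρ x (ρ q₃ v) := by
    intro v
    rw [← f.q12, hmul, hmul, hB, map_neg, hA]
  -- the monomial shape of `ρ x`
  have hq1c : ρ q₁ c₀ = c₀ := (mem_fixS ρ Q c₀).mp hc0fix q₁ f.q₁Q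
  have hq2c : ρ q₂ c₀ = c₀ := (mem_fixS ρ Q c₀).mp hc0fix q₂ f.q₂Q
  obtain ⟨β, hβ⟩ := f.line (ρ x c₀) (by rw [hA, hq1c]) (by rw [hB, hq2c])
  have hxe1fix : ρ x e₁ ∈ fixS ρ Q := by
    rw [mem_fixS]
    intro q hq
    have g1 : ρ q₁ (ρ x e₁) = ρ x e₁ := by rw [hA, f.q₁e₁]
    have g2 : ρ q₂ (ρ x e₁) = ρ x e₁ := by rw [hB, f.q₂e₁, map_neg, neg_neg]
    rcases f.Qmem q hq with hq1 | hq1 | hq1 | hq1
    · rw [hq1, map_one]; rfl
    · rw [hq1]; exact g1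
    · rw [hq1]; exact g2
    · rw [hq1, ← f.q12, hmul, g2, g1]
  obtain ⟨α, hα⟩ := hc0span _ hxe1fix
  obtain ⟨γ, hγ⟩ := hl3 (ρ x e₂) (by rw [hC, t32, map_neg, neg_neg]) (by rw [hA, t12, map_neg])
  obtain ⟨δ, hδ⟩ := hl2 (ρ x e₃) (by rw [hB, t23, map_neg, neg_neg]) (by rw [hC, t33])
  -- spanning and independence
  have hspan : ∀ v : E, ∃ w x' y z' : ZMod 3, v = w • c₀ + x' • e₁ + y • e₂ + z' • e₃ := by
    intro v
    obtain ⟨w, hw, a, b', c', hv⟩ := frame_decomp ρ b R Q h q₁ q₂ q₃ e₁ e₂ e₃ f v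
    obtain ⟨w', hw'⟩ := hc0span w hw
    exact ⟨w', a, b', c', by rw [hv, hw']⟩
  have hind : ∀ w x' y z' : ZMod 3, w • c₀ + x' • e₁ + y • e₂ + z' • e₃ = 0 →
      w = 0 ∧ x' = 0 ∧ y = 0 ∧ z' = 0 := by
    intro w a b' c' h0
    obtain ⟨g0, g1, g2, g3⟩ := frame_indep ρ b R Q h q₁ q₂ q₃ e₁ e₂ e₃ f (w • c₀)
      (Submodule.smul_mem _ w hc0fix) a b' c' h0
    refine ⟨?_, g1, g2, g3⟩
    rcases smul_eq_zero.mp g0 with h' | h'
    · exact h'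
    · exact absurd h' hc0
  have hdet := e4_mono (ρ x) c₀ e₁ e₂ e₃ hspan hind α β γ δ hβ hα hγ hδ
  rw [det_one ρ b R Q h x hx] at hdet
  have harith : ∀ α β γ δ : ZMod 3, 1 = α * β * γ * δ →
      γ * δ = α * β ∧ (α * β = 1 ∨ α * β = -1) := by decide
  obtain ⟨hgd, hab⟩ := harith α β γ δ hdet
  have k0 : ρ x (ρ x c₀) = (α * β) • c₀ := by rw [hβ, map_smul, hα, smul_smul, mul_comm]
  have k1 : ρ x (ρ x e₁) = (α * β) • e₁ := by rw [hα, map_smul, hβ, smul_smul]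
  have k2 : ρ x (ρ x e₂) = (α * β) • e₂ := by rw [hγ, map_smul, hδ, smul_smul, hgd]
  have k3 : ρ x (ρ x e₃) = (α * β) • e₃ := by
    rw [hδ, map_smul, hγ, smul_smul, mul_comm, hgd]
  have hsq : ∀ v : E, ρ x (ρ x v) = (α * β) • v := by
    intro v
    obtain ⟨w, a, b', c', rfl⟩ := hspan v
    simp only [map_add, map_smul, k0, k1, k2, k3, smul_add]
    rw [smul_comm (α * β) w, smul_comm (α * β) a, smul_comm (α * β) b', smul_comm (α * β) c']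
  have hx2R : x ^ 2 ∈ R := R.pow_mem hx 2
  rcases hab with hab | hab
  · left
    apply h.faith _ (Subgroup.mem_sup_left hx2R)
    apply LinearMap.ext
    intro v
    rw [pow_two, hmul, hsq, hab, one_smul]
    rfl
  · right
    obtain ⟨hz2, -, -, -, -⟩ := e4_z_basic ρ b R Q h z hzR hz
    have h3 : x ^ 2 * z = 1 := by
      apply h.faith _ (Subgroup.mem_sup_left (R.mul_mem hx2R hzR))
      apply LinearMap.ext
      intro v
      rw [hmul, hz_apply, map_neg, pow_two, hmul, hsq, hab, neg_smul, one_smul, neg_neg]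
      rfl
    have hzz : z * z = 1 := by rw [← pow_two]; exact hz2
    calc x ^ 2 = x ^ 2 * (z * z) := by rw [hzz, mul_one]
      _ = (x ^ 2 * z) * z := by rw [mul_assoc]
      _ = z := by rw [h3, one_mul]

end Cfsg.Agent.Helper12.S15
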