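import Mathlib
import Cfsg.Agent.Lib.S15.S15Defs
import Cfsg.Agent.Lib.S15.EDEFS
import Cfsg.Agent.Lib.S15.LN3
import Cfsg.Agent.Lib.S15.LFRAME
import Cfsg.Agent.Lib.S15.E4ZB
import Cfsg.Agent.Lib.S15.E4A1
import Cfsg.Agent.Lib.S15.E4S2
import Cfsg.Agent.Lib.S15.E4S4A

/-! S4415 (design helper12), block E (designer helper16), assembly E4S4.
See plans/S4415_plan.md (section E) and plans/S4415_blockE.md. -/

set_option autoImplicit false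
set_option linter.unusedSectionVars false

namespace Cfsg.Agent.Helper12.S15

variable {S : Type*} [Group S] [Finite S] {E : Type*} [AddCommGroup E] [Module (ZMod 3) E]
  [Finite E]

/-- `|R| = 32`: every square in `R` lies in `{1, z}`. -/
theorem e4_sq (ρ : Representation (ZMod 3) S E) (b : S) (R Q : Subgroup S) (h : Setting ρ b R Q)
    (hE : Nat.card E = 81) (z : S) (hzR : z ∈ R) (hz : ρ z = -1) (h32 : Nat.card ↥R = 32)
    (x : S) (hx : x ∈ R) : x ^ 2 = 1 ∨ x ^ 2 = z := by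
  obtain ⟨q₁, q₂, q₃, e₁, e₂, e₃, f⟩ := exists_frame ρ b R Q h
  obtain ⟨hz2, hz1, hzb, hzc, hzQ⟩ := e4_z_basic ρ b R Q h z hzR hz
  have hzz : z * z = 1 := by rw [← pow_two, hz2]
  have hq3 : q₃ = q₁ * q₂ := f.q12.symm
  have hbz' : b⁻¹ * z * b = z := by
    have : b⁻¹ * (b * z * b⁻¹) * b = z := by group
    rwa [hzb] at this
  -- conjugation rules
  have hb1' : b⁻¹ * q₂ * b = q₁ := by rw [← f.bq₁]; group
  have hb2' : b⁻¹ * q₃ * b = q₂ := by rw [← f.bq₂]; group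
  have hb3' : b⁻¹ * q₁ * b = q₃ := by rw [← f.bq₃]; group
  have hc1 := e4_conj_q ρ b R Q h hE z hzR hz h32 x hx q₁ f.q₁Q
  have hc2 := e4_conj_q ρ b R Q h hE z hzR hz h32 x hx q₂ f.q₂Q
  -- z commutes with q₁, q₂
  have hzq1 : q₁ * z = z * q₁ := hzc q₁ (h.QR f.q₁Q)
  have hzq2 : q₂ * z = z * q₂ := hzc q₂ (h.QR f.q₂Q)
  have hx3 : x * q₃ * x⁻¹ = (x * q₁ * x⁻¹) * (x * q₂ * x⁻¹) := by rw [hq3]; group
  rcases hc1 with hc1 | hc1 <;> rcases hc2 with hc2 | hc2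
  · -- x centralises Q
    have hxQ : ∀ q ∈ Q, x * q * x⁻¹ = q := by
      intro q hq
      rcases f.Qmem q hq with rfl | rfl | rfl | rfl
      · group
      · exact hc1
      · exact hc2
      · rw [hx3, hc1, hc2, hq3]
    have hA := e4_a1_cent ρ b R Q h hE z hzR hz x hx hxQ
    left
    exact inA1_sq ρ b R Q h z hzR hz x hA
  · exact e4_sq_type1 ρ b R Q h hE z hzR hz q₁ q₂ q₃ e₁ e₂ e₃ f x hx hc1 hc2
  · -- x' = b⁻¹ x b is of type 1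
    have hx' : b⁻¹ * x * b ∈ R := bR_inv ρ b R Q h x hx
    have h3 : x * q₃ * x⁻¹ = q₃ * z := by
      rw [hx3, hc1, hc2, hq3]
      calc q₁ * z * q₂ = q₁ * (z * q₂) := by group
        _ = q₁ * (q₂ * z) := by rw [hzq2]
        _ = q₁ * q₂ * z := by group
    have t1 : (b⁻¹ * x * b) * q₁ * (b⁻¹ * x * b)⁻¹ = q₁ := by
      have : (b⁻¹ * x * b) * q₁ * (b⁻¹ * x * b)⁻¹ = b⁻¹ * (x * (b * q₁ * b⁻¹) * x⁻¹) * b := by group
      rw [this, f.bq₁, hc2, hb1']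
    have t2 : (b⁻¹ * x * b) * q₂ * (b⁻¹ * x * b)⁻¹ = q₂ * z := by
      have : (b⁻¹ * x * b) * q₂ * (b⁻¹ * x * b)⁻¹ = b⁻¹ * (x * (b * q₂ * b⁻¹) * x⁻¹) * b := by group
      rw [this, f.bq₂, h3]
      calc b⁻¹ * (q₃ * z) * b = (b⁻¹ * q₃ * b) * (b⁻¹ * z * b) := by group
        _ = q₂ * z := by rw [hb2', hbz']
    have h4 := e4_sq_type1 ρ b R Q h hE z hzR hz q₁ q₂ q₃ e₁ e₂ e₃ f _ hx' t1 t2
    have h5 : x ^ 2 = b * (b⁻¹ * x * b) ^ 2 * b⁻¹ := by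
      rw [pow_two, pow_two]; group
    rcases h4 with h4 | h4
    · left; rw [h5, h4]; group
    · right; rw [h5, h4, hzb]
  · -- x'' = b x b⁻¹ is of type 1
    have hx' : b * x * b⁻¹ ∈ R := h.bR x hx
    have h3 : x * q₃ * x⁻¹ = q₃ := by
      rw [hx3, hc1, hc2, hq3]
      calc q₁ * z * (q₂ * z) = q₁ * (z * q₂) * z := by group
        _ = q₁ * (q₂ * z) * z := by rw [hzq2]
        _ = q₁ * q₂ * (z * z) := by group
        _ = q₁ * q₂ := by rw [hzz, mul_one]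
    have t1 : (b * x * b⁻¹) * q₁ * (b * x * b⁻¹)⁻¹ = q₁ := by
      have : (b * x * b⁻¹) * q₁ * (b * x * b⁻¹)⁻¹ = b * (x * (b⁻¹ * q₁ * b) * x⁻¹) * b⁻¹ := by group
      rw [this, hb3', h3, f.bq₃]
    have t2 : (b * x * b⁻¹) * q₂ * (b * x * b⁻¹)⁻¹ = q₂ * z := by
      have : (b * x * b⁻¹) * q₂ * (b * x * b⁻¹)⁻¹ = b * (x * (b⁻¹ * q₂ * b) * x⁻¹) * b⁻¹ := by group
      rw [this, hb1', hc1]
      calc b * (q₁ * z) * b⁻¹ = (b * q₁ * b⁻¹) * (b * z * b⁻¹) := by group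
        _ = q₂ * z := by rw [f.bq₁, hzb]
    have h4 := e4_sq_type1 ρ b R Q h hE z hzR hz q₁ q₂ q₃ e₁ e₂ e₃ f _ hx' t1 t2
    have h5 : x ^ 2 = b⁻¹ * (b * x * b⁻¹) ^ 2 * b := by
      rw [pow_two, pow_two]; group
    rcases h4 with h4 | h4
    · left; rw [h5, h4]; group
    · right; rw [h5, h4, hbz']

end Cfsg.Agent.Helper12.S15
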