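import Mathlib
import Cfsg.Agent.Lib.S15.S15Defs
import Cfsg.Agent.Lib.S15.EDEFS
import Cfsg.Agent.Lib.S15.E4ZB
import Cfsg.Agent.Lib.S15.E4A1
import Cfsg.Agent.Lib.S15.E4S4
import Cfsg.Agent.Lib.S15.E4CEN
import Cfsg.Agent.Lib.Helper27.ExtraCrit

/-! S4415 (design helper12), block E (designer helper16), assembly E4ES.
See plans/S4415_plan.md (section E) and plans/S4415_blockE.md. -/

set_option autoImplicit false
set_option linter.unusedSectionVars false

open scoped commutatorElement

namespace Cfsg.Agent.Helper12.S15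

variable {S : Type*} [Group S] [Finite S] {E : Type*} [AddCommGroup E] [Module (ZMod 3) E]
  [Finite E]

/-- commutators in `R` lie in `{1, z}` -/
theorem e4_comm (ρ : Representation (ZMod 3) S E) (b : S) (R Q : Subgroup S) (h : Setting ρ b R Q)
    (hE : Nat.card E = 81) (z : S) (hzR : z ∈ R) (hz : ρ z = -1) (h32 : Nat.card ↥R = 32)
    (x y : S) (hx : x ∈ R) (hy : y ∈ R) :
    x * y * x⁻¹ * y⁻¹ = 1 ∨ x * y * x⁻¹ * y⁻¹ = z := by
  obtain ⟨hz2, hz1, hzb, hzc, hzQ⟩ := e4_z_basic ρ b R Q h z hzR hz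
  have hzz : z * z = 1 := by rw [← pow_two, hz2]
  have hzi : z⁻¹ = z := inv_eq_of_mul_eq_one_right hzz
  have hsx := e4_sq ρ b R Q h hE z hzR hz h32 x hx
  have hsy := e4_sq ρ b R Q h hE z hzR hz h32 y hy
  have hsxy := e4_sq ρ b R Q h hE z hzR hz h32 (x * y) (R.mul_mem hx hy)
  have hyz : y⁻¹ * z = z * y⁻¹ := hzc y⁻¹ (R.inv_mem hy)
  have key : x * y * x⁻¹ * y⁻¹ = (x * y) ^ 2 * (y⁻¹ * (x ^ 2)⁻¹ * y⁻¹) := by
    rw [pow_two, pow_two]; group
  have hy2 : y⁻¹ * y⁻¹ = (y ^ 2)⁻¹ := by rw [pow_two]; group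
  rcases hsx with hsx | hsx <;> rcases hsy with hsy | hsy <;> rcases hsxy with hsxy | hsxy
  · left; rw [key, hsx, hsxy, inv_one, mul_one, hy2, hsy, inv_one, mul_one]
  · right; rw [key, hsx, hsxy, inv_one, mul_one, hy2, hsy, inv_one, mul_one]
  · right; rw [key, hsx, hsxy, inv_one, mul_one, hy2, hsy, hzi, one_mul]
  · left; rw [key, hsx, hsxy, inv_one, mul_one, hy2, hsy, hzi, hzz]
  · right
    rw [key, hsx, hsxy, hzi, one_mul, hyz, mul_assoc, hy2, hsy, inv_one, mul_one]
  · left
    rw [key, hsx, hsxy, hzi, hyz, mul_assoc, hy2, hsy, inv_one, mul_one, hzz]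
  · left
    rw [key, hsx, hsxy, hzi, one_mul, hyz, mul_assoc, hy2, hsy, hzi, hzz]
  · right
    rw [key, hsx, hsxy, hzi, hyz, mul_assoc, hy2, hsy, hzi, hzz, mul_one]

/-- `|R| = 32`, `-1 ∈ ρ(R)`: `R` is extraspecial and contains an `E₈`. -/
theorem e4_struct (ρ : Representation (ZMod 3) S E) (b : S) (R Q : Subgroup S)
    (h : Setting ρ b R Q) (hE : Nat.card E = 81) (z : S) (hzR : z ∈ R) (hz : ρ z = -1)
    (h32 : Nat.card ↥R = 32) :
    Cfsg.IsExtraspecial 2 ↥R ∧
      ∃ A : Subgroup S, A ≤ R ∧ Cfsg.IsElementaryAbelian 2 A ∧ Nat.card ↥A = 8 := by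
  obtain ⟨hz2, hz1, hzb, hzc, hzQ⟩ := e4_z_basic ρ b R Q h z hzR hz
  refine ⟨?_, ?_⟩
  · have hP : IsPGroup 2 ↥R := IsPGroup.of_card (n := 5) (by rw [h32]; norm_num)
    have hcen : ∀ c : ↥R, (∀ a : ↥R, a * c = c * a) → c = 1 ∨ c = ⟨z, hzR⟩ := by
      intro c hc
      have := e4_center ρ b R Q h hE z hzR hz h32 (c : S) c.2 (fun x hx => by
        have := hc ⟨x, hx⟩
        simpa using congrArg Subtype.val this)
      rcases this with h1 | h1
      · left; exact Subtype.ext h1
      · right; exact Subtype.ext h1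
    apply Cfsg.Agent.Helper27.isExtraspecial_two_of_data hP (⟨z, hzR⟩ : ↥R)
    · intro h1
      apply hz1
      simpa using congrArg Subtype.val h1
    · intro a
      apply Subtype.ext
      simpa using hzc (a : S) a.2
    · exact hcen
    · intro a c
      rcases e4_comm ρ b R Q h hE z hzR hz h32 (a : S) (c : S) a.2 c.2 with h1 | h1
      · left; apply Subtype.ext; simpa [commutatorElement_def] using h1
      · right; apply Subtype.ext; simpa [commutatorElement_def] using h1
    · intro a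
      rcases e4_sq ρ b R Q h hE z hzR hz h32 (a : S) a.2 with h1 | h1
      · left; apply Subtype.ext; simpa using h1
      · right; apply Subtype.ext; simpa using h1
    · by_contra hall
      push Not at hall
      have hall' : ∀ c : ↥R, c = 1 ∨ c = ⟨z, hzR⟩ := by
        intro c
        apply hcen c
        intro a
        exact commutatorElement_eq_one_iff_mul_comm.mp (hall a c)
      have hle : Nat.card ↥R ≤ 2 := by
        have hb2 : Nat.card Bool = 2 := by rw [Nat.card_eq_fintype_card, Fintype.card_bool]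
        rw [← hb2]
        classical
        apply Nat.card_le_card_of_injective (fun c : ↥R => decide (c = 1))
        intro c c' hcc
        simp only [decide_eq_decide] at hcc
        rcases hall' c with h1 | h1 <;> rcases hall' c' with h2 | h2
        · rw [h1, h2]
        · exact absurd (hcc.mp h1) (by
            rw [h2]; intro h3; apply hz1; simpa using congrArg Subtype.val h3)
        · exact absurd (hcc.mpr h2) (by
            rw [h1]; intro h3; apply hz1; simpa using congrArg Subtype.val h3)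
        · rw [h1, h2]
      omega
  · obtain ⟨A, hAR, -, hA8, hAe⟩ := e4_a1_sub ρ b R Q h z hzR hz
    exact ⟨A, hAR, hAe, hA8⟩

end Cfsg.Agent.Helper12.S15
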