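import Mathlib
import Cfsg.Agent.Lib.S15.S15Defs
import Cfsg.Agent.Lib.S15.EK1
/-! S4415 (design helper12), block E (designer helper16), piece E4NOZ16.
See plans/S4415_plan.md (section E) and plans/S4415_blockE.md. -/

set_option autoImplicit false
set_option linter.unusedSectionVars false

namespace Cfsg.Agent.Helper12.S15

variable {S : Type*} [Group S] [Finite S] {E : Type*} [AddCommGroup E] [Module (ZMod 3) E]
  [Finite E]

/-- `|E| = 81`, `C_R(b) = 1`, `|R| = 16` is impossible: `R` is a 2-group, so some `1 ≠ c ∈ R` is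
central in `R`; `c` commutes with `Q`, so by `e_k1` `q c ∈ C_R(b) = 1` for some `q ∈ Q`, i.e.
`1 ≠ c ∈ Q`; its `b`-conjugates are central too, so `Q` is central in `R` (`Q = {1,c,c^b,c^(b²)}`); then
every `x ∈ R` commutes with `Q`, `e_k1` puts it in `Q`, so `|R| ≤ 4`. -/
theorem e4_noz16 (ρ : Representation (ZMod 3) S E) (b : S) (R Q : Subgroup S) (h : Setting ρ b R Q)
    (hcent : ∀ c ∈ R, b * c * b⁻¹ = c → c = 1) (h16 : Nat.card ↥R = 16) : False := by
  obtain ⟨q₁, q₂, q₃, e₁, e₂, e₃, f⟩ := exists_frame ρ b R Q h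
  -- elements of `R` commuting with `Q` lie in `Q`
  have key : ∀ x ∈ R, (∀ q ∈ Q, x * q * x⁻¹ = q) → x ∈ Q := by
    intro x hx hxQ
    obtain ⟨q, hq, hb⟩ := e_k1 ρ b R Q h x hx hxQ
    have h1 := hcent (q * x) (R.mul_mem (h.QR hq) hx) hb
    have h2 : x = q⁻¹ := eq_inv_of_mul_eq_one_right h1
    rw [h2]; exact Q.inv_mem hq
  -- a non-trivial central element
  have hp : IsPGroup 2 ↥R := by
    apply IsPGroup.of_card (n := 4)
    rw [h16]; norm_num
  have : Nontrivial ↥R := by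
    apply (Finite.one_lt_card_iff_nontrivial).mp
    rw [h16]; norm_num
  have : Fact (Nat.Prime 2) := ⟨Nat.prime_two⟩
  have : Nontrivial (Subgroup.center ↥R) := hp.center_nontrivial
  obtain ⟨c', hc'⟩ := exists_ne (1 : Subgroup.center ↥R)
  set c : S := ((c' : ↥R) : S) with hc
  have hcR : c ∈ R := (c' : ↥R).2
  have hc1 : c ≠ 1 := by
    intro h1
    apply hc'
    apply Subtype.ext; apply Subtype.ext
    exact h1
  have hccen : ∀ x ∈ R, x * c = c * x := by
    intro x hx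
    have h1 := (Subgroup.mem_center_iff.mp c'.2) ⟨x, hx⟩
    have h2 := congrArg (fun y : ↥R => (y : S)) h1
    simpa using h2
  -- `c ∈ Q`
  have hcQ : c ∈ Q := by
    apply key c hcR
    intro q hq
    rw [← hccen q (h.QR hq), mul_assoc, mul_inv_cancel, mul_one]
  -- conjugation by `b` preserves centrality
  have hbinv : ∀ r ∈ R, b⁻¹ * r * b ∈ R := bR_inv ρ b R Q h
  have hconj : ∀ d : S, (∀ x ∈ R, x * d = d * x) → ∀ x ∈ R, x * (b * d * b⁻¹) = (b * d * b⁻¹) * x := by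
    intro d hd x hx
    have h1 := hd _ (hbinv x hx)
    calc x * (b * d * b⁻¹) = b * ((b⁻¹ * x * b) * d) * b⁻¹ := by group
      _ = b * (d * (b⁻¹ * x * b)) * b⁻¹ := by rw [h1]
      _ = (b * d * b⁻¹) * x := by group
  -- all of `Q` is central in `R`
  have h123 : (∀ x ∈ R, x * q₁ = q₁ * x) ∧ (∀ x ∈ R, x * q₂ = q₂ * x) ∧
      (∀ x ∈ R, x * q₃ = q₃ * x) := by
    rcases f.Qmem c hcQ with h1 | h1 | h1 | h1
    · exact absurd h1 hc1
    · have a1 : ∀ x ∈ R, x * q₁ = q₁ * x := by rw [← h1]; exact hccen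
      have a2 : ∀ x ∈ R, x * q₂ = q₂ * x := by rw [← f.bq₁]; exact hconj _ a1
      have a3 : ∀ x ∈ R, x * q₃ = q₃ * x := by rw [← f.bq₂]; exact hconj _ a2
      exact ⟨a1, a2, a3⟩
    · have a2 : ∀ x ∈ R, x * q₂ = q₂ * x := by rw [← h1]; exact hccen
      have a3 : ∀ x ∈ R, x * q₃ = q₃ * x := by rw [← f.bq₂]; exact hconj _ a2
      have a1 : ∀ x ∈ R, x * q₁ = q₁ * x := by rw [← f.bq₃]; exact hconj _ a3
      exact ⟨a1, a2, a3⟩
    · have a3 : ∀ x ∈ R, x * q₃ = q₃ * x := by rw [← h1]; exact hccen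
      have a1 : ∀ x ∈ R, x * q₁ = q₁ * x := by rw [← f.bq₃]; exact hconj _ a3
      have a2 : ∀ x ∈ R, x * q₂ = q₂ * x := by rw [← f.bq₁]; exact hconj _ a1
      exact ⟨a1, a2, a3⟩
  obtain ⟨a1, a2, a3⟩ := h123
  have hRQ : R ≤ Q := by
    intro x hx
    apply key x hx
    intro q hq
    have hxq : x * q = q * x := by
      rcases f.Qmem q hq with h1 | h1 | h1 | h1
      · rw [h1]; simp
      · rw [h1]; exact a1 x hx
      · rw [h1]; exact a2 x hx
      · rw [h1]; exact a3 x hx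
    rw [hxq, mul_assoc, mul_inv_cancel, mul_one]
  have hle : Nat.card ↥R ≤ Nat.card ↥Q := Subgroup.card_le_of_le hRQ
  rw [h16, h.Q4] at hle
  omega

end Cfsg.Agent.Helper12.S15
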