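import Mathlib
import Cfsg.Agent.Lib.S15.S15Defs
import Cfsg.Agent.Lib.S15.LINV
import Cfsg.Agent.Lib.S15.ECARDQ
/-! S4415 (design helper12), block E (designer helper16), piece E4NOZ4.
See plans/S4415_plan.md (section E) and plans/S4415_blockE.md. -/

set_option autoImplicit false
set_option linter.unusedSectionVars false

namespace Cfsg.Agent.Helper12.S15

variable {S : Type*} [Group S] [Finite S] {E : Type*} [AddCommGroup E] [Module (ZMod 3) E]
  [Finite E]

/-- `|E| = 81` and `R = Q` contradict irreducibility: `comS ρ Q` (27 elements, `e_card_comQ`) is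
invariant under `Q ⊔ ⟨b⟩` (`comS_inv`; `Q` abelian, `Setting.bQ`). -/
theorem e4_noz4 (ρ : Representation (ZMod 3) S E) (b : S) (R Q : Subgroup S)
    (h : RSetting ρ b R Q) (hE : Nat.card E = 81) (hRQ : R = Q) : False := by
  have hS : Setting ρ b R Q := h.toSetting
  have hc27 : Nat.card ↥(comS ρ Q) = 27 := e_card_comQ ρ b R Q hS
  -- `b` normalises `Q`
  have hbN : b ∈ Subgroup.normalizer (Q : Set S) := by
    rw [Subgroup.mem_normalizer_iff]
    intro n
    constructor
    · exact hS.bQ n
    · intro hn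
      have h1 := hS.bQ _ (hS.bQ _ hn)
      have e : b * (b * (b * n * b⁻¹) * b⁻¹) * b⁻¹ = b ^ 3 * n * (b ^ 3)⁻¹ := by
        rw [pow_succ, pow_two]
        simp only [mul_inv_rev, mul_assoc]
      rw [e, hS.b3, one_mul, inv_one, mul_one] at h1
      exact h1
  have hle : R ⊔ Subgroup.zpowers b ≤ Subgroup.normalizer (Q : Set S) := by
    apply sup_le
    · rw [hRQ]
      exact Subgroup.le_normalizer
    · rw [Subgroup.zpowers_le]
      exact hbN
  have hinv : ∀ x ∈ R ⊔ Subgroup.zpowers b, ∀ v ∈ comS ρ Q, ρ x v ∈ comS ρ Q := by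
    intro x hx v hv
    apply comS_inv ρ Q x _ v hv
    intro t ht
    exact (Subgroup.mem_normalizer_iff.mp (hle hx) t).mp ht
  rcases h.irr (comS ρ Q) hinv with h0 | h1
  · rw [h0] at hc27
    have : Nat.card ↥(⊥ : Submodule (ZMod 3) E) = 1 := by
      simp
    omega
  · rw [h1] at hc27
    have : Nat.card ↥(⊤ : Submodule (ZMod 3) E) = Nat.card E :=
      Nat.card_congr (Submodule.topEquiv (R := ZMod 3) (M := E)).toEquiv
    omega

end Cfsg.Agent.Helper12.S15
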