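import Mathlib
import Cfsg.Agent.Lib.S15.S15Defs
import Cfsg.Agent.Lib.S15.LINV
import Cfsg.Agent.Lib.S15.LMASCHKE
import Cfsg.Agent.Lib.S15.LCORA
import Cfsg.Agent.Lib.S15.LFRAME
import Cfsg.Agent.Lib.S15.LFDEC
import Cfsg.Agent.Lib.S15.LFKER
import Cfsg.Agent.Lib.S15.ECARDQ
import Cfsg.Agent.Lib.S15.ECRB3
import Cfsg.Agent.Lib.S15.E3CORE
/-! S4415 (design helper12), block E (designer helper16), piece E4STABC.
See plans/S4415_plan.md (section E) and plans/S4415_blockE.md. -/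

set_option autoImplicit false
set_option linter.unusedSectionVars false

namespace Cfsg.Agent.Helper12.S15

variable {S : Type*} [Group S] [Finite S] {E : Type*} [AddCommGroup E] [Module (ZMod 3) E]
  [Finite E]

/-- `|E| = 81`: the stabiliser in `R` of a non-zero vector `c₀ ∈ C_E(Q)` is `Q`.
Proof: `T := {r ∈ R | ρ r c₀ = c₀}` is a `b`-invariant subgroup (`b_fix_fixQ`: `ρ b c₀ = c₀`) with
`Q ≤ T ≤ R`; `C_T(b) = 1` (`e_crb`: `ρ t = ±1`, and `ρ t c₀ = c₀ ≠ 0` excludes `-1`; `Setting.faith`).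
`D := comS ρ T` is `T`-invariant (`comS_inv`), contains `comS ρ Q ∋ s = e₁+e₂+e₃` (`comS_mono`,
`comS_Q_eq`), and `|D| = 27`: `maschke` (`|T|` prime to 3) gives `|fixS ρ T|·|D| = 81`, `c₀ ∈ fixS ρ T`
gives `|fixS ρ T| ≥ 3`, `e_card_comQ` gives `|D| ≥ 27`.  Then `e3_core` gives `T = Q`. -/
theorem e4_stab_c (ρ : Representation (ZMod 3) S E) (b : S) (R Q : Subgroup S) (h : Setting ρ b R Q)
    (hE : Nat.card E = 81) (c₀ : E) (hc₀ : c₀ ∈ fixS ρ Q) (hc₀0 : c₀ ≠ 0) (r : S) (hr : r ∈ R)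
    (hrc : ρ r c₀ = c₀) : r ∈ Q := by
  have hbc₀ : ρ b c₀ = c₀ := (b_fix_fixQ ρ b R Q h).1 c₀ hc₀
  have hbic₀ : ρ b⁻¹ c₀ = c₀ := by
    have h1 : ρ b⁻¹ (ρ b c₀) = c₀ := by
      rw [← linv_mul_apply, inv_mul_cancel, map_one]
      rfl
    rw [hbc₀] at h1
    exact h1
  -- the stabiliser of `c₀` in `R`
  let T : Subgroup S :=
    { carrier := {t | t ∈ R ∧ ρ t c₀ = c₀}
      mul_mem' := by
        rintro a c ⟨ha, ha'⟩ ⟨hc, hc'⟩
        exact ⟨R.mul_mem ha hc, by rw [linv_mul_apply, hc', ha']⟩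
      one_mem' := ⟨R.one_mem, by rw [map_one]; rfl⟩
      inv_mem' := by
        rintro a ⟨ha, ha'⟩
        refine ⟨R.inv_mem ha, ?_⟩
        have h1 : ρ a⁻¹ (ρ a c₀) = c₀ := by
          rw [← linv_mul_apply, inv_mul_cancel, map_one]
          rfl
        rw [ha'] at h1
        exact h1 }
  have hTmem : ∀ t : S, t ∈ T ↔ t ∈ R ∧ ρ t c₀ = c₀ := fun t => Iff.rfl
  have hQT : Q ≤ T := fun q hq => ⟨h.QR hq, hc₀ q hq⟩
  have hTR : T ≤ R := fun t ht => ht.1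
  have hbT : ∀ t ∈ T, b * t * b⁻¹ ∈ T := by
    intro t ht
    refine ⟨h.bR t ht.1, ?_⟩
    rw [linv_mul_apply, linv_mul_apply, hbic₀, ht.2, hbc₀]
  have h2ne : ∀ v : E, -v = v → v = 0 := by
    intro v hv
    have h1 : (2 : ZMod 3) • v = 0 := by
      rw [two_smul]
      nth_rewrite 1 [← hv]
      exact neg_add_cancel v
    rcases smul_eq_zero.mp h1 with h3 | h3
    · exact absurd h3 (by decide)
    · exact h3
  have hcent : ∀ t ∈ T, b * t * b⁻¹ = t → t = 1 := by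
    intro t ht htb
    rcases e_crb ρ b R Q h (Or.inr hE) t ht.1 htb with h1 | h1
    · exact h.faith t (Subgroup.mem_sup_left ht.1) h1
    · exfalso
      have h3 := ht.2
      rw [h1] at h3
      exact hc₀0 (h2ne c₀ h3)
  have hcopT : (Nat.card ↥T).Coprime 3 :=
    Nat.Coprime.coprime_dvd_left (Subgroup.card_dvd_of_le hTR) h.cop
  -- `D = [E,T]` has 27 elements
  obtain ⟨hM1, hM2⟩ := maschke ρ T hcopT
  have hcompl : IsCompl (fixS ρ T) (comS ρ T) :=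
    ⟨disjoint_iff.mpr hM1, codisjoint_iff.mpr hM2⟩
  have hprod : Nat.card ↥(fixS ρ T) * Nat.card ↥(comS ρ T) = 81 := by
    rw [← hE, ← Nat.card_prod]
    exact Nat.card_congr (Submodule.prodEquivOfIsCompl _ _ hcompl).toEquiv
  have h3le : 3 ≤ Nat.card ↥(fixS ρ T) := by
    have hc₀T : c₀ ∈ fixS ρ T := fun t ht => ht.2
    let φ : ZMod 3 → ↥(fixS ρ T) := fun x => ⟨x • c₀, (fixS ρ T).smul_mem x hc₀T⟩
    have hinj : Function.Injective φ := by
      intro x y hxy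
      have h1 : x • c₀ = y • c₀ := congrArg Subtype.val hxy
      have h2 : (x - y) • c₀ = 0 := by rw [sub_smul, h1, sub_self]
      rcases smul_eq_zero.mp h2 with h3 | h3
      · exact sub_eq_zero.mp h3
      · exact absurd h3 hc₀0
    have h4 := Nat.card_le_card_of_injective φ hinj
    rw [Nat.card_eq_fintype_card, ZMod.card] at h4
    exact h4
  have h27le : 27 ≤ Nat.card ↥(comS ρ T) := by
    rw [← e_card_comQ ρ b R Q h]
    exact Nat.card_le_card_of_injective (Submodule.inclusion (comS_mono ρ hQT))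
      (Submodule.inclusion_injective _)
  have hD : Nat.card ↥(comS ρ T) = 27 := by
    have h5 : 3 * Nat.card ↥(comS ρ T) ≤ 81 := by
      rw [← hprod]
      exact Nat.mul_le_mul_right _ h3le
    omega
  have hDT : ∀ t ∈ T, ∀ v ∈ comS ρ T, ρ t v ∈ comS ρ T := by
    intro t ht
    exact comS_inv ρ T t (fun t' ht' => T.mul_mem (T.mul_mem ht ht') (T.inv_mem ht))
  -- the vector `s`
  obtain ⟨q₁, q₂, q₃, e₁, e₂, e₃, f⟩ := exists_frame ρ b R Q h
  obtain ⟨hsr, hs0, hbs⟩ := frame_s_mem ρ b R Q h q₁ q₂ q₃ e₁ e₂ e₃ f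
  have hsD : e₁ + e₂ + e₃ ∈ comS ρ T := comS_mono ρ hQT ((b_fix_fixQ ρ b R Q h).2 hsr)
  have hTQ : T = Q :=
    e3_core ρ b R Q h T hQT hTR hbT hcent (comS ρ T) hD hDT (e₁ + e₂ + e₃) hsr hs0 hbs hsD
  rw [← hTQ]
  exact ⟨hr, hrc⟩

end Cfsg.Agent.Helper12.S15
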