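import Mathlib
import Cfsg.Agent.Lib.S15.S15Defs
import Cfsg.Agent.Lib.S15.LFRAME
import Cfsg.Agent.Lib.S15.LFIND
import Cfsg.Agent.Lib.S15.LFKER
import Cfsg.Agent.Lib.S15.LCORA
import Cfsg.Agent.Lib.S15.EFUS
import Cfsg.Agent.Lib.S15.ESTAB
import Cfsg.Agent.Lib.S15.EORB
import Cfsg.Agent.Lib.S15.E4C0
import Cfsg.Agent.Lib.S15.E4STABC
/-! S4415 (design helper12), block E (designer helper16), piece E4ORBN.
See plans/S4415_plan.md (section E) and plans/S4415_blockE.md. -/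

set_option autoImplicit false
set_option linter.unusedSectionVars false

namespace Cfsg.Agent.Helper12.S15

variable {S : Type*} [Group S] [Finite S] {E : Type*} [AddCommGroup E] [Module (ZMod 3) E]
  [Finite E]

/-- orbit of a vector under `R` -/
def e4orbnOrb (ρ : Representation (ZMod 3) S E) (R : Subgroup S) (w : E) : Set E :=
  {v | ∃ t ∈ R, ρ t w = v}

theorem e4orbn_mul_apply (ρ : Representation (ZMod 3) S E) (x y : S) (v : E) :
    ρ (x * y) v = ρ x (ρ y v) := by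
  rw [map_mul, Module.End.mul_apply]

theorem e4orbn_inv_apply (ρ : Representation (ZMod 3) S E) (x : S) (v : E) :
    ρ x⁻¹ (ρ x v) = v := by
  rw [← e4orbn_mul_apply, inv_mul_cancel, map_one, Module.End.one_apply]

/-- two distinct `b`-fixed vectors lie in disjoint orbits when `C_R(b) = 1` -/
theorem e4orbn_disj (ρ : Representation (ZMod 3) S E) (b : S) (R Q : Subgroup S)
    (h : Setting ρ b R Q) (hcent : ∀ c ∈ R, b * c * b⁻¹ = c → c = 1) (w w' : E)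
    (hw : ρ b w = w) (hw' : ρ b w' = w') (hne : w ≠ w') :
    Disjoint (e4orbnOrb ρ R w) (e4orbnOrb ρ R w') := by
  rw [Set.disjoint_left]
  rintro v ⟨t, ht, rfl⟩ ⟨t', ht', htv⟩
  apply hne
  have h1 : ρ (t⁻¹ * t') w' = w := by
    rw [e4orbn_mul_apply, htv, e4orbn_inv_apply]
  obtain ⟨c, hc, hbc, hcw⟩ := e_fus ρ b R Q h R le_rfl h.bR w' w hw' hw (t⁻¹ * t')
    (R.mul_mem (R.inv_mem ht) ht') h1
  have hc1 := hcent c hc hbc
  rw [hc1, map_one, Module.End.one_apply] at hcw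
  exact hcw.symm

/-- orbit size for a vector with trivial stabiliser -/
theorem e4orbn_card_free (ρ : Representation (ZMod 3) S E) (R : Subgroup S) (w : E)
    (hst : ∀ t ∈ R, ρ t w = w → t = 1) : (e4orbnOrb ρ R w).ncard = Nat.card ↥R := by
  have h1 := e_orbit_card ρ R ⊥ w (by
    intro t
    rw [Subgroup.mem_bot]
    constructor
    · rintro rfl
      exact ⟨R.one_mem, by rw [map_one, Module.End.one_apply]⟩
    · rintro ⟨ht, htw⟩
      exact hst t ht htw)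
  rw [Subgroup.card_bot, mul_one] at h1
  rw [← h1]
  exact (Nat.card_coe_set_eq _).symm

/-- orbit size for a vector with stabiliser `Q` -/
theorem e4orbn_card_Q (ρ : Representation (ZMod 3) S E) (R Q : Subgroup S) (hQ4 : Nat.card ↥Q = 4)
    (w : E) (hst : ∀ t : S, t ∈ Q ↔ t ∈ R ∧ ρ t w = w) :
    (e4orbnOrb ρ R w).ncard * 4 = Nat.card ↥R := by
  have h1 := e_orbit_card ρ R Q w hst
  rw [hQ4] at h1
  rw [← h1]
  rfl

/-- `|E| = 81`, `C_R(b) = 1`: the orbits of `s, -s, c₀, -c₀` (`s = e₁+e₂+e₃`, `c₀` from `e4_c0`) are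
pairwise disjoint (`e_fus`: two `b`-fixed vectors in one orbit are conjugate under `C_R(b) = 1`;
`s ≠ ±c₀` by `frame_indep`; `ρ b c₀ = c₀` by `b_fix_fixQ`), of sizes `|R|, |R|, |R|/4, |R|/4`
(`e_orbit_card`, `e_stab_s`, `e4_stab_c`, `Setting.Q4`), inside `E ∖ {0}`:
`2|R| + 2|R|/4 ≤ 80`. -/
theorem e4_orb_noz (ρ : Representation (ZMod 3) S E) (b : S) (R Q : Subgroup S) (h : Setting ρ b R Q)
    (hE : Nat.card E = 81) (hcent : ∀ c ∈ R, b * c * b⁻¹ = c → c = 1) :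
    5 * Nat.card ↥R ≤ 160 := by
  classical
  obtain ⟨q₁, q₂, q₃, e₁, e₂, e₃, f⟩ := exists_frame ρ b R Q h
  obtain ⟨hs, hs0, hbs⟩ := frame_s_mem ρ b R Q h q₁ q₂ q₃ e₁ e₂ e₃ f
  obtain ⟨c₀, hc0, hcQ, -⟩ := e4_c0 ρ b R Q h hE
  set s := e₁ + e₂ + e₃ with hsdef
  have hbc : ρ b c₀ = c₀ := (b_fix_fixQ ρ b R Q h).1 c₀ hcQ
  have h2 : (2 : ZMod 3) ≠ 0 := by decide
  have hneg : ∀ v : E, v ≠ 0 → v ≠ -v := by
    intro v hv hvv
    apply hv
    have : (2 : ZMod 3) • v = 0 := by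
      rw [two_smul]
      nth_rewrite 2 [hvv]
      exact add_neg_cancel v
    rcases smul_eq_zero.mp this with h' | h'
    · exact absurd h' h2
    · exact h'
  -- `s ≠ ± c₀`
  have hsc : ∀ x : ZMod 3, s ≠ x • c₀ := by
    intro x hx
    have h0 : (-x • c₀) + (1 : ZMod 3) • e₁ + (1 : ZMod 3) • e₂ + (1 : ZMod 3) • e₃ = 0 := by
      rw [one_smul, one_smul, one_smul, add_assoc, add_assoc, ← add_assoc e₁, ← hsdef, hx,
        neg_smul, neg_add_cancel]
    have := frame_indep ρ b R Q h q₁ q₂ q₃ e₁ e₂ e₃ f (-x • c₀)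
      ((fixS ρ Q).smul_mem _ hcQ) 1 1 1 h0
    exact one_ne_zero this.2.1
  have hsc1 : s ≠ c₀ := by
    intro e; exact hsc 1 (by rw [one_smul]; exact e)
  have hsc2 : s ≠ -c₀ := by
    intro e; exact hsc (-1) (by rw [neg_smul, one_smul]; exact e)
  have hsc3 : -s ≠ c₀ := by
    intro e; apply hsc2; rw [← e, neg_neg]
  have hsc4 : -s ≠ -c₀ := by
    intro e; exact hsc1 (neg_injective e)
  have hbns : ρ b (-s) = -s := by rw [map_neg, hbs]
  have hbnc : ρ b (-c₀) = -c₀ := by rw [map_neg, hbc]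
  have hns0 : -s ≠ 0 := neg_ne_zero.mpr hs0
  have hnc0 : -c₀ ≠ 0 := neg_ne_zero.mpr hc0
  -- stabilisers
  have hcent' : ∀ t ∈ R, b * t * b⁻¹ = t → ρ t = 1 ∨ ρ t = -1 := by
    intro t ht htb
    left
    rw [hcent t ht htb, map_one]
  have hst1 : ∀ t ∈ R, ρ t s = s → t = 1 := fun t ht hts =>
    e_stab_s ρ b R Q h R le_rfl h.bR hcent' s hs hs0 hbs t ht hts
  have hst2 : ∀ t ∈ R, ρ t (-s) = -s → t = 1 := fun t ht hts =>
    e_stab_s ρ b R Q h R le_rfl h.bR hcent' (-s) ((LinearMap.range (ρ b - 1)).neg_mem hs) hns0 hbns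
      t ht hts
  have hst3 : ∀ t : S, t ∈ Q ↔ t ∈ R ∧ ρ t c₀ = c₀ := by
    intro t
    constructor
    · intro ht
      exact ⟨h.QR ht, (mem_fixS ρ Q c₀).mp hcQ t ht⟩
    · rintro ⟨ht, htc⟩
      exact e4_stab_c ρ b R Q h hE c₀ hcQ hc0 t ht htc
  have hst4 : ∀ t : S, t ∈ Q ↔ t ∈ R ∧ ρ t (-c₀) = -c₀ := by
    intro t
    rw [hst3 t, map_neg, neg_inj]
  have hc1 := e4orbn_card_free ρ R s hst1
  have hc2 := e4orbn_card_free ρ R (-s) hst2
  have hc3 := e4orbn_card_Q ρ R Q h.Q4 c₀ hst3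
  have hc4 := e4orbn_card_Q ρ R Q h.Q4 (-c₀) hst4
  -- disjointness
  have d12 := e4orbn_disj ρ b R Q h hcent s (-s) hbs hbns (hneg s hs0)
  have d13 := e4orbn_disj ρ b R Q h hcent s c₀ hbs hbc hsc1
  have d14 := e4orbn_disj ρ b R Q h hcent s (-c₀) hbs hbnc hsc2
  have d23 := e4orbn_disj ρ b R Q h hcent (-s) c₀ hbns hbc hsc3
  have d24 := e4orbn_disj ρ b R Q h hcent (-s) (-c₀) hbns hbnc hsc4
  have d34 := e4orbn_disj ρ b R Q h hcent c₀ (-c₀) hbc hbnc (hneg c₀ hc0)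
  -- all orbits avoid 0
  have hsub : ∀ w : E, w ≠ 0 → e4orbnOrb ρ R w ⊆ ({0} : Set E)ᶜ := by
    intro w hw v hv
    obtain ⟨t, -, rfl⟩ := hv
    rw [Set.mem_compl_iff, Set.mem_singleton_iff]
    intro h0
    apply hw
    have := e4orbn_inv_apply ρ t w
    rw [h0, map_zero] at this
    exact this.symm
  have hfin : ∀ A : Set E, A.Finite := fun A => Set.toFinite A
  set O1 := e4orbnOrb ρ R s
  set O2 := e4orbnOrb ρ R (-s)
  set O3 := e4orbnOrb ρ R c₀
  set O4 := e4orbnOrb ρ R (-c₀)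
  have hU : O1 ∪ O2 ∪ O3 ∪ O4 ⊆ ({0} : Set E)ᶜ :=
    Set.union_subset (Set.union_subset (Set.union_subset (hsub s hs0) (hsub _ hns0))
      (hsub c₀ hc0)) (hsub _ hnc0)
  have hcardU : (O1 ∪ O2 ∪ O3 ∪ O4).ncard = O1.ncard + O2.ncard + O3.ncard + O4.ncard := by
    rw [Set.ncard_union_eq (by
        rw [Set.disjoint_union_left, Set.disjoint_union_left]
        exact ⟨⟨d14, d24⟩, d34⟩) (hfin _) (hfin _),
      Set.ncard_union_eq (by
        rw [Set.disjoint_union_left]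
        exact ⟨d13, d23⟩) (hfin _) (hfin _),
      Set.ncard_union_eq d12 (hfin _) (hfin _)]
  have hcompl : (({0} : Set E)ᶜ).ncard = 80 := by
    rw [Set.ncard_compl, Set.ncard_singleton, hE]
  have hle := Set.ncard_le_ncard hU (hfin _)
  rw [hcardU, hcompl] at hle
  omega

end Cfsg.Agent.Helper12.S15
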