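import Mathlib
import Cfsg.Agent.Lib.S15.S15Defs

/-! S4415 (design helper12), block E (designer helper16), piece E4ORD7.
See plans/S4415_plan.md (section E) and plans/S4415_blockE.md. -/

set_option autoImplicit false
set_option linter.unusedSectionVars false

namespace Cfsg.Agent.Helper12.S15

variable {S : Type*} [Group S] [Finite S] {E : Type*} [AddCommGroup E] [Module (ZMod 3) E]
  [Finite E]

/-- `|E| = 81`: `R` has no element of order 7.  (`⟨ρ x⟩` acts on the 81 vectors with all
non-trivial orbits of size 7, so `|ker (ρ x - 1)| ≡ 81 ≡ 4 (mod 7)`; `|ker| = 3^d ∈ {1,3,9,27,81}`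
forces `81`, i.e. `ρ x = 1`, then `Setting.faith`.  E.g. `Equiv.Perm.card_fixedPoints_modEq`, `p = 7`.) -/
theorem e4_ord7 (ρ : Representation (ZMod 3) S E) (b : S) (R Q : Subgroup S) (h : Setting ρ b R Q)
    (hE : Nat.card E = 81) (x : S) (hx : x ∈ R) (hx7 : x ^ 7 = 1) : x = 1 := by
  classical
  haveI : Fintype E := Fintype.ofFinite E
  haveI : Fact (Nat.Prime 7) := ⟨by norm_num⟩
  -- the function `ρ x` has 7-th power the identity
  let f : Function.End E := fun v => ρ x v
  have hpow : ∀ n : ℕ, ∀ v : E, (f ^ n) v = ρ (x ^ n) v := by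
    intro n
    induction n with
    | zero =>
      intro v
      rw [pow_zero, pow_zero, map_one]
      rfl
    | succ n ih =>
      intro v
      rw [pow_succ, pow_succ, map_mul]
      show (f ^ n) (f v) = ρ (x ^ n) (ρ x v)
      rw [ih]
  have hf : f ^ 7 ^ 1 = 1 := by
    funext v
    rw [pow_one, hpow 7 v, hx7, map_one]
    rfl
  have hmod := Equiv.Perm.card_fixedPoints_modEq (p := 7) (n := 1) hf
  -- the fixed points form the kernel of `ρ x - 1`
  have hfix : Fintype.card (Function.fixedPoints f) = Nat.card ↥(LinearMap.ker (ρ x - 1)) := by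
    rw [← Nat.card_eq_fintype_card]
    apply Nat.card_congr
    refine ⟨fun v => ⟨v.1, ?_⟩, fun v => ⟨v.1, ?_⟩, fun v => rfl, fun v => rfl⟩
    · have hv : f v.1 = v.1 := v.2
      rw [LinearMap.mem_ker, LinearMap.sub_apply, Module.End.one_apply, sub_eq_zero]
      exact hv
    · have hv := v.2
      rw [LinearMap.mem_ker, LinearMap.sub_apply, Module.End.one_apply, sub_eq_zero] at hv
      exact hv
  have hK : Nat.card ↥(LinearMap.ker (ρ x - 1)) =
      3 ^ Module.finrank (ZMod 3) ↥(LinearMap.ker (ρ x - 1)) := by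
    rw [Module.natCard_eq_pow_finrank (K := ZMod 3)]
    simp
  have hEc : Fintype.card E = 81 := by rw [← Nat.card_eq_fintype_card]; exact hE
  have hle : Nat.card ↥(LinearMap.ker (ρ x - 1)) ≤ 81 := by
    rw [← hE]
    exact Nat.card_le_card_of_injective _ Subtype.val_injective
  rw [hfix, hEc, hK] at hmod
  rw [hK] at hle
  set d := Module.finrank (ZMod 3) ↥(LinearMap.ker (ρ x - 1)) with hd
  have hd4 : d ≤ 4 := by
    by_contra hgt
    push Not at hgt
    have : (3 : ℕ) ^ 5 ≤ 3 ^ d := Nat.pow_le_pow_right (by norm_num) hgt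
    omega
  have hd' : d = 4 := by
    unfold Nat.ModEq at hmod
    have key : ∀ k : ℕ, k ≤ 4 → 81 % 7 = 3 ^ k % 7 → k = 4 := by decide
    exact key d hd4 hmod
  -- so the kernel is everything
  have hall : ∀ v : E, ρ x v = v := by
    have hcard : Nat.card ↥(LinearMap.ker (ρ x - 1)) = Nat.card E := by
      rw [hK, hE, hd']; norm_num
    have htop : LinearMap.ker (ρ x - 1) = ⊤ := by
      apply Submodule.eq_top_of_finrank_eq
      have h1 := Module.natCard_eq_pow_finrank (K := ZMod 3) (V := ↥(LinearMap.ker (ρ x - 1)))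
      have h2 := Module.natCard_eq_pow_finrank (K := ZMod 3) (V := E)
      rw [hcard, h2] at h1
      simp only [Nat.card_zmod] at h1
      exact (Nat.pow_right_injective (by norm_num : 2 ≤ 3) h1).symm
    intro v
    have hv : v ∈ LinearMap.ker (ρ x - 1) := by rw [htop]; exact Submodule.mem_top
    rw [LinearMap.mem_ker, LinearMap.sub_apply, Module.End.one_apply, sub_eq_zero] at hv
    exact hv
  apply h.faith x (Subgroup.mem_sup_left hx)
  ext v
  rw [hall v]
  rfl

end Cfsg.Agent.Helper12.S15
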