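import Mathlib
import Cfsg.Agent.Lib.S15.S15Defs
import Cfsg.Agent.Lib.S15.ECRB3
import Cfsg.Agent.Lib.S15.ECNT
import Cfsg.Agent.Lib.S15.E4ORD7
import Cfsg.Agent.Lib.S15.E4ORBN
import Cfsg.Agent.Lib.S15.E4NOZ4
import Cfsg.Agent.Lib.S15.E4NOZ16

/-! S4415 (design helper12), block E (designer helper16), assembly E4NOZ.
See plans/S4415_plan.md (section E) and plans/S4415_blockE.md. -/

set_option autoImplicit false
set_option linter.unusedSectionVars false

namespace Cfsg.Agent.Helper12.S15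

variable {S : Type*} [Group S] [Finite S] {E : Type*} [AddCommGroup E] [Module (ZMod 3) E]
  [Finite E]

/-- an element of order 7 in `R` is impossible when `|E| = 81` -/
theorem e4_no7 (ρ : Representation (ZMod 3) S E) (b : S) (R Q : Subgroup S) (h : Setting ρ b R Q)
    (hE : Nat.card E = 81) (h7 : 7 ∣ Nat.card ↥R) : False := by
  have : Fact (Nat.Prime 7) := ⟨by norm_num⟩
  obtain ⟨x, hx⟩ := exists_prime_orderOf_dvd_card' 7 h7
  have h1 : (x : S) ^ 7 = 1 := by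
    have : x ^ 7 = 1 := by rw [← hx]; exact pow_orderOf_eq_one x
    have := congrArg (Subtype.val) this
    simpa using this
  have h2 := e4_ord7 ρ b R Q h hE (x : S) x.2 h1
  have h3 : x = 1 := Subtype.ext h2
  rw [h3, orderOf_one] at hx
  norm_num at hx

/-- `|E| = 81` forces `-1 ∈ ρ(R)`. -/
theorem e4_noz (ρ : Representation (ZMod 3) S E) (b : S) (R Q : Subgroup S)
    (h : RSetting ρ b R Q) (hE : Nat.card E = 81) (hz : ¬ ∃ z ∈ R, ρ z = -1) : False := by
  have hS : Setting ρ b R Q := h.toSetting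
  have hcent : ∀ c ∈ R, b * c * b⁻¹ = c → c = 1 := by
    intro c hc hcb
    rcases e_crb ρ b R Q hS (Or.inr hE) c hc hcb with h1 | h1
    · exact hS.faith c (Subgroup.mem_sup_left hc) h1
    · exact absurd ⟨c, hc, h1⟩ hz
  have h1 := e4_orb_noz ρ b R Q hS hE hcent
  have h2 := e_cnt b hS.b3 R hS.bR
  have h3 : Nat.card {t : S // t ∈ R ∧ b * t * b⁻¹ = t} = 1 := by
    rw [Nat.card_eq_one_iff_unique]
    refine ⟨⟨?_⟩, ⟨⟨1, R.one_mem, by simp⟩⟩⟩
    rintro ⟨x, hx, hxb⟩ ⟨y, hy, hyb⟩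
    rw [Subtype.mk.injEq, hcent x hx hxb, hcent y hy hyb]
  rw [h3] at h2
  have h4 : Nat.card ↥Q ∣ Nat.card ↥R := Subgroup.card_dvd_of_le hS.QR
  rw [hS.Q4] at h4
  have h5 : Nat.card ↥R = 4 ∨ Nat.card ↥R = 16 ∨ Nat.card ↥R = 28 := by
    obtain ⟨k, hk⟩ := h4
    have h6 : Nat.card ↥R % 3 = 1 := h2
    omega
  rcases h5 with h5 | h5 | h5
  · have hRQ : R = Q := (Subgroup.eq_of_le_of_card_ge hS.QR (by rw [h5, hS.Q4])).symm
    exact e4_noz4 ρ b R Q h hE hRQ
  · exact e4_noz16 ρ b R Q hS hcent h5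
  · exact e4_no7 ρ b R Q hS hE (by rw [h5]; norm_num)

end Cfsg.Agent.Helper12.S15
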