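import Mathlib
import Cfsg.Agent.Lib.S15.S15Defs
import Cfsg.Agent.Lib.S15.LFRAME
import Cfsg.Agent.Lib.S15.LFIND
import Cfsg.Agent.Lib.S15.LFKER
import Cfsg.Agent.Lib.S15.LCORA
import Cfsg.Agent.Lib.S15.ECRB3
import Cfsg.Agent.Lib.S15.EFUS
import Cfsg.Agent.Lib.S15.ESTAB
import Cfsg.Agent.Lib.S15.EORB
import Cfsg.Agent.Lib.S15.E4C0
import Cfsg.Agent.Lib.S15.E4STABC
/-! S4415 (design helper12), block E (designer helper16), piece E4ORBZ.
See plans/S4415_plan.md (section E) and plans/S4415_blockE.md. -/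

set_option autoImplicit false
set_option linter.unusedSectionVars false

namespace Cfsg.Agent.Helper12.S15

variable {S : Type*} [Group S] [Finite S] {E : Type*} [AddCommGroup E] [Module (ZMod 3) E]
  [Finite E]

/-- `|E| = 81`, `-1 ∈ ρ(R)`: the orbits of `s` and `c₀` are disjoint (`e_fus` + `e_crb`: they would be
conjugate by `±1`), of sizes `|R|` and `|R|/4` (`e_orbit_card`, `e_stab_s` with `e_crb`, `e4_stab_c`),
inside `E ∖ {0}`: `|R| + |R|/4 ≤ 80`. -/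
theorem e4_orb_z (ρ : Representation (ZMod 3) S E) (b : S) (R Q : Subgroup S) (h : Setting ρ b R Q)
    (hE : Nat.card E = 81) (z : S) (hzR : z ∈ R) (hz : ρ z = -1) :
    5 * Nat.card ↥R ≤ 320 := by
  obtain ⟨q₁, q₂, q₃, e₁, e₂, e₃, f⟩ := exists_frame ρ b R Q h
  obtain ⟨hsr, hs0, hbs⟩ := frame_s_mem ρ b R Q h q₁ q₂ q₃ e₁ e₂ e₃ f
  obtain ⟨c₀, hc₀0, hc₀Q, -⟩ := e4_c0 ρ b R Q h hE
  have hbc₀ : ρ b c₀ = c₀ := (b_fix_fixQ ρ b R Q h).1 c₀ hc₀Q
  have hcrb : ∀ t ∈ R, b * t * b⁻¹ = t → ρ t = 1 ∨ ρ t = -1 :=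
    fun t ht htb => e_crb ρ b R Q h (Or.inr hE) t ht htb
  -- injectivity of `ρ t`
  have hinj : ∀ (t : S) (v : E), ρ t v = 0 → v = 0 := by
    intro t v hv
    have h1 : ρ t⁻¹ (ρ t v) = v := by
      rw [← Module.End.mul_apply, ← map_mul, inv_mul_cancel, map_one, Module.End.one_apply]
    rw [hv, map_zero] at h1
    exact h1.symm
  -- the two orbits
  set A : Set E := {v | ∃ t ∈ R, ρ t (e₁ + e₂ + e₃) = v} with hA
  set B : Set E := {v | ∃ t ∈ R, ρ t c₀ = v} with hB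
  -- orbit of `s`
  have hAcard : Nat.card ↥A * Nat.card ↥(⊥ : Subgroup S) = Nat.card ↥R := by
    apply e_orbit_card ρ R ⊥ (e₁ + e₂ + e₃)
    intro t
    rw [Subgroup.mem_bot]
    constructor
    · rintro rfl
      exact ⟨R.one_mem, by rw [map_one, Module.End.one_apply]⟩
    · rintro ⟨ht, hts⟩
      exact e_stab_s ρ b R Q h R le_rfl h.bR hcrb _ hsr hs0 hbs t ht hts
  have hAcard' : Nat.card ↥A = Nat.card ↥R := by
    rw [Subgroup.card_bot, mul_one] at hAcard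
    exact hAcard
  -- orbit of `c₀`
  have hBcard : Nat.card ↥B * Nat.card ↥Q = Nat.card ↥R := by
    apply e_orbit_card ρ R Q c₀
    intro t
    constructor
    · intro ht
      exact ⟨h.QR ht, hc₀Q t ht⟩
    · rintro ⟨ht, htc⟩
      exact e4_stab_c ρ b R Q h hE c₀ hc₀Q hc₀0 t ht htc
  rw [h.Q4] at hBcard
  -- disjointness
  have hdisj : Disjoint A B := by
    rw [Set.disjoint_left]
    rintro v ⟨t, ht, hts⟩ ⟨t', ht', htc⟩
    have h1 : ρ (t'⁻¹ * t) (e₁ + e₂ + e₃) = c₀ := by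
      rw [map_mul, Module.End.mul_apply, hts, ← htc, ← Module.End.mul_apply, ← map_mul,
        inv_mul_cancel, map_one, Module.End.one_apply]
    obtain ⟨c, hcR, hcb, hcs⟩ := e_fus ρ b R Q h R le_rfl h.bR (e₁ + e₂ + e₃) c₀ hbs hbc₀
      (t'⁻¹ * t) (R.mul_mem (R.inv_mem ht') ht) h1
    rcases hcrb c hcR hcb with h2 | h2
    · rw [h2, Module.End.one_apply] at hcs
      -- c₀ = s
      have h0 : c₀ + (-1 : ZMod 3) • e₁ + (-1 : ZMod 3) • e₂ + (-1 : ZMod 3) • e₃ = 0 := by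
        rw [← hcs]
        simp only [neg_smul, one_smul]
        abel
      obtain ⟨-, hx, -, -⟩ := frame_indep ρ b R Q h q₁ q₂ q₃ e₁ e₂ e₃ f c₀ hc₀Q _ _ _ h0
      exact absurd hx (by decide)
    · rw [h2, LinearMap.neg_apply, Module.End.one_apply] at hcs
      have h0 : c₀ + (1 : ZMod 3) • e₁ + (1 : ZMod 3) • e₂ + (1 : ZMod 3) • e₃ = 0 := by
        rw [← hcs]
        simp only [one_smul]
        abel
      obtain ⟨-, hx, -, -⟩ := frame_indep ρ b R Q h q₁ q₂ q₃ e₁ e₂ e₃ f c₀ hc₀Q _ _ _ h0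
      exact absurd hx (by decide)
  -- zero is in neither orbit
  have h0A : (0 : E) ∉ A ∪ B := by
    rintro (⟨t, -, ht⟩ | ⟨t, -, ht⟩)
    · exact hs0 (hinj t _ ht)
    · exact hc₀0 (hinj t _ ht)
  have hcount : (A ∪ B).ncard + 1 ≤ 81 := by
    rw [← Set.ncard_insert_of_notMem h0A (Set.toFinite _), ← hE]
    exact Set.ncard_le_card _
  rw [Set.ncard_union_eq hdisj (Set.toFinite _) (Set.toFinite _), ← _root_.Nat.card_coe_set_eq,
    ← _root_.Nat.card_coe_set_eq, hAcard'] at hcount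
  omega

end Cfsg.Agent.Helper12.S15
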