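import Mathlib
import Cfsg.Agent.Lib.S15.S15Defs
import Cfsg.Agent.Lib.S15.EDEFS
import Cfsg.Agent.Lib.S15.E4ZB
import Cfsg.Agent.Lib.S15.E4A1
/-! S4415 (design helper12), block E (designer helper16), piece E4Z8.
See plans/S4415_plan.md (section E) and plans/S4415_blockE.md. -/

set_option autoImplicit false
set_option linter.unusedSectionVars false

namespace Cfsg.Agent.Helper12.S15

variable {S : Type*} [Group S] [Finite S] {E : Type*} [AddCommGroup E] [Module (ZMod 3) E]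
  [Finite E]

/-- `-1 ∈ ρ(R)` and `|R| = 8` is impossible: then `R = A₁ = Q ∪ Qz` (`inA1_mem_R`, `inA1_card`), and
`Setting.gen` with `M = Q` (`r = q` or `q z`, `r⁻¹ r^b = q⁻¹ q^b ∈ Q` as `z^b = z`, `e4_z_basic`) gives
`R ≤ Q`, `8 ≤ 4`. -/
theorem e4_z8 (ρ : Representation (ZMod 3) S E) (b : S) (R Q : Subgroup S) (h : Setting ρ b R Q)
    (z : S) (hzR : z ∈ R) (hz : ρ z = -1) (h8 : Nat.card ↥R = 8) : False := by
  obtain ⟨-, -, hbz, hzc, -⟩ := e4_z_basic ρ b R Q h z hzR hz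
  -- `R = A₁`
  have hRA : ∀ r ∈ R, inA1 Q z r := by
    let f : {a : S // inA1 Q z a} → ↥R := fun a => ⟨a.1, inA1_mem_R ρ b R Q h z hzR hz a.1 a.2⟩
    have hinj : Function.Injective f := by
      intro a a' haa
      exact Subtype.ext (congrArg (fun x : ↥R => (x : S)) haa)
    have hbij : Function.Bijective f := by
      apply hinj.bijective_of_nat_card_le
      rw [h8, inA1_card ρ b R Q h z hzR hz]
    intro r hr
    obtain ⟨a, ha⟩ := hbij.2 ⟨r, hr⟩
    have h1 : a.1 = r := congrArg (fun x : ↥R => (x : S)) ha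
    rw [← h1]
    exact a.2
  -- `R ≤ Q`
  have hRQ : R ≤ Q := by
    apply h.gen Q
    intro r hr
    obtain ⟨q, hq, h1 | h1⟩ := hRA r hr
    · rw [h1]
      exact Q.mul_mem (Q.inv_mem hq) (h.bQ q hq)
    · have hw : (q⁻¹ * (b * q * b⁻¹)) * z = z * (q⁻¹ * (b * q * b⁻¹)) :=
        hzc _ (h.QR (Q.mul_mem (Q.inv_mem hq) (h.bQ q hq)))
      have h2 : r⁻¹ * (b * r * b⁻¹) = q⁻¹ * (b * q * b⁻¹) := by
        rw [h1]
        calc (q * z)⁻¹ * (b * (q * z) * b⁻¹)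
            = z⁻¹ * (q⁻¹ * (b * q * b⁻¹)) * (b * z * b⁻¹) := by group
          _ = z⁻¹ * ((q⁻¹ * (b * q * b⁻¹)) * z) := by rw [hbz, mul_assoc]
          _ = z⁻¹ * (z * (q⁻¹ * (b * q * b⁻¹))) := by rw [hw]
          _ = q⁻¹ * (b * q * b⁻¹) := by rw [← mul_assoc, inv_mul_cancel, one_mul]
      rw [h2]
      exact Q.mul_mem (Q.inv_mem hq) (h.bQ q hq)
  have hle : Nat.card ↥R ≤ Nat.card ↥Q := Subgroup.card_le_of_le hRQ
  rw [h8, h.Q4] at hle
  omega

end Cfsg.Agent.Helper12.S15
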