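import Mathlib
import Cfsg.Agent.Lib.S15.S15Defs
import Cfsg.Agent.Lib.S15.ECNT
import Cfsg.Agent.Lib.S15.E4ORBZ
import Cfsg.Agent.Lib.S15.E4ZB
import Cfsg.Agent.Lib.S15.E4A1
import Cfsg.Agent.Lib.S15.E4Z8
import Cfsg.Agent.Lib.S15.E4NOZ

/-! S4415 (design helper12), block E (designer helper16), assembly E4Z32.
See plans/S4415_plan.md (section E) and plans/S4415_blockE.md. -/

set_option autoImplicit false
set_option linter.unusedSectionVars false

namespace Cfsg.Agent.Helper12.S15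

variable {S : Type*} [Group S] [Finite S] {E : Type*} [AddCommGroup E] [Module (ZMod 3) E]
  [Finite E]

/-- `|E| = 81`, `-1 ∈ ρ(R)`: `|R| = 32`. -/
theorem e4_z32 (ρ : Representation (ZMod 3) S E) (b : S) (R Q : Subgroup S) (h : Setting ρ b R Q)
    (hE : Nat.card E = 81) (z : S) (hzR : z ∈ R) (hz : ρ z = -1) : Nat.card ↥R = 32 := by
  have h1 := e4_orb_z ρ b R Q h hE z hzR hz
  have h2 := e_cnt b h.b3 R h.bR
  rw [e4_z_cent_card ρ b R Q h hE z hzR hz] at h2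
  have h8 : 8 ∣ Nat.card ↥R := by
    obtain ⟨A, hAR, -, hA8, -⟩ := e4_a1_sub ρ b R Q h z hzR hz
    rw [← hA8]
    exact Subgroup.card_dvd_of_le hAR
  have h5 : Nat.card ↥R = 8 ∨ Nat.card ↥R = 32 ∨ Nat.card ↥R = 56 := by
    obtain ⟨k, hk⟩ := h8
    have h6 : Nat.card ↥R % 3 = 2 % 3 := h2
    omega
  rcases h5 with h5 | h5 | h5
  · exact (e4_z8 ρ b R Q h z hzR hz h5).elim
  · exact h5
  · exact (e4_no7 ρ b R Q h hE (by rw [h5]; norm_num)).elim

end Cfsg.Agent.Helper12.S15
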