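import Mathlib
import Cfsg.Agent.Lib.S15.S15Defs
import Cfsg.Agent.Lib.S15.E4NOZ
import Cfsg.Agent.Lib.S15.E4Z32
import Cfsg.Agent.Lib.S15.E4ES

/-! S4415 design (helper12), piece E4MAIN (assembly by helper16).  See plans/S4415_plan.md. -/

set_option autoImplicit false

namespace Cfsg.Agent.Helper12.S15

/-- `dim E = 4`: `R` is extraspecial of order 32 and contains an `E₈` -/
theorem e4_main {S : Type*} [Group S] [Finite S] {E : Type*} [AddCommGroup E]
    [Module (ZMod 3) E] [Finite E] (ρ : Representation (ZMod 3) S E) (b : S) (R Q : Subgroup S) (h : RSetting ρ b R Q) (hE : Nat.card E = 81) :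
    Cfsg.IsExtraspecial 2 ↥R ∧ Nat.card ↥R = 32 ∧
      ∃ A : Subgroup S, A ≤ R ∧ Cfsg.IsElementaryAbelian 2 A ∧ Nat.card ↥A = 8 := by
  have hS : Setting ρ b R Q := h.toSetting
  by_cases hz : ∃ z ∈ R, ρ z = -1
  · obtain ⟨z, hzR, hz⟩ := hz
    have h32 := e4_z32 ρ b R Q hS hE z hzR hz
    obtain ⟨h1, h2⟩ := e4_struct ρ b R Q hS hE z hzR hz h32
    exact ⟨h1, h32, h2⟩
  · exact (e4_noz ρ b R Q h hE hz).elim

end Cfsg.Agent.Helper12.S15
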