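import Mathlib
import Cfsg.Agent.Lib.S15.S15Defs
import Cfsg.Agent.Lib.S15.LFRAME
import Cfsg.Agent.Lib.S15.LFIND
import Cfsg.Agent.Lib.S15.ECARDQ

/-! S4415 design (helper12), piece ECARD (assembly by helper16).  See plans/S4415_plan.md. -/

set_option autoImplicit false

namespace Cfsg.Agent.Helper12.S15

theorem e_card {S : Type*} [Group S] [Finite S] {E : Type*} [AddCommGroup E]
    [Module (ZMod 3) E] [Finite E] (ρ : Representation (ZMod 3) S E) (b : S) (R Q : Subgroup S) (h : Setting ρ b R Q) :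
    27 ≤ Nat.card E ∧ ∃ n : ℕ, Nat.card E = 3 ^ n := by
  constructor
  · rw [e_card_fixQ ρ b R Q h]
    have : 0 < Nat.card ↥(fixS ρ Q) := Nat.card_pos
    omega
  · have : Fintype E := Fintype.ofFinite E
    refine ⟨Module.finrank (ZMod 3) E, ?_⟩
    rw [Nat.card_eq_fintype_card, Module.card_eq_pow_finrank (K := ZMod 3) (V := E), ZMod.card]

end Cfsg.Agent.Helper12.S15
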