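import Mathlib
import Cfsg.Agent.Lib.S15.S15Defs
import Cfsg.Agent.Lib.Helper22.PPrimeCore
import Cfsg.Agent.Lib.Helper5.BGFwK
import Cfsg.Agent.Lib.Helper1.CommutatorBasic

/-! S4415 design (helper12), piece GCOMM.  See plans/S4415_plan.md. -/

set_option autoImplicit false
set_option linter.style.haveILetI false

namespace Cfsg.Agent.Helper12.S15

/-- `R = [O_{3'}(S),B]` is a solvable `3'`-group normalised by `b` with `[R,B] = R`
(coprime action: `comm_comm_eq_of_coprime` in Lib/Helper5/BGFwK.lean; Lib/Helper22/PPrimeCore.lean). -/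
theorem g_comm {S : Type*} [Group S] [Finite S] [Group.IsSolvable S]
    (B : Subgroup S) (hB : Nat.card ↥B = 3) (b : S) (hb : Subgroup.zpowers b = B) :
    (Nat.card ↥(⁅Cfsg.pPrimeCore 3 S, B⁆ : Subgroup S)).Coprime 3 ∧
      (∀ r ∈ ⁅Cfsg.pPrimeCore 3 S, B⁆, b * r * b⁻¹ ∈ ⁅Cfsg.pPrimeCore 3 S, B⁆) ∧
      ⁅⁅Cfsg.pPrimeCore 3 S, B⁆, Subgroup.zpowers b⁆ = ⁅Cfsg.pPrimeCore 3 S, B⁆ := by
  haveI hKn : (Cfsg.pPrimeCore 3 S).Normal := Cfsg.Agent.Helper22.pPrimeCore_normal 3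
  have hKcop : (Nat.card (Cfsg.pPrimeCore 3 S)).Coprime 3 :=
    Cfsg.Agent.Helper22.card_pPrimeCore_coprime 3
  have hBK : B ≤ Subgroup.normalizer ((Cfsg.pPrimeCore 3 S : Subgroup S) : Set S) := by
    rw [Subgroup.normalizer_eq_top]; exact le_top
  have hRK : ⁅Cfsg.pPrimeCore 3 S, B⁆ ≤ Cfsg.pPrimeCore 3 S :=
    Cfsg.Agent.Helper1.commutator_le_of_le_normalizer hBK
  have hbB : b ∈ B := by rw [← hb]; exact Subgroup.mem_zpowers b
  refine ⟨Nat.Coprime.coprime_dvd_left (Subgroup.card_dvd_of_le hRK) hKcop, ?_, ?_⟩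
  · intro r hr
    have hn := Cfsg.Agent.Helper1.le_normalizer_commutator_right (Cfsg.pPrimeCore 3 S) B hbB
    exact (Subgroup.mem_normalizer_iff.mp hn r).mp hr
  · rw [hb]
    apply Cfsg.Agent.Helper5.BGFwK.comm_comm_eq_of_coprime _ _ hBK
    · rw [hB]; exact hKcop.symm
    · infer_instance

end Cfsg.Agent.Helper12.S15
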