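import Mathlib
import Cfsg.Agent.Lib.S15.S15Defs

/-! S4415 design (helper12), piece GGEN.  See plans/S4415_plan.md. -/

set_option autoImplicit false

namespace Cfsg.Agent.Helper12.S15

open scoped commutatorElement in
/-- the generation principle from `[R,B] = R` -/
theorem g_gen {S : Type*} [Group S] (b : S) (R : Subgroup S)
    (hbR : ∀ r ∈ R, b * r * b⁻¹ ∈ R) (hc : ⁅R, Subgroup.zpowers b⁆ = R) :
    ∀ M : Subgroup S, (∀ r ∈ R, r⁻¹ * (b * r * b⁻¹) ∈ M) → R ≤ M := by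
  intro M hM
  -- all b^k-commutators lie in M
  have hpow : ∀ k : ℕ, ∀ r ∈ R, r⁻¹ * (b ^ k * r * (b ^ k)⁻¹) ∈ M ∧ b ^ k * r * (b ^ k)⁻¹ ∈ R := by
    intro k
    induction k with
    | zero =>
      intro r hr
      simp only [pow_zero, one_mul, inv_one, mul_one, inv_mul_cancel]
      exact ⟨M.one_mem, hr⟩
    | succ k ih =>
      intro r hr
      obtain ⟨h1, h2⟩ := ih r hr
      have h3 := hM _ h2
      have h4 := hbR _ h2
      have e : b ^ (k + 1) * r * (b ^ (k + 1))⁻¹ = b * (b ^ k * r * (b ^ k)⁻¹) * b⁻¹ := by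
        rw [pow_succ']; group
      rw [e]
      refine ⟨?_, h4⟩
      have : r⁻¹ * (b * (b ^ k * r * (b ^ k)⁻¹) * b⁻¹) =
          (r⁻¹ * (b ^ k * r * (b ^ k)⁻¹)) * ((b ^ k * r * (b ^ k)⁻¹)⁻¹ * (b * (b ^ k * r * (b ^ k)⁻¹) * b⁻¹)) := by
        group
      rw [this]
      exact M.mul_mem h1 h3
  have hzpow : ∀ c ∈ Subgroup.zpowers b, ∀ r ∈ R, r⁻¹ * (c * r * c⁻¹) ∈ M := by
    intro c hcz r hr
    obtain ⟨n, rfl⟩ := Subgroup.mem_zpowers_iff.mp hcz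
    rcases Int.eq_nat_or_neg n with ⟨k, rfl | rfl⟩
    · rw [zpow_natCast]
      exact (hpow k r hr).1
    · -- negative power: r⁻¹ (c r c⁻¹) with c = (b^k)⁻¹; put r' = c r c⁻¹ ... need r' ∈ R
      rw [zpow_neg, zpow_natCast]
      -- use hc : commutator equality to know (b^k)⁻¹ r b^k ∈ R
      have hmem : (b ^ k)⁻¹ * r * ((b ^ k)⁻¹)⁻¹ ∈ R := by
        have h1 : ⁅r, (b ^ k)⁻¹⁆ ∈ ⁅R, Subgroup.zpowers b⁆ :=
          Subgroup.commutator_mem_commutator hr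
            ((Subgroup.zpowers b).inv_mem (Subgroup.pow_mem _ (Subgroup.mem_zpowers b) k))
        rw [hc] at h1
        have : (b ^ k)⁻¹ * r * ((b ^ k)⁻¹)⁻¹ = (⁅r, (b ^ k)⁻¹⁆)⁻¹ * r := by
          rw [commutatorElement_def]; group
        rw [this]
        exact R.mul_mem (R.inv_mem h1) hr
      have h2 := (hpow k _ hmem).1
      have e : ((b ^ k)⁻¹ * r * ((b ^ k)⁻¹)⁻¹)⁻¹ * (b ^ k * ((b ^ k)⁻¹ * r * ((b ^ k)⁻¹)⁻¹) * (b ^ k)⁻¹) =
          (r⁻¹ * ((b ^ k)⁻¹ * r * ((b ^ k)⁻¹)⁻¹))⁻¹ := by group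
      rw [e] at h2
      have := M.inv_mem h2
      rwa [inv_inv] at this
  rw [← hc, Subgroup.commutator_le]
  intro r hr c hc'
  -- ⁅r, c⁆ = r c r⁻¹ c⁻¹ = (r⁻¹)⁻¹ (c r⁻¹ c⁻¹)
  have := hzpow c hc' r⁻¹ (R.inv_mem hr)
  have e : ⁅r, c⁆ = (r⁻¹)⁻¹ * (c * r⁻¹ * c⁻¹) := by
    rw [commutatorElement_def]; group
  rw [e]
  exact this

end Cfsg.Agent.Helper12.S15
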