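import Mathlib
import Cfsg.Agent.Lib.S15.S15Defs
import Cfsg.Agent.Lib.Helper16.Solvable2
import Cfsg.Agent.Lib.Helper9.PPrimeCoreSub
import Cfsg.Agent.Lib.Helper22.PPrimeCore
import Cfsg.Agent.Lib.Helper14.Basic

/-! S4415 design (helper12), piece GQK.  See plans/S4415_plan.md. -/

set_option autoImplicit false
set_option linter.style.haveILetI false

namespace Cfsg.Agent.Helper12.S15

/-- `[q,b] ∈ O_{3'}(S)` for `q ∈ Q`: in `S̄ = S/O_{3'}(S)` the image of `B = Z(P)` centralises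
`O_3(S̄) ≤ P̄`, hence lies in `O_3(S̄)` (Hall-Higman 1.2.3:
`Cfsg.Agent.Helper16...centralizer_pCore_le_of_isSolvable` in Lib/Helper16/Solvable2.lean, with
`Cfsg.Agent.Helper23.PSolv.pPrimeCore_quotient_pPrimeCore`); so the image of `q⁻¹ (b q b⁻¹)` is a
`3`-element of the `2`-group `Q̄`, hence trivial. -/
theorem g_comm_mem {S : Type*} [Group S] [Finite S] [Group.IsSolvable S]
    (B : Subgroup S) (hB : Nat.card ↥B = 3) (b : S) (hb : Subgroup.zpowers b = B)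
    (Q : Subgroup S) (hQ4 : Nat.card ↥Q = 4)
    (hBQ : B ≤ Subgroup.normalizer (Q : Set S))
    (P : Sylow 3 S)
    (hBZ : (Subgroup.center ↥(P : Subgroup S)).map (P : Subgroup S).subtype = B) :
    ∀ q ∈ Q, q⁻¹ * (b * q * b⁻¹) ∈ Cfsg.pPrimeCore 3 S := by
  haveI : Fact (Nat.Prime 3) := ⟨Nat.prime_three⟩
  haveI hKn : (Cfsg.pPrimeCore 3 S).Normal := Cfsg.Agent.Helper22.pPrimeCore_normal 3
  have hbB : b ∈ B := by rw [← hb]; exact Subgroup.mem_zpowers b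
  have hbn : b ∈ Subgroup.normalizer (Q : Set S) := hBQ hbB
  set π := QuotientGroup.mk' (Cfsg.pPrimeCore 3 S) with hπ
  have hπs : Function.Surjective π := QuotientGroup.mk'_surjective _
  have hsolq : Group.IsSolvable (S ⧸ Cfsg.pPrimeCore 3 S) := Group.isSolvable_of_surjective hπs
  have hO : Cfsg.pPrimeCore 3 (S ⧸ Cfsg.pPrimeCore 3 S) = ⊥ :=
    Cfsg.Agent.Helper9.pPrimeCore_quotient_eq_bot 3
  have hHH := Cfsg.Agent.Helper16.centralizer_pCore_le_of_isSolvable 3 hsolq hO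
  have hbP : ∃ z : (P : Subgroup S), z ∈ Subgroup.center ↥(P : Subgroup S) ∧ (z : S) = b := by
    rw [← hBZ] at hbB
    obtain ⟨z, hz, hzb⟩ := Subgroup.mem_map.mp hbB
    exact ⟨z, hz, hzb⟩
  obtain ⟨z, hz, hzb⟩ := hbP
  have hbcent : π b ∈ Subgroup.centralizer
      (Cfsg.pCore 3 (S ⧸ Cfsg.pPrimeCore 3 S) : Set (S ⧸ Cfsg.pPrimeCore 3 S)) := by
    rw [Subgroup.mem_centralizer_iff]
    intro y hy
    have hyP : y ∈ ((P.mapSurjective hπs : Sylow 3 (S ⧸ Cfsg.pPrimeCore 3 S)) :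
        Subgroup (S ⧸ Cfsg.pPrimeCore 3 S)) :=
      Cfsg.Agent.Helper14.pCore_le_sylow _ hy
    rw [Sylow.coe_mapSurjective] at hyP
    obtain ⟨x, hxP, rfl⟩ := Subgroup.mem_map.mp hyP
    have hc : (⟨x, hxP⟩ : (P : Subgroup S)) * z = z * ⟨x, hxP⟩ :=
      (Subgroup.mem_center_iff.mp hz ⟨x, hxP⟩)
    have hc' : x * b = b * x := by
      have := congrArg Subtype.val hc
      simpa [hzb] using this
    rw [← map_mul, ← map_mul, hc']
  have hbO : π b ∈ Cfsg.pCore 3 (S ⧸ Cfsg.pPrimeCore 3 S) := hHH hbcent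
  have hOn : (Cfsg.pCore 3 (S ⧸ Cfsg.pPrimeCore 3 S)).Normal :=
    Subgroup.sSup_normal _ (fun _ hK => hK.1)
  have hOp : IsPGroup 3 (Cfsg.pCore 3 (S ⧸ Cfsg.pPrimeCore 3 S)) :=
    Cfsg.Agent.Helper14.pCore_isPGroup 3 _
  intro q hq
  have hxQ : q⁻¹ * (b * q * b⁻¹) ∈ Q :=
    Q.mul_mem (Q.inv_mem hq) ((Subgroup.mem_normalizer_iff.mp hbn q).mp hq)
  have hπx : π (q⁻¹ * (b * q * b⁻¹)) ∈ Cfsg.pCore 3 (S ⧸ Cfsg.pPrimeCore 3 S) := by
    have h1 : π (q⁻¹ * (b * q * b⁻¹)) = ((π q)⁻¹ * π b * (π q)⁻¹⁻¹) * (π b)⁻¹ := by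
      simp only [map_mul, map_inv, inv_inv, mul_assoc]
    rw [h1]
    apply Subgroup.mul_mem _ _ (Subgroup.inv_mem _ hbO)
    exact hOn.conj_mem _ hbO _
  have hx4 : (q⁻¹ * (b * q * b⁻¹)) ^ 4 = 1 := by
    have h := pow_card_eq_one' (G := Q) (x := ⟨_, hxQ⟩)
    rw [hQ4] at h
    exact congrArg Subtype.val h
  have hπ4 : (π (q⁻¹ * (b * q * b⁻¹))) ^ 4 = 1 := by
    rw [← map_pow, hx4, map_one]
  obtain ⟨k, hk⟩ := hOp ⟨_, hπx⟩
  have hk' : (π (q⁻¹ * (b * q * b⁻¹))) ^ (3 ^ k) = 1 := by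
    have := congrArg Subtype.val hk
    simpa using this
  have h1 : π (q⁻¹ * (b * q * b⁻¹)) = 1 := by
    have hcop : Nat.Coprime 4 (3 ^ k) := by
      apply Nat.Coprime.pow_right
      norm_num
    have hord1 := orderOf_dvd_of_pow_eq_one hπ4
    have hord2 := orderOf_dvd_of_pow_eq_one hk'
    have : orderOf (π (q⁻¹ * (b * q * b⁻¹))) = 1 := Nat.eq_one_of_dvd_coprimes hcop hord1 hord2
    exact orderOf_eq_one_iff.mp this
  have : q⁻¹ * (b * q * b⁻¹) ∈ (π).ker := MonoidHom.mem_ker.mpr h1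
  rwa [hπ, QuotientGroup.ker_mk'] at this

end Cfsg.Agent.Helper12.S15
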