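import Mathlib
import Cfsg.Agent.Lib.S15.S15Defs
import Cfsg.Agent.Lib.S15.GQGRP
import Cfsg.Agent.Lib.S15.GQK
import Cfsg.Agent.Lib.Helper22.NGQleK

/-! S4415 design (helper12), piece GQR.  See plans/S4415_plan.md. -/

set_option autoImplicit false

namespace Cfsg.Agent.Helper12.S15

/-- `Q ≤ [O_{3'}(S), B]` -/
theorem g_Q_le {S : Type*} [Group S] [Finite S] [Group.IsSolvable S]
    (B : Subgroup S) (hB : Nat.card ↥B = 3) (b : S) (hb : Subgroup.zpowers b = B)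
    (Q : Subgroup S) (hQ : Cfsg.IsElementaryAbelian 2 Q) (hQ4 : Nat.card ↥Q = 4)
    (hBQ : B ≤ Subgroup.normalizer (Q : Set S)) (hBQ' : ¬ B ≤ Subgroup.centralizer (Q : Set S))
    (P : Sylow 3 S)
    (hBZ : (Subgroup.center ↥(P : Subgroup S)).map (P : Subgroup S).subtype = B) :
    Q ≤ ⁅Cfsg.pPrimeCore 3 S, B⁆ :=
  (Cfsg.Agent.Helper22.NGQleK.r_facts B Q hQ hQ4 hB hBQ hBQ' P hBZ).1

end Cfsg.Agent.Helper12.S15
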