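import Mathlib
import Cfsg.Agent.Lib.S15.S15Defs
import Cfsg.Agent.Lib.Helper22.NGJordan

/-! S4415 design (helper12), piece GRANK.  See plans/S4415_plan.md. -/

set_option autoImplicit false

namespace Cfsg.Agent.Helper12.S15

/-- `rank (b-1) = 2`: `range (b-1) = (b-1)E₀`, and `E₀ ⊋ (b-1)E₀ ⊋ (b-1)²E₀ ⊋ 0` with `|E₀| = 27`. -/
theorem g_rank {S : Type*} [Group S] {E : Type*} [AddCommGroup E] [Module (ZMod 3) E] [Finite E]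
    (ρ : Representation (ZMod 3) S E) (b : S) (hb3 : b ^ 3 = 1)
    (E₀ E₁ : Submodule (ZMod 3) E) (hE01 : E₀ ⊓ E₁ = ⊥) (hE01' : E₀ ⊔ E₁ = ⊤)
    (hE1 : ∀ v ∈ E₁, ρ b v = v) (hE0inv : ∀ v ∈ E₀, ρ b v ∈ E₀) (hE0 : Nat.card ↥E₀ = 27)
    (hind : ∃ v ∈ E₀, ρ b (ρ b v - v) - (ρ b v - v) ≠ 0) :
    Nat.card ↥(LinearMap.range (ρ b - 1)) = 9 := by
  have hT : ρ b * ρ b * ρ b = 1 := by
    rw [← map_mul, ← map_mul, ← pow_three', hb3, map_one]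
  exact (Cfsg.Agent.Helper22.NGJ.JD.of_frozen (ρ b) hT E₀ E₁ hE01' hE1 hE0inv hE0 hind).card_range.1

end Cfsg.Agent.Helper12.S15
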