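import Mathlib
import Cfsg.Agent.Lib.S15.S15Defs
import Cfsg.Agent.Lib.S15.GRANK
import Cfsg.Agent.Lib.S15.GQR
import Cfsg.Agent.Lib.S15.GGEN
import Cfsg.Agent.Lib.S15.GCOMM

/-! S4415 block G: the global reduction.  plans/S4415_plan.md §G -/

set_option autoImplicit false

namespace Cfsg.Agent.Helper12.S15

theorem g_main {S : Type*} [Group S] [Finite S]
    [Group.IsSolvable S] {E : Type*} [AddCommGroup E] [Module (ZMod 3) E] [Finite E]
    (ρ : Representation (ZMod 3) S E)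
    (hfaith : Function.Injective ρ) (hO3 : Cfsg.pCore 3 S = ⊥)
    (B : Subgroup S) (hB : Nat.card ↥B = 3) (b : S) (hb : Subgroup.zpowers b = B)
    (E₀ E₁ : Submodule (ZMod 3) E) (hE01 : E₀ ⊓ E₁ = ⊥) (hE01' : E₀ ⊔ E₁ = ⊤)
    (hE1 : ∀ v ∈ E₁, ρ b v = v) (hE0inv : ∀ v ∈ E₀, ρ b v ∈ E₀) (hE0 : Nat.card ↥E₀ = 27)
    (hind : ∃ v ∈ E₀, ρ b (ρ b v - v) - (ρ b v - v) ≠ 0)
    (Q : Subgroup S) (hQ : Cfsg.IsElementaryAbelian 2 Q) (hQ4 : Nat.card ↥Q = 4)
    (hBQ : B ≤ Subgroup.normalizer (Q : Set S)) (hBQ' : ¬ B ≤ Subgroup.centralizer (Q : Set S))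
    (P : Sylow 3 S)
    (hBZ : (Subgroup.center ↥(P : Subgroup S)).map (P : Subgroup S).subtype = B) :
    Setting ρ b ⁅Cfsg.pPrimeCore 3 S, B⁆ Q := by
  have hbB : b ∈ B := by rw [← hb]; exact Subgroup.mem_zpowers b
  have hb3 : b ^ 3 = 1 := by
    have h := pow_card_eq_one' (G := B) (x := ⟨b, hbB⟩)
    rw [hB] at h
    exact congrArg Subtype.val h
  obtain ⟨hcop, hbR, hcomm⟩ := g_comm B hB b hb
  refine
    { faith := ?_
      b3 := hb3
      rk := g_rank ρ b hb3 E₀ E₁ hE01 hE01' hE1 hE0inv hE0 hind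
      sq := ?_
      cop := hcop
      solv := inferInstance
      bR := hbR
      gen := g_gen b _ hbR hcomm
      QR := g_Q_le B hB b hb Q hQ hQ4 hBQ hBQ' P hBZ
      Q4 := hQ4
      Q2 := hQ.2
      bQ := ?_
      bQ' := ?_ }
  · intro x _ hx
    apply hfaith
    rw [hx, map_one]
  · obtain ⟨v, _, hv⟩ := hind
    refine ⟨v, ?_⟩
    simpa only [LinearMap.sub_apply, Module.End.one_apply] using hv
  · intro q hq
    exact (Subgroup.mem_normalizer_iff.mp (hBQ hbB) q).mp hq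
  · by_contra hcon
    push Not at hcon
    apply hBQ'
    rw [← hb, Subgroup.zpowers_le, Subgroup.mem_centralizer_iff]
    intro q hq
    have := hcon q hq
    calc q * b = (b * q * b⁻¹) * b := by rw [this]
      _ = b * q := by group

end Cfsg.Agent.Helper12.S15
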