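import Mathlib
import Cfsg.Agent.Lib.S15.S15Defs

/-! S4415 design (helper12), piece K2A.  See plans/S4415_plan.md. -/

set_option autoImplicit false

namespace Cfsg.Agent.Helper12.S15

theorem k2a_add_decomp {H : Type*} [AddCommGroup H] (x y z w : H) :
    4 • x = (x + y + z + w) + (x + y + -z + -w) + (x + -y + z + -w) + (x + -y + -z + w) := by
  abel

theorem k2a_mul_decomp {G : Type*} [CommGroup G] (x y z w : G) :
    x ^ 4 = (x * y * z * w) * (x * y * z⁻¹ * w⁻¹) * (x * y⁻¹ * z * w⁻¹) * (x * y⁻¹ * z⁻¹ * w) :=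
  congrArg Additive.toMul
    (k2a_add_decomp (Additive.ofMul x) (Additive.ofMul y) (Additive.ofMul z) (Additive.ofMul w))

theorem k2a_perm_a {G : Type*} [CommGroup G] (x y z w : G) : y * x * w * z = x * y * z * w := by
  simp only [mul_comm, mul_left_comm, mul_assoc]

theorem k2a_perm_b {G : Type*} [CommGroup G] (x y z w : G) : z * w * x * y = x * y * z * w := by
  simp only [mul_comm, mul_left_comm, mul_assoc]

theorem k2a_perm_c {G : Type*} [CommGroup G] (x y z w : G) : w * z * y * x = x * y * z * w := by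
  simp only [mul_comm, mul_left_comm, mul_assoc]

/-- the four-group decomposition `a⁴ = a₀ a₁ a₂ a₃` in an abelian group `A` normalised by `Q` -/
theorem k2_decomp {S : Type*} [Group S] (A : Subgroup S)
    (hAc : ∀ a ∈ A, ∀ a' ∈ A, a * a' = a' * a) (q₁ q₂ q₃ : S)
    (hn₁ : ∀ a ∈ A, q₁ * a * q₁⁻¹ ∈ A) (hn₂ : ∀ a ∈ A, q₂ * a * q₂⁻¹ ∈ A)
    (h1 : q₁ * q₁ = 1) (h2 : q₂ * q₂ = 1) (h12 : q₁ * q₂ = q₃) (h21 : q₂ * q₁ = q₃)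
    (a : S) (ha : a ∈ A) :
    ∃ a₀ ∈ A, ∃ a₁ ∈ A, ∃ a₂ ∈ A, ∃ a₃ ∈ A, a ^ 4 = a₀ * a₁ * a₂ * a₃ ∧
      q₁ * a₀ = a₀ * q₁ ∧ q₂ * a₀ = a₀ * q₂ ∧
      q₁ * a₁ = a₁ * q₁ ∧ q₂ * a₂ = a₂ * q₂ ∧ q₃ * a₃ = a₃ * q₃ := by
  letI : CommGroup ↥A :=
    { (inferInstance : Group ↥A) with mul_comm := fun x y => Subtype.ext (hAc x x.2 y y.2) }
  -- the two conjugation maps on `A`
  let φ₁ : ↥A →* ↥A :=
    { toFun := fun x => ⟨q₁ * x * q₁⁻¹, hn₁ x x.2⟩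
      map_one' := Subtype.ext (by simp)
      map_mul' := fun x y => Subtype.ext (by
        show q₁ * ((x : S) * (y : S)) * q₁⁻¹ = q₁ * x * q₁⁻¹ * (q₁ * y * q₁⁻¹)
        group) }
  let φ₂ : ↥A →* ↥A :=
    { toFun := fun x => ⟨q₂ * x * q₂⁻¹, hn₂ x x.2⟩
      map_one' := Subtype.ext (by simp)
      map_mul' := fun x y => Subtype.ext (by
        show q₂ * ((x : S) * (y : S)) * q₂⁻¹ = q₂ * x * q₂⁻¹ * (q₂ * y * q₂⁻¹)
        group) }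
  have hφ₁ : ∀ x : ↥A, ((φ₁ x : ↥A) : S) = q₁ * x * q₁⁻¹ := fun x => rfl
  have hφ₂ : ∀ x : ↥A, ((φ₂ x : ↥A) : S) = q₂ * x * q₂⁻¹ := fun x => rfl
  have hq₁i : q₁⁻¹ = q₁ := inv_eq_of_mul_eq_one_left h1
  have hq₂i : q₂⁻¹ = q₂ := inv_eq_of_mul_eq_one_left h2
  have h11 : ∀ x : ↥A, φ₁ (φ₁ x) = x := by
    intro x
    apply Subtype.ext
    rw [hφ₁, hφ₁, hq₁i]
    calc q₁ * (q₁ * (x : S) * q₁) * q₁ = (q₁ * q₁) * x * (q₁ * q₁) := by group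
      _ = x := by rw [h1, one_mul, mul_one]
  have h22 : ∀ x : ↥A, φ₂ (φ₂ x) = x := by
    intro x
    apply Subtype.ext
    rw [hφ₂, hφ₂, hq₂i]
    calc q₂ * (q₂ * (x : S) * q₂) * q₂ = (q₂ * q₂) * x * (q₂ * q₂) := by group
      _ = x := by rw [h2, one_mul, mul_one]
  have h21' : ∀ x : ↥A, φ₂ (φ₁ x) = φ₁ (φ₂ x) := by
    intro x
    apply Subtype.ext
    rw [hφ₂, hφ₁, hφ₁, hφ₂, hq₁i, hq₂i]
    calc q₂ * (q₁ * (x : S) * q₁) * q₂ = (q₂ * q₁) * x * (q₁ * q₂) := by group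
      _ = (q₁ * q₂) * x * (q₂ * q₁) := by rw [h21, h12]
      _ = q₁ * (q₂ * (x : S) * q₂) * q₁ := by group
  have h3 : ∀ x : ↥A, ((φ₁ (φ₂ x) : ↥A) : S) = q₃ * x * q₃⁻¹ := by
    intro x
    rw [hφ₁, hφ₂, ← h12]
    group
  have fix₁ : ∀ y : ↥A, φ₁ y = y → q₁ * (y : S) = y * q₁ := by
    intro y hy
    have := congrArg Subtype.val hy
    rw [hφ₁] at this
    exact mul_inv_eq_iff_eq_mul.mp this
  have fix₂ : ∀ y : ↥A, φ₂ y = y → q₂ * (y : S) = y * q₂ := by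
    intro y hy
    have := congrArg Subtype.val hy
    rw [hφ₂] at this
    exact mul_inv_eq_iff_eq_mul.mp this
  have fix₃ : ∀ y : ↥A, φ₁ (φ₂ y) = y → q₃ * (y : S) = y * q₃ := by
    intro y hy
    have := congrArg Subtype.val hy
    rw [h3] at this
    exact mul_inv_eq_iff_eq_mul.mp this
  set x : ↥A := ⟨a, ha⟩ with hx
  set x₁ : ↥A := φ₁ x with hx₁
  set x₂ : ↥A := φ₂ x with hx₂
  set x₃ : ↥A := φ₁ (φ₂ x) with hx₃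
  have e11 : φ₁ x₁ = x := h11 x
  have e12 : φ₁ x₂ = x₃ := rfl
  have e13 : φ₁ x₃ = x₂ := h11 _
  have e21 : φ₂ x₁ = x₃ := h21' x
  have e22 : φ₂ x₂ = x := h22 x
  have e23 : φ₂ x₃ = x₁ := by
    rw [hx₃, ← h21', h22]
  refine ⟨(x * x₁ * x₂ * x₃ : ↥A), (x * x₁ * x₂ * x₃ : ↥A).2,
    (x * x₁ * x₂⁻¹ * x₃⁻¹ : ↥A), (x * x₁ * x₂⁻¹ * x₃⁻¹ : ↥A).2,
    (x * x₁⁻¹ * x₂ * x₃⁻¹ : ↥A), (x * x₁⁻¹ * x₂ * x₃⁻¹ : ↥A).2,
    (x * x₁⁻¹ * x₂⁻¹ * x₃ : ↥A), (x * x₁⁻¹ * x₂⁻¹ * x₃ : ↥A).2, ?_, ?_, ?_, ?_, ?_, ?_⟩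
  · have := congrArg Subtype.val (k2a_mul_decomp x x₁ x₂ x₃)
    exact this
  · apply fix₁
    rw [map_mul, map_mul, map_mul, e11, e12, e13, ← hx₁]
    exact k2a_perm_a x x₁ x₂ x₃
  · apply fix₂
    rw [map_mul, map_mul, map_mul, e21, e22, e23, ← hx₂]
    exact k2a_perm_b x x₁ x₂ x₃
  · apply fix₁
    rw [map_mul, map_mul, map_mul, map_inv, map_inv, e11, e12, e13, ← hx₁]
    exact k2a_perm_a x x₁ x₂⁻¹ x₃⁻¹
  · apply fix₂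
    rw [map_mul, map_mul, map_mul, map_inv, map_inv, e21, e22, e23, ← hx₂]
    exact k2a_perm_b x x₁⁻¹ x₂ x₃⁻¹
  · apply fix₃
    have e31 : φ₁ (φ₂ x₁) = x₂ := by rw [e21, e13]
    have e32 : φ₁ (φ₂ x₂) = x₁ := by rw [e22]
    have e33 : φ₁ (φ₂ x₃) = x := by rw [e23, e11]
    have e30 : φ₁ (φ₂ x) = x₃ := rfl
    simp only [map_mul, map_inv, e30, e31, e32, e33]
    exact k2a_perm_c x x₁⁻¹ x₂⁻¹ x₃

end Cfsg.Agent.Helper12.S15
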