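import Mathlib
import Cfsg.Agent.Lib.S15.S15Defs

/-! S4415 design (helper12), piece ODDSMALL.  See plans/S4415_plan.md. -/

set_option autoImplicit false

namespace Cfsg.Agent.Helper12.S15

/-- an operator of odd order prime to 3 acts trivially on an invariant subspace with at most 9
elements (`|GL₂(3)| = 48`, or orbit counting on the non-zero vectors) -/
theorem odd_small {E : Type*} [AddCommGroup E] [Module (ZMod 3) E] [Finite E]
    (g : Module.End (ZMod 3) E) (m : ℕ) (hm : Odd m) (hm3 : m.Coprime 3) (hg : g ^ m = 1)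
    (P : Submodule (ZMod 3) E) (hP : Nat.card ↥P ≤ 9) (hgP : ∀ v ∈ P, g v ∈ P) :
    ∀ v ∈ P, g v = v := by
  intro v hv
  by_contra hne
  -- g is injective
  have hinj : Function.Injective g := by
    intro x y hxy
    have h1 : (g ^ m) x = (g ^ m) y := by
      obtain ⟨k, rfl⟩ := hm
      rw [pow_succ, Module.End.mul_apply, Module.End.mul_apply, hxy]
    rw [hg] at h1
    simpa using h1
  have hpowinj : ∀ n : ℕ, Function.Injective (g ^ n) := by
    intro n
    induction n with
    | zero => rw [pow_zero]; exact fun x y h => by simpa using h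
    | succ n ih =>
      rw [pow_succ]
      intro x y h
      rw [Module.End.mul_apply, Module.End.mul_apply] at h
      exact hinj (ih h)
  have hpowP : ∀ n : ℕ, (g ^ n) v ∈ P := by
    intro n
    induction n with
    | zero => simpa using hv
    | succ n ih =>
      rw [pow_succ', Module.End.mul_apply]
      exact hgP _ ih
  have hv0 : v ≠ 0 := by
    rintro rfl
    exact hne (map_zero g)
  have hneg : v ≠ -v := by
    intro h
    have h2 : (2 : ZMod 3) • v = 0 := by
      rw [two_smul]
      nth_rewrite 1 [h]
      exact neg_add_cancel v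
    have h3 : (2 : ZMod 3) • ((2 : ZMod 3) • v) = v := by
      rw [smul_smul]
      have : (2 : ZMod 3) * 2 = 1 := by decide
      rw [this, one_smul]
    rw [h2, smul_zero] at h3
    exact hv0 h3.symm
  -- minimal period
  set d := Function.minimalPeriod g v with hd
  have hper : Function.IsPeriodicPt g m v := by
    show g^[m] v = v
    rw [← Module.End.pow_apply, hg]; rfl
  have hdm : d ∣ m := hper.minimalPeriod_dvd
  have hmpos : 0 < m := hm.pos
  have hdpos : 0 < d := hper.minimalPeriod_pos hmpos
  have hd1 : d ≠ 1 := by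
    intro h
    have := (Function.minimalPeriod_eq_one_iff_isFixedPt).1 h
    exact hne this
  have hdodd : Odd d := hm.of_dvd_nat hdm
  have hd3 : d.Coprime 3 := Nat.Coprime.coprime_dvd_left hdm hm3
  have hd5 : 5 ≤ d := by
    by_contra hlt
    have hlt : d < 5 := Nat.lt_of_not_le hlt
    interval_cases d
    · exact hd1 rfl
    · exact absurd hdodd (by decide)
    · exact absurd hd3 (by decide)
    · exact absurd hdodd (by decide)
  -- key: g^k v = v -> d ∣ k
  have hdvd : ∀ k : ℕ, (g ^ k) v = v → d ∣ k := by
    intro k hk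
    have : Function.IsPeriodicPt g k v := by
      show g^[k] v = v
      rw [← Module.End.pow_apply]; exact hk
    exact this.minimalPeriod_dvd
  -- g^k v = - v impossible for k < d
  have hnoneg : ∀ k : ℕ, k < d → (g ^ k) v ≠ -v := by
    intro k hk h
    have h2 : (g ^ (2 * k)) v = v := by
      rw [two_mul, pow_add, Module.End.mul_apply, h, map_neg, h, neg_neg]
    have h3 : d ∣ 2 * k := hdvd _ h2
    have h4 : d ∣ k := (Nat.Coprime.dvd_mul_left (hdodd.coprime_two_right)).1 h3
    have h5 : k = 0 := Nat.eq_zero_of_dvd_of_lt h4 hk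
    subst h5
    rw [pow_zero] at h
    exact hneg (by simpa using h)
  -- the map (s, i) ↦ ± g^i v is injective into P
  let φ : Bool × Fin d → ↥P := fun p =>
    if p.1 then ⟨(g ^ (p.2 : ℕ)) v, hpowP _⟩ else ⟨-(g ^ (p.2 : ℕ)) v, P.neg_mem (hpowP _)⟩
  have hsame : ∀ i j : ℕ, i < d → j < d → (g ^ i) v = (g ^ j) v → i = j := by
    intro i j hi hj h
    wlog hij : i ≤ j generalizing i j
    · exact (this j i hj hi h.symm (le_of_not_ge hij)).symm
    obtain ⟨k, rfl⟩ := Nat.exists_eq_add_of_le hij
    rw [pow_add, Module.End.mul_apply] at h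
    have h1 : (g ^ k) v = v := (hpowinj i h).symm
    have h2 : d ∣ k := hdvd k h1
    have h3 : k = 0 := Nat.eq_zero_of_dvd_of_lt h2 (by omega)
    omega
  have hdiff : ∀ i j : ℕ, i < d → j < d → (g ^ i) v ≠ -(g ^ j) v := by
    intro i j hi hj h
    rcases le_total i j with hij | hij
    · obtain ⟨k, rfl⟩ := Nat.exists_eq_add_of_le hij
      rw [pow_add, Module.End.mul_apply, ← map_neg] at h
      have h1 : v = -(g ^ k) v := hpowinj i h
      have h2 : (g ^ k) v = -v := neg_eq_iff_eq_neg.mp h1.symm
      exact hnoneg k (by omega) h2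
    · obtain ⟨k, rfl⟩ := Nat.exists_eq_add_of_le hij
      rw [pow_add, Module.End.mul_apply, ← map_neg] at h
      have h1 : (g ^ k) v = -v := hpowinj j h
      exact hnoneg k (by omega) h1
  have hφ : Function.Injective φ := by
    rintro ⟨s, i⟩ ⟨t, j⟩ h
    cases s <;> cases t <;> simp only [φ, Subtype.mk.injEq, Bool.false_eq_true, if_false, if_true] at h
    · have := hsame i j i.2 j.2 (neg_injective h)
      simp [Fin.ext this]
    · exact absurd h.symm (hdiff j i j.2 i.2)
    · exact absurd h (hdiff i j i.2 j.2)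
    · have := hsame i j i.2 j.2 h
      simp [Fin.ext this]
  have hcard : Nat.card (Bool × Fin d) ≤ Nat.card ↥P := Nat.card_le_card_of_injective φ hφ
  rw [Nat.card_prod, Nat.card_eq_fintype_card, Nat.card_eq_fintype_card, Fintype.card_bool,
    Fintype.card_fin] at hcard
  omega

end Cfsg.Agent.Helper12.S15
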