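import Mathlib
import Cfsg.Agent.Lib.S15.S15Defs
import Cfsg.Agent.Lib.S15.ODDSMALL
import Cfsg.Agent.Lib.S15.LONEOP
import Cfsg.Agent.Lib.S15.LFTAB
import Cfsg.Agent.Lib.S15.LFDEC
import Cfsg.Agent.Lib.S15.LFIND

/-! S4415 design (helper12), piece K2B.  See plans/S4415_plan.md. -/

set_option autoImplicit false

namespace Cfsg.Agent.Helper12.S15

/-- a subspace all of whose vectors are combinations of two fixed vectors has at most 9 elements -/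
theorem k2b_card_le {E : Type*} [AddCommGroup E] [Module (ZMod 3) E] [Finite E]
    (P : Submodule (ZMod 3) E) (p₁ p₂ : E)
    (hP : ∀ v ∈ P, ∃ x y : ZMod 3, v = x • p₁ + y • p₂) : Nat.card ↥P ≤ 9 := by
  classical
  choose! fx fy hf using hP
  have hinj : Function.Injective (fun v : ↥P => ((fx v.1, fy v.1) : ZMod 3 × ZMod 3)) := by
    intro v w hvw
    simp only [Prod.mk.injEq] at hvw
    apply Subtype.ext
    calc v.1 = fx v.1 • p₁ + fy v.1 • p₂ := hf v.1 v.2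
      _ = fx w.1 • p₁ + fy w.1 • p₂ := by rw [hvw.1, hvw.2]
      _ = w.1 := (hf w.1 w.2).symm
  have h1 := Nat.card_le_card_of_injective _ hinj
  have h9 : Nat.card (ZMod 3 × ZMod 3) = 9 := by
    rw [Nat.card_prod, Nat.card_zmod]
  omega

theorem k2b_two_ne : (2 : ZMod 3) ≠ 0 := by decide

theorem k2b_two_mul_eq_zero (y : ZMod 3) (hy : 2 * y = 0) : y = 0 := by
  revert hy
  revert y
  decide

/-- a vector fixed by `q₁` is moved by `q₂` along `e₁` -/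
theorem k2b_fix_q1 {S : Type*} [Group S] [Finite S] {E : Type*} [AddCommGroup E]
    [Module (ZMod 3) E] [Finite E] (ρ : Representation (ZMod 3) S E) (b : S) (R Q : Subgroup S)
    (h : Setting ρ b R Q) (q₁ q₂ q₃ : S) (e₁ e₂ e₃ : E) (f : QFrame ρ b Q q₁ q₂ q₃ e₁ e₂ e₃)
    (v : E) (hv : ρ q₁ v = v) : ∃ x : ZMod 3, ρ q₂ v - v = x • e₁ := by
  obtain ⟨t31, t12, t22, t32, t13, t23, t33, he2, he3⟩ :=
    frame_table ρ b R Q h q₁ q₂ q₃ e₁ e₂ e₃ f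
  obtain ⟨w, hw, x, y, z, rfl⟩ := frame_decomp ρ b R Q h q₁ q₂ q₃ e₁ e₂ e₃ f v
  have hq1w : ρ q₁ w = w := (mem_fixS ρ Q w).mp hw q₁ f.q₁Q
  have hq2w : ρ q₂ w = w := (mem_fixS ρ Q w).mp hw q₂ f.q₂Q
  simp only [map_add, map_smul, hq1w, f.q₁e₁, t12, t13, smul_neg] at hv
  have h0 : (0 : E) + (0 : ZMod 3) • e₁ + (2 * y) • e₂ + (2 * z) • e₃ = 0 := by
    have h1 := sub_eq_zero.mpr hv.symm
    have h2 : (0 : E) + (0 : ZMod 3) • e₁ + (2 * y) • e₂ + (2 * z) • e₃ =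
        (w + x • e₁ + y • e₂ + z • e₃) - (w + x • e₁ + -(y • e₂) + -(z • e₃)) := by module
    rw [h2, h1]
  obtain ⟨-, -, hy, hz⟩ := frame_indep ρ b R Q h q₁ q₂ q₃ e₁ e₂ e₃ f 0
    (Submodule.zero_mem _) 0 (2 * y) (2 * z) h0
  have hy0 : y = 0 := k2b_two_mul_eq_zero y hy
  have hz0 : z = 0 := k2b_two_mul_eq_zero z hz
  subst hy0
  subst hz0
  refine ⟨-2 * x, ?_⟩
  simp only [map_add, map_smul, hq2w, f.q₂e₁, zero_smul, add_zero, smul_neg]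
  module

/-- a vector negated by `q₁` lies in `⟨e₂, e₃⟩` -/
theorem k2b_neg_q1 {S : Type*} [Group S] [Finite S] {E : Type*} [AddCommGroup E]
    [Module (ZMod 3) E] [Finite E] (ρ : Representation (ZMod 3) S E) (b : S) (R Q : Subgroup S)
    (h : Setting ρ b R Q) (q₁ q₂ q₃ : S) (e₁ e₂ e₃ : E) (f : QFrame ρ b Q q₁ q₂ q₃ e₁ e₂ e₃)
    (v : E) (hv : ρ q₁ v = -v) : ∃ y z : ZMod 3, v = y • e₂ + z • e₃ := by
  obtain ⟨t31, t12, t22, t32, t13, t23, t33, he2, he3⟩ :=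
    frame_table ρ b R Q h q₁ q₂ q₃ e₁ e₂ e₃ f
  obtain ⟨w, hw, x, y, z, rfl⟩ := frame_decomp ρ b R Q h q₁ q₂ q₃ e₁ e₂ e₃ f v
  have hq1w : ρ q₁ w = w := (mem_fixS ρ Q w).mp hw q₁ f.q₁Q
  simp only [map_add, map_smul, hq1w, f.q₁e₁, t12, t13, smul_neg] at hv
  have h0 : (2 : ZMod 3) • w + (2 * x) • e₁ + (0 : ZMod 3) • e₂ + (0 : ZMod 3) • e₃ = 0 := by
    have h1 := sub_eq_zero.mpr hv
    have h2 : (2 : ZMod 3) • w + (2 * x) • e₁ + (0 : ZMod 3) • e₂ + (0 : ZMod 3) • e₃ =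
        (w + x • e₁ + -(y • e₂) + -(z • e₃)) - -(w + x • e₁ + y • e₂ + z • e₃) := by module
    rw [h2, h1]
  obtain ⟨hw0, hx, -, -⟩ := frame_indep ρ b R Q h q₁ q₂ q₃ e₁ e₂ e₃ f ((2 : ZMod 3) • w)
    ((fixS ρ Q).smul_mem (2 : ZMod 3) hw) (2 * x) 0 0 h0
  have hx0 : x = 0 := k2b_two_mul_eq_zero x hx
  have hw1 : w = 0 := by
    have h22 : (2 * 2 : ZMod 3) = 1 := by decide
    calc w = (2 * 2 : ZMod 3) • w := by rw [h22, one_smul]
      _ = (2 : ZMod 3) • ((2 : ZMod 3) • w) := by rw [smul_smul]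
      _ = 0 := by rw [hw0, smul_zero]
  refine ⟨y, z, ?_⟩
  rw [hw1, hx0, zero_smul, add_zero, zero_add]

/-- the key step of Lemma O: an element `a` of the odd-order abelian normal subgroup `A` commuting
with `q₁` commutes with `q₂`.  `u = (a q₂ a⁻¹) q₂ ∈ A` is a product of two conjugate (under
`C(q₁)`) involutions; it is trivial on `ker (q₁+1) = ⟨e₂,e₃⟩` (odd_small) and
`(u-1) ker (q₁-1) ⊆ ⟨ρ(a q₂ a⁻¹) e₁, ρ a e₁⟩`, so `range (u-1)` has at most 9 elements, `u` is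
trivial on it (odd_small), hence `u = 1` (oneop). -/
theorem k2_key {S : Type*} [Group S] [Finite S] {E : Type*} [AddCommGroup E]
    [Module (ZMod 3) E] [Finite E] (ρ : Representation (ZMod 3) S E) (b : S) (R Q : Subgroup S) (h : Setting ρ b R Q) (q₁ q₂ q₃ : S) (e₁ e₂ e₃ : E) (f : QFrame ρ b Q q₁ q₂ q₃ e₁ e₂ e₃) (A : Subgroup S) (hAR : A ≤ R)
    (hAn : XNormal b R A) (hAc : ∀ a ∈ A, ∀ a' ∈ A, a * a' = a' * a) (hodd : Odd (Nat.card ↥A))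
    (a : S) (ha : a ∈ A) (hq₁a : q₁ * a = a * q₁) : q₂ * a = a * q₂ := by
  have hq2sq : q₂ * q₂ = 1 := by
    have h1 := h.Q2 q₂ f.q₂Q
    rwa [pow_two] at h1
  have hq1sq : q₁ * q₁ = 1 := by
    have h1 := h.Q2 q₁ f.q₁Q
    rwa [pow_two] at h1
  have hq2inv : q₂⁻¹ = q₂ := inv_eq_of_mul_eq_one_right hq2sq
  have hq12 : q₁ * q₂ = q₂ * q₁ := by rw [f.q12, f.q21]
  have hq2X : q₂ ∈ R ⊔ Subgroup.zpowers b := (le_sup_left : R ≤ _) (h.QR f.q₂Q)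
  have hainv : a⁻¹ ∈ A := A.inv_mem ha
  obtain ⟨u, hu⟩ : ∃ u : S, u = a * q₂ * a⁻¹ * q₂ := ⟨_, rfl⟩
  have huA : u ∈ A := by
    have h1 : q₂ * a⁻¹ * q₂⁻¹ ∈ A := hAn q₂ hq2X a⁻¹ hainv
    rw [hq2inv] at h1
    have h2 := A.mul_mem ha h1
    have h3 : u = a * (q₂ * a⁻¹ * q₂) := by rw [hu]; group
    rw [h3]
    exact h2
  have c1 : Commute q₁ a := hq₁a
  have c2 : Commute q₁ q₂ := hq12
  have c3 : Commute q₁ a⁻¹ := c1.inv_right
  have cu : Commute q₁ u := by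
    rw [hu]
    exact ((c1.mul_right c2).mul_right c3).mul_right c2
  have hcomm : ∀ v : E, ρ q₁ (ρ u v) = ρ u (ρ q₁ v) := by
    intro v
    rw [← lftab_mul_apply, cu.eq, lftab_mul_apply]
  have hm_dvd_A : orderOf u ∣ Nat.card ↥A := Subgroup.orderOf_dvd_natCard A huA
  have hm_dvd_R : orderOf u ∣ Nat.card ↥R := Subgroup.orderOf_dvd_natCard R (hAR huA)
  have hodd_m : Odd (orderOf u) := Odd.of_dvd_nat hodd hm_dvd_A
  have hcop_m : (orderOf u).Coprime 3 := Nat.Coprime.coprime_dvd_left hm_dvd_R h.cop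
  have hg : (ρ u) ^ (orderOf u) = 1 := by
    rw [← map_pow, pow_orderOf_eq_one, map_one]
  -- Step 1: `u` is trivial on the `-1`-eigenspace of `q₁`
  have hP1card : Nat.card ↥(LinearMap.ker (ρ q₁ + 1)) ≤ 9 := by
    apply k2b_card_le _ e₂ e₃
    intro v hv
    rw [LinearMap.mem_ker, LinearMap.add_apply, Module.End.one_apply] at hv
    exact k2b_neg_q1 ρ b R Q h q₁ q₂ q₃ e₁ e₂ e₃ f v (eq_neg_of_add_eq_zero_left hv)
  have hgP1 : ∀ v ∈ LinearMap.ker (ρ q₁ + 1), ρ u v ∈ LinearMap.ker (ρ q₁ + 1) := by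
    intro v hv
    rw [LinearMap.mem_ker, LinearMap.add_apply, Module.End.one_apply] at hv ⊢
    rw [hcomm, ← map_add, hv, map_zero]
  have step1 : ∀ v : E, ρ q₁ v = -v → ρ u v = v := by
    intro v hv
    apply odd_small (ρ u) (orderOf u) hodd_m hcop_m hg _ hP1card hgP1 v
    rw [LinearMap.mem_ker, LinearMap.add_apply, Module.End.one_apply, hv, neg_add_cancel]
  -- Step 2: the range of `u - 1`
  have hfixed : ∀ v : E, ρ q₁ v = v →
      ∃ x y : ZMod 3, ρ u v - v = x • ρ (a * q₂ * a⁻¹) e₁ + y • ρ a e₁ := by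
    intro v hv
    obtain ⟨x, hx⟩ := k2b_fix_q1 ρ b R Q h q₁ q₂ q₃ e₁ e₂ e₃ f v hv
    have hv' : ρ q₁ (ρ a⁻¹ v) = ρ a⁻¹ v := by
      rw [← lftab_mul_apply, c3.eq, lftab_mul_apply, hv]
    obtain ⟨y, hy⟩ := k2b_fix_q1 ρ b R Q h q₁ q₂ q₃ e₁ e₂ e₃ f (ρ a⁻¹ v) hv'
    have e1 : ρ u v = ρ (a * q₂ * a⁻¹) (ρ q₂ v) := by rw [hu, lftab_mul_apply]
    have e2 : ρ (a * q₂ * a⁻¹) v = ρ a (ρ q₂ (ρ a⁻¹ v)) := by
      rw [lftab_mul_apply, lftab_mul_apply]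
    have e3 : ρ a (ρ a⁻¹ v) = v := by
      rw [← lftab_mul_apply, mul_inv_cancel, map_one, Module.End.one_apply]
    have hx' : ρ q₂ v = v + x • e₁ := by rw [← hx]; abel
    have hy' : ρ q₂ (ρ a⁻¹ v) = ρ a⁻¹ v + y • e₁ := by rw [← hy]; abel
    refine ⟨x, y, ?_⟩
    rw [e1, hx', map_add, e2, hy', map_add, e3, map_smul, map_smul]
    abel
  have hrange : ∀ v : E,
      ∃ x y : ZMod 3, ρ u v - v = x • ρ (a * q₂ * a⁻¹) e₁ + y • ρ a e₁ := by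
    intro v
    have hq1q1 : ρ q₁ (ρ q₁ v) = v := by
      rw [← lftab_mul_apply, hq1sq, map_one, Module.End.one_apply]
    have hvp : ρ q₁ ((2 : ZMod 3) • (v + ρ q₁ v)) = (2 : ZMod 3) • (v + ρ q₁ v) := by
      rw [map_smul, map_add, hq1q1, add_comm]
    have hvm : ρ q₁ ((2 : ZMod 3) • (v - ρ q₁ v)) = -((2 : ZMod 3) • (v - ρ q₁ v)) := by
      rw [map_smul, map_sub, hq1q1, ← smul_neg, neg_sub]
    have hsum : v = (2 : ZMod 3) • (v + ρ q₁ v) + (2 : ZMod 3) • (v - ρ q₁ v) := by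
      have h22 : (2 * 2 : ZMod 3) = 1 := by decide
      have h3 : v + ρ q₁ v + (v - ρ q₁ v) = (2 : ZMod 3) • v := by
        rw [two_smul]; abel
      rw [← smul_add, h3, smul_smul, h22, one_smul]
    obtain ⟨vp, hvpd⟩ : ∃ vp : E, vp = (2 : ZMod 3) • (v + ρ q₁ v) := ⟨_, rfl⟩
    obtain ⟨vm, hvmd⟩ : ∃ vm : E, vm = (2 : ZMod 3) • (v - ρ q₁ v) := ⟨_, rfl⟩
    rw [← hvpd] at hvp hsum
    rw [← hvmd] at hvm hsum
    obtain ⟨x, y, hxy⟩ := hfixed _ hvp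
    have hm := step1 _ hvm
    refine ⟨x, y, ?_⟩
    rw [← hxy, hsum, map_add, hm]
    abel
  have hP2card : Nat.card ↥(LinearMap.range (ρ u - 1)) ≤ 9 := by
    apply k2b_card_le _ (ρ (a * q₂ * a⁻¹) e₁) (ρ a e₁)
    rintro _ ⟨v, rfl⟩
    obtain ⟨x, y, hxy⟩ := hrange v
    exact ⟨x, y, by rw [LinearMap.sub_apply, Module.End.one_apply]; exact hxy⟩
  have hgP2 : ∀ w ∈ LinearMap.range (ρ u - 1), ρ u w ∈ LinearMap.range (ρ u - 1) := by
    rintro _ ⟨v, rfl⟩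
    refine ⟨ρ u v, ?_⟩
    rw [LinearMap.sub_apply, Module.End.one_apply, LinearMap.sub_apply, Module.End.one_apply,
      map_sub]
  have hfix2 := odd_small (ρ u) (orderOf u) hodd_m hcop_m hg _ hP2card hgP2
  obtain ⟨hbot, -⟩ := oneop (ρ u) (orderOf u) hcop_m hg
  have hρu : ρ u = 1 := by
    apply LinearMap.ext
    intro v
    have hmem : (ρ u - 1) v ∈ LinearMap.ker (ρ u - 1) ⊓ LinearMap.range (ρ u - 1) := by
      refine ⟨?_, LinearMap.mem_range_self _ v⟩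
      rw [SetLike.mem_coe, LinearMap.mem_ker, LinearMap.sub_apply, Module.End.one_apply,
        sub_eq_zero]
      exact hfix2 _ (LinearMap.mem_range_self _ v)
    rw [hbot, Submodule.mem_bot, LinearMap.sub_apply, Module.End.one_apply, sub_eq_zero] at hmem
    rw [hmem, Module.End.one_apply]
  have hu1 : u = 1 := h.faith u ((le_sup_left : R ≤ _) (hAR huA)) hρu
  rw [hu] at hu1
  have h5 : a * q₂ * a⁻¹ = q₂⁻¹ := mul_eq_one_iff_eq_inv.mp hu1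
  rw [hq2inv] at h5
  have h6 : a * q₂ = q₂ * a := mul_inv_eq_iff_eq_mul.mp h5
  exact h6.symm

end Cfsg.Agent.Helper12.S15
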