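import Mathlib
import Cfsg.Agent.Lib.S15.S15Defs
import Cfsg.Agent.Lib.S15.LN3
import Cfsg.Agent.Lib.S15.LFTAB

/-! S4415 design (helper12), piece LFROT.  See plans/S4415_plan.md. -/

set_option autoImplicit false

namespace Cfsg.Agent.Helper12.S15

/-- a frame can be rotated -/
theorem frame_rotate {S : Type*} [Group S] [Finite S] {E : Type*} [AddCommGroup E]
    [Module (ZMod 3) E] [Finite E] (ρ : Representation (ZMod 3) S E) (b : S) (R Q : Subgroup S) (h : Setting ρ b R Q) (q₁ q₂ q₃ : S) (e₁ e₂ e₃ : E) (f : QFrame ρ b Q q₁ q₂ q₃ e₁ e₂ e₃) :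
    QFrame ρ b Q q₂ q₃ q₁ e₂ e₃ e₁ := by
  obtain ⟨_, _, h22, h32, _, _, _, he2, _⟩ := frame_table ρ b R Q h q₁ q₂ q₃ e₁ e₂ e₃ f
  have hl := (frame_lines ρ b R Q h q₁ q₂ q₃ e₁ e₂ e₃ f).1
  have hq2sq : q₂ * q₂ = 1 := by
    have := h.Q2 q₂ f.q₂Q
    rwa [pow_two] at this
  refine
    { q₁Q := f.q₂Q
      q₂Q := f.q₃Q
      q₃Q := f.q₁Q
      Qmem := ?_
      q₁1 := ?_
      q12 := ?_
      q21 := ?_
      bq₁ := f.bq₂
      bq₂ := f.bq₃
      bq₃ := f.bq₁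
      be₁ := f.be₂
      be₂ := f.be₃
      be₃ := f.be₁
      e₁0 := he2
      q₁e₁ := h22
      q₂e₁ := h32
      line := hl }
  · intro q hq
    rcases f.Qmem q hq with h1 | h1 | h1 | h1
    · exact Or.inl h1
    · exact Or.inr (Or.inr (Or.inr h1))
    · exact Or.inr (Or.inl h1)
    · exact Or.inr (Or.inr (Or.inl h1))
  · intro h2
    apply f.q₁1
    have h3 := f.bq₁
    rw [h2] at h3
    have h4 : q₁ = b⁻¹ * (b * q₁ * b⁻¹) * b := by group
    rw [h4, h3]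
    group
  · rw [← f.q21, ← mul_assoc, hq2sq, one_mul]
  · rw [← f.q12, mul_assoc, hq2sq, mul_one]

end Cfsg.Agent.Helper12.S15
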