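import Mathlib
import Cfsg.Agent.Lib.S15.S15Defs
import Cfsg.Agent.Lib.S15.K2A
import Cfsg.Agent.Lib.S15.K2B
import Cfsg.Agent.Lib.S15.LFROT

/-! S4415 design (helper12), piece K2C.  See plans/S4415_plan.md. -/

set_option autoImplicit false

namespace Cfsg.Agent.Helper12.S15

/-- Lemma O, first half: `A` centralises `Q` -/
theorem k2_cent {S : Type*} [Group S] [Finite S] {E : Type*} [AddCommGroup E]
    [Module (ZMod 3) E] [Finite E] (ρ : Representation (ZMod 3) S E) (b : S) (R Q : Subgroup S) (h : Setting ρ b R Q) (q₁ q₂ q₃ : S) (e₁ e₂ e₃ : E) (f : QFrame ρ b Q q₁ q₂ q₃ e₁ e₂ e₃) (A : Subgroup S) (hAR : A ≤ R)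
    (hAn : XNormal b R A) (hAc : ∀ a ∈ A, ∀ a' ∈ A, a * a' = a' * a) (hodd : Odd (Nat.card ↥A)) :
    ∀ a ∈ A, ∀ q ∈ Q, q * a = a * q := by
  intro a ha
  have hq₁X : q₁ ∈ R ⊔ Subgroup.zpowers b := (le_sup_left : R ≤ _) (h.QR f.q₁Q)
  have hq₂X : q₂ ∈ R ⊔ Subgroup.zpowers b := (le_sup_left : R ≤ _) (h.QR f.q₂Q)
  have h1 : q₁ * q₁ = 1 := by
    have := h.Q2 q₁ f.q₁Q
    rwa [pow_two] at this
  have h2 : q₂ * q₂ = 1 := by
    have := h.Q2 q₂ f.q₂Q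
    rwa [pow_two] at this
  obtain ⟨a₀, ha₀, a₁, ha₁, a₂, ha₂, a₃, ha₃, h4, c10, c20, c11, c22, c33⟩ :=
    k2_decomp A hAc q₁ q₂ q₃ (fun x hx => hAn q₁ hq₁X x hx) (fun x hx => hAn q₂ hq₂X x hx)
      h1 h2 f.q12 f.q21 a ha
  have f' := frame_rotate ρ b R Q h q₁ q₂ q₃ e₁ e₂ e₃ f
  have f'' := frame_rotate ρ b R Q h q₂ q₃ q₁ e₂ e₃ e₁ f'
  have key1 : ∀ x ∈ A, q₁ * x = x * q₁ → q₂ * x = x * q₂ := fun x hx =>
    k2_key ρ b R Q h q₁ q₂ q₃ e₁ e₂ e₃ f A hAR hAn hAc hodd x hx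
  have key2 : ∀ x ∈ A, q₂ * x = x * q₂ → q₃ * x = x * q₃ := fun x hx =>
    k2_key ρ b R Q h q₂ q₃ q₁ e₂ e₃ e₁ f' A hAR hAn hAc hodd x hx
  have key3 : ∀ x ∈ A, q₃ * x = x * q₃ → q₁ * x = x * q₁ := fun x hx =>
    k2_key ρ b R Q h q₃ q₁ q₂ e₃ e₁ e₂ f'' A hAR hAn hAc hodd x hx
  -- every `aᵢ` commutes with `q₁` and `q₂`
  have C10 : Commute q₁ a₀ := c10
  have C20 : Commute q₂ a₀ := c20
  have C11 : Commute q₁ a₁ := c11
  have C21 : Commute q₂ a₁ := key1 a₁ ha₁ c11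
  have C22 : Commute q₂ a₂ := c22
  have C12 : Commute q₁ a₂ := key3 a₂ ha₂ (key2 a₂ ha₂ c22)
  have C13 : Commute q₁ a₃ := key3 a₃ ha₃ c33
  have C23 : Commute q₂ a₃ := key1 a₃ ha₃ C13
  have C1 : Commute q₁ (a ^ 4) := by
    rw [h4]
    exact ((C10.mul_right C11).mul_right C12).mul_right C13
  have C2 : Commute q₂ (a ^ 4) := by
    rw [h4]
    exact ((C20.mul_right C21).mul_right C22).mul_right C23
  -- `a` is a power of `a⁴`
  have hodd' : Nat.Coprime 4 (orderOf a) := by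
    have hdvd : orderOf a ∣ Nat.card ↥A := by
      have := orderOf_dvd_natCard (⟨a, ha⟩ : ↥A)
      rwa [Subgroup.orderOf_mk] at this
    have ho : Odd (orderOf a) := by
      obtain ⟨k, hk⟩ := hdvd
      rw [hk] at hodd
      exact (Nat.odd_mul.mp hodd).1
    have h2c : Nat.Coprime 2 (orderOf a) := (Nat.coprime_two_left).mpr ho
    have : Nat.Coprime (2 ^ 2) (orderOf a) := Nat.Coprime.pow_left 2 h2c
    simpa using this
  obtain ⟨m, hm⟩ := exists_pow_eq_self_of_coprime hodd'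
  have A1 : Commute q₁ a := by
    rw [← hm]; exact C1.pow_right m
  have A2 : Commute q₂ a := by
    rw [← hm]; exact C2.pow_right m
  intro q hq
  rcases f.Qmem q hq with rfl | rfl | rfl | rfl
  · simp
  · exact A1
  · exact A2
  · rw [← f.q12]
    exact A1.mul_left A2

end Cfsg.Agent.Helper12.S15
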