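import Mathlib
import Cfsg.Agent.Lib.S15.S15Defs
import Cfsg.Agent.Lib.S15.LFTAB

/-! S4415 design (helper12), piece K2D.  See plans/S4415_plan.md. -/

set_option autoImplicit false

namespace Cfsg.Agent.Helper12.S15

/-- Lemma O, second half: an odd-order subgroup centralising `Q` fixes `e₁` -/
theorem k2_fix {S : Type*} [Group S] [Finite S] {E : Type*} [AddCommGroup E]
    [Module (ZMod 3) E] [Finite E] (ρ : Representation (ZMod 3) S E) (b : S) (R Q : Subgroup S) (h : Setting ρ b R Q) (q₁ q₂ q₃ : S) (e₁ e₂ e₃ : E) (f : QFrame ρ b Q q₁ q₂ q₃ e₁ e₂ e₃) (A : Subgroup S)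
    (hodd : Odd (Nat.card ↥A)) (hc : ∀ a ∈ A, ∀ q ∈ Q, q * a = a * q) :
    e₁ ∈ fixS ρ A := by
  classical
  rw [mem_fixS]
  intro a ha
  have hc1 : q₁ * a = a * q₁ := hc a ha q₁ f.q₁Q
  have hc2 : q₂ * a = a * q₂ := hc a ha q₂ f.q₂Q
  have h1 : ρ q₁ (ρ a e₁) = ρ a e₁ := by
    rw [← lftab_mul_apply, hc1, lftab_mul_apply, f.q₁e₁]
  have h2 : ρ q₂ (ρ a e₁) = -(ρ a e₁) := by
    rw [← lftab_mul_apply, hc2, lftab_mul_apply, f.q₂e₁, map_neg]
  obtain ⟨c, hc'⟩ := f.line _ h1 h2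
  -- powers
  have hpow : ∀ n : ℕ, ρ (a ^ n) e₁ = c ^ n • e₁ := by
    intro n
    induction n with
    | zero => simp
    | succ n ih =>
      rw [pow_succ, lftab_mul_apply, hc', map_smul, ih, smul_smul, pow_succ, mul_comm]
  -- order
  have hord : a ^ Nat.card ↥A = 1 := by
    have h3 := pow_card_eq_one' (G := ↥A) (x := ⟨a, ha⟩)
    have h4 : ((⟨a, ha⟩ : ↥A) ^ Nat.card ↥A : ↥A).1 = ((1 : ↥A) : S) := congrArg Subtype.val h3
    rw [Subgroup.coe_pow, Subgroup.coe_one] at h4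
    exact h4
  have hcn : c ^ Nat.card ↥A • e₁ = e₁ := by
    rw [← hpow, hord, map_one]
    rfl
  obtain ⟨k, hk⟩ := hodd
  have hcases : ∀ c : ZMod 3, c = 0 ∨ c = 1 ∨ c = 2 := by decide
  rcases hcases c with h0 | h0 | h0
  · exfalso
    rw [h0, hk, pow_succ, mul_zero, zero_smul] at hcn
    exact f.e₁0 hcn.symm
  · rw [hc', h0, one_smul]
  · exfalso
    have h22 : (2 : ZMod 3) ^ (2 * k + 1) = 2 := by
      rw [pow_succ, pow_mul]
      have : (2 : ZMod 3) ^ 2 = 1 := by decide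
      rw [this, one_pow, one_mul]
    rw [h0, hk, h22] at hcn
    have h5 : (2 : ZMod 3) • e₁ - e₁ = 0 := by rw [hcn, sub_self]
    have h6 : (2 : ZMod 3) • e₁ - e₁ = e₁ := by
      rw [two_smul, add_sub_cancel_right]
    rw [h6] at h5
    exact f.e₁0 h5

end Cfsg.Agent.Helper12.S15
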