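import Mathlib
import Cfsg.Agent.Lib.S15.S15Defs
import Cfsg.Agent.Lib.S15.LINV

/-! S4415 design (helper12), piece KIRR.  See plans/S4415_plan.md. -/

set_option autoImplicit false

namespace Cfsg.Agent.Helper12.S15

/-- in the reduced setting a non-trivial `X`-normal subgroup of `R` has no non-zero fixed vector -/
theorem fix_normal_eq_bot {S : Type*} [Group S] [Finite S] {E : Type*} [AddCommGroup E]
    [Module (ZMod 3) E] [Finite E] (ρ : Representation (ZMod 3) S E) (b : S) (R Q : Subgroup S) (h : RSetting ρ b R Q) (T : Subgroup S) (hTR : T ≤ R)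
    (hTn : XNormal b R T) (hT1 : T ≠ ⊥) : fixS ρ T = ⊥ := by
  have hinv : ∀ x ∈ R ⊔ Subgroup.zpowers b, ∀ v ∈ fixS ρ T, ρ x v ∈ fixS ρ T := by
    intro x hx
    apply fixS_inv ρ T x
    intro t ht
    have h1 := hTn x⁻¹ (inv_mem hx) t ht
    rwa [inv_inv] at h1
  rcases h.irr (fixS ρ T) hinv with h0 | h1
  · exact h0
  · exfalso
    apply hT1
    rw [Subgroup.eq_bot_iff_forall]
    intro t ht
    apply h.faith t (Subgroup.mem_sup_left (hTR ht))
    apply LinearMap.ext
    intro v
    have hv : v ∈ fixS ρ T := by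
      rw [h1]
      exact Submodule.mem_top
    rw [Module.End.one_apply]
    exact hv t ht

/-- an element of `R ⊔ ⟨b⟩` acting as a scalar `±1` is central in `R ⊔ ⟨b⟩` -/
theorem scalar_central {S : Type*} [Group S] [Finite S] {E : Type*} [AddCommGroup E]
    [Module (ZMod 3) E] [Finite E] (ρ : Representation (ZMod 3) S E) (b : S) (R Q : Subgroup S) (h : RSetting ρ b R Q) (z : S) (hz : z ∈ R)
    (hs : ρ z = 1 ∨ ρ z = -1) : ∀ x ∈ R ⊔ Subgroup.zpowers b, x * z = z * x := by
  intro x hx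
  have hzX : z ∈ R ⊔ Subgroup.zpowers b := Subgroup.mem_sup_left hz
  have hcomm : ρ x * ρ z = ρ z * ρ x := by
    rcases hs with h1 | h1
    · rw [h1, mul_one, one_mul]
    · rw [h1, mul_neg, neg_mul, mul_one, one_mul]
  have hmem : x * z * (z * x)⁻¹ ∈ R ⊔ Subgroup.zpowers b :=
    mul_mem (mul_mem hx hzX) (inv_mem (mul_mem hzX hx))
  have hone : ρ (x * z * (z * x)⁻¹) = 1 := by
    have h2 : ρ (x * z) = ρ (z * x) := by
      rw [map_mul, map_mul, hcomm]
    rw [map_mul, h2, ← map_mul, mul_inv_cancel, map_one]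
  have h5 := h.faith _ hmem hone
  exact mul_inv_eq_one.mp h5

end Cfsg.Agent.Helper12.S15
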