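import Mathlib
import Cfsg.Agent.Lib.S15.S15Defs
import Cfsg.Agent.Lib.S15.KIRR
import Cfsg.Agent.Lib.S15.K2C
import Cfsg.Agent.Lib.S15.K2D
import Cfsg.Agent.Lib.S15.LFRAME

/-! S4415 design (helper12), piece K2MAIN.  See plans/S4415_plan.md. -/

set_option autoImplicit false

namespace Cfsg.Agent.Helper12.S15

/-- Lemma O: an `X`-normal abelian subgroup of odd order of `R` is trivial. -/
theorem k2_main {S : Type*} [Group S] [Finite S] {E : Type*} [AddCommGroup E]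
    [Module (ZMod 3) E] [Finite E] (ρ : Representation (ZMod 3) S E) (b : S) (R Q : Subgroup S) (h : RSetting ρ b R Q) (A : Subgroup S) (hAR : A ≤ R)
    (hAn : XNormal b R A) (hAc : ∀ a ∈ A, ∀ a' ∈ A, a * a' = a' * a) (hodd : Odd (Nat.card ↥A)) :
    A = ⊥ := by
  by_contra hA
  obtain ⟨q₁, q₂, q₃, e₁, e₂, e₃, f⟩ := exists_frame ρ b R Q h.toSetting
  have hc := k2_cent ρ b R Q h.toSetting q₁ q₂ q₃ e₁ e₂ e₃ f A hAR hAn hAc hodd
  have hf := k2_fix ρ b R Q h.toSetting q₁ q₂ q₃ e₁ e₂ e₃ f A hodd hc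
  have hb := fix_normal_eq_bot ρ b R Q h A hAR hAn hA
  rw [hb] at hf
  exact f.e₁0 ((Submodule.mem_bot _).1 hf)

end Cfsg.Agent.Helper12.S15
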