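import Mathlib
import Cfsg.Agent.Lib.S15.S15Defs

/-! S4415 design (helper12), piece K3A.  See plans/S4415_plan.md.  Proved by helper26. -/

set_option autoImplicit false

namespace Cfsg.Agent.Helper12.S15

theorem k3a_pow_four {S : Type*} [Group S] (a : S) (h4 : orderOf a = 4) : a ^ 4 = 1 := by
  rw [← h4]; exact pow_orderOf_eq_one a

theorem k3a_four {S : Type*} [Group S] (a : S) : a * a * (a * a) = a ^ 4 := by
  simp [pow_succ, mul_assoc]

theorem k3a_sq_ne_one {S : Type*} [Group S] (a : S) (h4 : orderOf a = 4) : a * a ≠ 1 := by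
  intro h
  have h2 : a ^ 2 = 1 := by rw [pow_two]; exact h
  have := orderOf_dvd_of_pow_eq_one h2
  rw [h4] at this
  omega

/-- a conjugate of `a` (of order 4) lying in `⟨a⟩` is `a` or `a⁻¹` -/
theorem k3a_conj {S : Type*} [Group S] (a x : S) (h4 : orderOf a = 4)
    (hx : x * a * x⁻¹ ∈ Subgroup.zpowers a) : x * a * x⁻¹ = a ∨ x * a * x⁻¹ = a⁻¹ := by
  obtain ⟨k, hk⟩ := Subgroup.mem_zpowers_iff.1 hx
  have hmod := zpow_mod_orderOf a k
  rw [h4] at hmod
  have h0 : 0 ≤ k % ((4 : ℕ) : ℤ) := Int.emod_nonneg _ (by norm_num)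
  have h1 : k % ((4 : ℕ) : ℤ) < 4 := Int.emod_lt_of_pos _ (by norm_num)
  have ha4 := k3a_pow_four a h4
  have hne := k3a_sq_ne_one a h4
  generalize hr : k % ((4 : ℕ) : ℤ) = r at hmod h0 h1
  rw [hk] at hmod
  interval_cases r
  · exfalso
    simp only [zpow_zero] at hmod
    have : a = 1 := by
      have e : a = x⁻¹ * (x * a * x⁻¹) * x := by group
      rw [e, ← hmod]; group
    rw [this] at hne
    simp at hne
  · left
    rw [← hmod]; simp
  · exfalso
    have h2 : a ^ (2 : ℤ) = a * a := by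
      rw [show (2 : ℤ) = ((2 : ℕ) : ℤ) by norm_num, zpow_natCast, pow_two]
    rw [h2] at hmod
    have h3 : x * (a * a) * x⁻¹ = 1 := by
      have e : x * (a * a) * x⁻¹ = (x * a * x⁻¹) * (x * a * x⁻¹) := by group
      rw [e, ← hmod]
      rw [k3a_four, ha4]
    apply hne
    have e : a * a = x⁻¹ * (x * (a * a) * x⁻¹) * x := by group
    rw [e, h3]; group
  · right
    have h3 : a ^ (3 : ℤ) = a⁻¹ := by
      rw [show (3 : ℤ) = ((3 : ℕ) : ℤ) by norm_num, zpow_natCast]
      apply eq_inv_of_mul_eq_one_left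
      rw [← pow_succ]
      exact ha4
    rw [← hmod, h3]

/-- an `X`-normal cyclic group `⟨a⟩` of order 4: `b` centralises `a`, and `a²` is central in `X` -/
theorem k3_group {S : Type*} [Group S] (b : S) (hb3 : b ^ 3 = 1) (R : Subgroup S) (a : S)
    (hAn : XNormal b R (Subgroup.zpowers a)) (h4 : orderOf a = 4) :
    b * a * b⁻¹ = a ∧ ∀ x ∈ R ⊔ Subgroup.zpowers b, x * (a * a) * x⁻¹ = a * a := by
  have ha4 := k3a_pow_four a h4
  have hne := k3a_sq_ne_one a h4
  have hinv : a⁻¹ * a⁻¹ = a * a := by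
    have : a * a * (a * a) = 1 := by
      rw [k3a_four, ha4]
    have e : a⁻¹ * a⁻¹ = (a * a)⁻¹ := by group
    rw [e]
    exact inv_eq_of_mul_eq_one_left this
  constructor
  · have hbX : b ∈ R ⊔ Subgroup.zpowers b :=
      Subgroup.mem_sup_right (Subgroup.mem_zpowers b)
    rcases k3a_conj a b h4 (hAn b hbX a (Subgroup.mem_zpowers a)) with h | h
    · exact h
    · exfalso
      have hb : b * b * b = 1 := by
        rw [← hb3]; simp [pow_succ]
      have e : (b * b * b) * a * (b * b * b)⁻¹ = b * (b * (b * a * b⁻¹) * b⁻¹) * b⁻¹ := by group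
      rw [hb, h] at e
      have h' : b * a⁻¹ * b⁻¹ = a := by
        have : b * a⁻¹ * b⁻¹ = (b * a * b⁻¹)⁻¹ := by group
        rw [this, h, inv_inv]
      rw [h', h] at e
      simp only [one_mul, inv_one, mul_one] at e
      apply hne
      calc a * a = a * a⁻¹ := by rw [← e]
        _ = 1 := mul_inv_cancel a
  · intro x hx
    have e : x * (a * a) * x⁻¹ = (x * a * x⁻¹) * (x * a * x⁻¹) := by group
    rcases k3a_conj a x h4 (hAn x hx a (Subgroup.mem_zpowers a)) with h | h
    · rw [e, h]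
    · rw [e, h, hinv]

end Cfsg.Agent.Helper12.S15
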