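import Mathlib
import Cfsg.Agent.Lib.S15.S15Defs
import Cfsg.Agent.Lib.S15.KIRR
import Cfsg.Agent.Lib.S15.K3A
import Cfsg.Agent.Lib.S15.LN3
import Cfsg.Agent.Lib.S15.LRANK
import Cfsg.Agent.Lib.S15.LFRAME
import Cfsg.Agent.Lib.S15.LFKER

/-! S4415 design (helper12), piece K3MAIN.  See plans/S4415_plan.md. -/

set_option autoImplicit false

namespace Cfsg.Agent.Helper12.S15

theorem k3main_mul_apply {S : Type*} [Group S] {E : Type*} [AddCommGroup E]
    [Module (ZMod 3) E] (ρ : Representation (ZMod 3) S E) (a c : S) (v : E) :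
    ρ (a * c) v = ρ a (ρ c v) := by
  rw [map_mul, Module.End.mul_apply]

theorem k3main_sq : ∀ c : ZMod 3, c ≠ 0 → c * c = 1 := by decide

/-- if `g` fixes `s` then so does every element of `⟨g⟩` -/
theorem k3main_fix_zpowers {S : Type*} [Group S] {E : Type*} [AddCommGroup E]
    [Module (ZMod 3) E] (ρ : Representation (ZMod 3) S E) (g : S) (s : E) (hg : ρ g s = s) :
    ∀ t ∈ Subgroup.zpowers g, ρ t s = s := by
  let K : Subgroup S :=
    { carrier := {t | ρ t s = s}
      mul_mem' := by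
        intro x y hx hy
        show ρ (x * y) s = s
        rw [k3main_mul_apply, hy, hx]
      one_mem' := by
        show ρ 1 s = s
        rw [map_one]; rfl
      inv_mem' := by
        intro x hx
        show ρ x⁻¹ s = s
        have h1 : ρ x⁻¹ (ρ x s) = s := by
          rw [← k3main_mul_apply, inv_mul_cancel, map_one]; rfl
        rw [hx] at h1
        exact h1 }
  have hle : Subgroup.zpowers g ≤ K := by
    rw [Subgroup.zpowers_le]
    exact hg
  intro t ht
  exact hle ht

/-- in a submodule with three elements every element is a multiple of a given non-zero one -/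
theorem k3main_line {E : Type*} [AddCommGroup E] [Module (ZMod 3) E] [Finite E]
    (L : Submodule (ZMod 3) E) (hL : Nat.card ↥L = 3) (s : E) (hs : s ∈ L) (hs0 : s ≠ 0) :
    ∀ v ∈ L, ∃ c : ZMod 3, v = c • s := by
  let φ : ZMod 3 → ↥L := fun c => ⟨c • s, L.smul_mem c hs⟩
  have hinj : Function.Injective φ := by
    intro c d hcd
    have h1 : c • s = d • s := congrArg Subtype.val hcd
    have h2 : (c - d) • s = 0 := by rw [sub_smul, h1, sub_self]
    rcases smul_eq_zero.mp h2 with h3 | h3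
    · exact sub_eq_zero.mp h3
    · exact absurd h3 hs0
  have hcard : Nat.card ↥L ≤ Nat.card (ZMod 3) := by
    rw [hL, Nat.card_zmod]
  have hbij := hinj.bijective_of_nat_card_le hcard
  intro v hv
  obtain ⟨c, hc⟩ := hbij.2 ⟨v, hv⟩
  exact ⟨c, (congrArg Subtype.val hc).symm⟩

/-- no `X`-normal cyclic subgroup of order 4 in `R` -/
theorem k3_main {S : Type*} [Group S] [Finite S] {E : Type*} [AddCommGroup E]
    [Module (ZMod 3) E] [Finite E] (ρ : Representation (ZMod 3) S E) (b : S) (R Q : Subgroup S) (h : RSetting ρ b R Q) (a : S) (haR : a ∈ R)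
    (hAn : XNormal b R (Subgroup.zpowers a)) : orderOf a ≠ 4 := by
  intro h4
  obtain ⟨hba, hcent⟩ := k3_group b h.b3 R a hAn h4
  -- `ρ a` commutes with `ρ b`
  have hab : b * a = a * b := by
    have e : b * a = (b * a * b⁻¹) * b := by group
    rw [e, hba]
  have hcomm : ∀ v : E, ρ a (ρ b v) = ρ b (ρ a v) := by
    intro v
    rw [← k3main_mul_apply, ← k3main_mul_apply, hab]
  have hcommN : ∀ v : E, ρ a ((ρ b - 1) v) = (ρ b - 1) (ρ a v) := by
    intro v
    rw [LinearMap.sub_apply, LinearMap.sub_apply, Module.End.one_apply, Module.End.one_apply,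
      map_sub, hcomm]
  set L : Submodule (ZMod 3) E := LinearMap.range ((ρ b - 1) * (ρ b - 1)) with hLdef
  have hLcard : Nat.card ↥L = 3 := card_range_sq ρ b R Q h.toSetting
  -- a non-zero element of `L`
  obtain ⟨v₀, hv₀⟩ := h.sq
  have hs : (ρ b - 1) ((ρ b - 1) v₀) ∈ L := ⟨v₀, rfl⟩
  set s : E := (ρ b - 1) ((ρ b - 1) v₀) with hsdef
  have has : ρ a s ∈ L := by
    refine ⟨ρ a v₀, ?_⟩
    rw [Module.End.mul_apply, ← hcommN, ← hcommN]
  obtain ⟨c, hc⟩ := k3main_line L hLcard s hs hv₀ (ρ a s) has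
  have hc0 : c ≠ 0 := by
    intro h0
    rw [h0, zero_smul] at hc
    have h1 : ρ a⁻¹ (ρ a s) = s := by
      rw [← k3main_mul_apply, inv_mul_cancel, map_one]; rfl
    rw [hc, map_zero] at h1
    exact hv₀ h1.symm
  have hcc : c * c = 1 := k3main_sq c hc0
  have haas : ρ (a * a) s = s := by
    rw [k3main_mul_apply, hc, map_smul, hc, smul_smul, hcc, one_smul]
  -- the subgroup `⟨a²⟩`
  have hTR : Subgroup.zpowers (a * a) ≤ R := by
    rw [Subgroup.zpowers_le]
    exact R.mul_mem haR haR
  have hTn : XNormal b R (Subgroup.zpowers (a * a)) := by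
    intro x hx t ht
    obtain ⟨k, rfl⟩ := Subgroup.mem_zpowers_iff.1 ht
    have e : x * (a * a) ^ k * x⁻¹ = (x * (a * a) * x⁻¹) ^ k := by
      rw [conj_zpow]
    rw [e, hcent x hx]
    exact Subgroup.zpow_mem_zpowers _ k
  have hT1 : Subgroup.zpowers (a * a) ≠ ⊥ := by
    intro hbot
    have : a * a ∈ (⊥ : Subgroup S) := by
      rw [← hbot]; exact Subgroup.mem_zpowers _
    exact k3a_sq_ne_one a h4 (Subgroup.mem_bot.1 this)
  have hfix := fix_normal_eq_bot ρ b R Q h _ hTR hTn hT1
  have hsfix : s ∈ fixS ρ (Subgroup.zpowers (a * a)) := k3main_fix_zpowers ρ (a * a) s haas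
  rw [hfix, Submodule.mem_bot] at hsfix
  exact hv₀ hsfix

end Cfsg.Agent.Helper12.S15
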