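import Mathlib
import Cfsg.Agent.Lib.S15.S15Defs

/-!
# S4415, block K4 (helper21): definitions

`K4Cyc3 σ α₁ α₂ α₃`: the group element `σ` acts on `Ω` as the 3-cycle `(α₁ α₂ α₃)`.
`K4Act R b ω₁ ω₂ ω₃`: abstract monomial setting: `G = R⟨b⟩` acts transitively on `Ω`, `R` a
`3'`-subgroup normalised by `b`, `b` acts as the 3-cycle `(ω₁ ω₂ ω₃)`, the kernel has exponent 2.
`k4Stab ρ X e`: the stabiliser in `X` of the line spanned by `e`.
See `plans/S4415_K4_plan.md`.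
-/

set_option autoImplicit false

namespace Cfsg.Agent.Helper12.S15

/-- `σ` acts on `Ω` as the 3-cycle `(α₁ α₂ α₃)` -/
structure K4Cyc3 {G : Type*} [Group G] {Ω : Type*} [MulAction G Ω] (σ : G) (α₁ α₂ α₃ : Ω) :
    Prop where
  ne12 : α₁ ≠ α₂
  ne13 : α₁ ≠ α₃
  ne23 : α₂ ≠ α₃
  m1 : σ • α₁ = α₂
  m2 : σ • α₂ = α₃
  m3 : σ • α₃ = α₁
  fix : ∀ ω : Ω, ω ≠ α₁ → ω ≠ α₂ → ω ≠ α₃ → σ • ω = ω

/-- the abstract monomial setting -/
structure K4Act {G : Type*} [Group G] {Ω : Type*} [MulAction G Ω] (R : Subgroup G) (b : G)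
    (ω₁ ω₂ ω₃ : Ω) : Prop where
  cop : (Nat.card ↥R).Coprime 3
  b3 : b ^ 3 = 1
  bR : ∀ r ∈ R, b * r * b⁻¹ ∈ R
  gen : ∀ x : G, ∃ r ∈ R, ∃ i : ℕ, x = r * b ^ i
  ker : ∀ x : G, (∀ ω : Ω, x • ω = ω) → x ^ 2 = 1
  cyc : K4Cyc3 b ω₁ ω₂ ω₃
  trans : ∀ ω : Ω, ∃ x : G, x • ω₁ = ω

/-- the stabiliser in `X` of the line spanned by `e` -/
def k4Stab {S : Type*} [Group S] {E : Type*} [AddCommGroup E] [Module (ZMod 3) E]
    (ρ : Representation (ZMod 3) S E) (X : Subgroup S) (e : E) : Subgroup ↥X where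
  carrier := {x | (Submodule.span (ZMod 3) {e}).map (ρ (x : S)) = Submodule.span (ZMod 3) {e}}
  one_mem' := by
    show (Submodule.span (ZMod 3) {e}).map (ρ ((1 : ↥X) : S)) = Submodule.span (ZMod 3) {e}
    rw [Subgroup.coe_one, map_one]
    exact Submodule.map_id _
  mul_mem' := by
    intro x y hx hy
    show (Submodule.span (ZMod 3) {e}).map (ρ ((x * y : ↥X) : S)) = Submodule.span (ZMod 3) {e}
    have hx' : (Submodule.span (ZMod 3) {e}).map (ρ (x : S)) = Submodule.span (ZMod 3) {e} := hx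
    have hy' : (Submodule.span (ZMod 3) {e}).map (ρ (y : S)) = Submodule.span (ZMod 3) {e} := hy
    rw [Subgroup.coe_mul, map_mul]
    have : (ρ (x : S) * ρ (y : S)) = (ρ (x : S)).comp (ρ (y : S)) := rfl
    rw [this, Submodule.map_comp, hy', hx']
  inv_mem' := by
    intro x hx
    show (Submodule.span (ZMod 3) {e}).map (ρ ((x⁻¹ : ↥X) : S)) = Submodule.span (ZMod 3) {e}
    have hx' : (Submodule.span (ZMod 3) {e}).map (ρ (x : S)) = Submodule.span (ZMod 3) {e} := hx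
    have h1 : ((Submodule.span (ZMod 3) {e}).map (ρ (x : S))).map (ρ ((x⁻¹ : ↥X) : S)) =
        Submodule.span (ZMod 3) {e} := by
      rw [← Submodule.map_comp]
      have : (ρ ((x⁻¹ : ↥X) : S)).comp (ρ (x : S)) = LinearMap.id := by
        have h2 : ρ ((x⁻¹ : ↥X) : S) * ρ (x : S) = 1 := by
          rw [← map_mul, Subgroup.coe_inv, inv_mul_cancel, map_one]
        exact h2
      rw [this]
      exact Submodule.map_id _
    rw [hx'] at h1
    exact h1

/-- `b` as an element of `X = R ⊔ ⟨b⟩` -/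
def k4b {S : Type*} [Group S] (b : S) (R : Subgroup S) : ↥(R ⊔ Subgroup.zpowers b) :=
  ⟨b, Subgroup.mem_sup_right (Subgroup.mem_zpowers b)⟩

theorem coe_k4b {S : Type*} [Group S] (b : S) (R : Subgroup S) : ((k4b b R : ↥(R ⊔ Subgroup.zpowers b)) : S) = b :=
  rfl

theorem mem_k4Stab {S : Type*} [Group S] {E : Type*} [AddCommGroup E] [Module (ZMod 3) E]
    (ρ : Representation (ZMod 3) S E) (X : Subgroup S) (e : E) (x : ↥X) :
    x ∈ k4Stab ρ X e ↔
      (Submodule.span (ZMod 3) {e}).map (ρ (x : S)) = Submodule.span (ZMod 3) {e} := Iff.rfl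

end Cfsg.Agent.Helper12.S15
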