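import Mathlib
import Cfsg.Agent.Lib.S15.S15Defs
import Cfsg.Agent.Lib.S15.K4Defs

/-! S4415, block K4 (helper21), piece K4WT (implemented by helper11).  See plans/S4415_K4_plan.md.

`a' = x⁻¹*a*x ∈ A` (hAn applied to `x⁻¹ ∈ X`: `x⁻¹ * a * (x⁻¹)⁻¹`).  A is abelian (exponent 2), so a' commutes with q₁,q₂ ∈ Q ≤ A; `w = ρ a' e₁` satisfies `ρ q₁ w = w`, `ρ q₂ w = -w` (f.q₁e₁, f.q₂e₁), so `w = c • e₁` by `f.line`.  From `a'^2 = 1`: `c*c • e₁ = e₁`, `e₁ ≠ 0` ⇒ `c*c = 1` ⇒ `c = 1 ∨ c = -1` (`decide`-style on ZMod 3: `fin_cases c`).  Finally `ρ a (ρ x e₁) = ρ x (ρ a' e₁) = c • ρ x e₁` (`a * x = x * a'`).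
-/

set_option autoImplicit false

namespace Cfsg.Agent.Helper12.S15

theorem k4_weight {S : Type*} [Group S] [Finite S] {E : Type*} [AddCommGroup E]
    [Module (ZMod 3) E] [Finite E] (ρ : Representation (ZMod 3) S E) (b : S) (R Q : Subgroup S)
    (h : RSetting ρ b R Q) (A : Subgroup S) (hAR : A ≤ R) (hAn : XNormal b R A)
    (hA2 : ∀ a ∈ A, a ^ 2 = 1) (hQA : Q ≤ A) (q₁ q₂ q₃ : S) (e₁ e₂ e₃ : E)
    (f : QFrame ρ b Q q₁ q₂ q₃ e₁ e₂ e₃) (x : S) (hx : x ∈ R ⊔ Subgroup.zpowers b) (a : S)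
    (ha : a ∈ A) : ρ a (ρ x e₁) = ρ x e₁ ∨ ρ a (ρ x e₁) = -(ρ x e₁) := by
  have hmul : ∀ (g g' : S) (v : E), ρ (g * g') v = ρ g (ρ g' v) := by
    intro g g' v
    rw [map_mul]
    rfl
  -- `A` is abelian
  have hinv : ∀ c ∈ A, c⁻¹ = c := by
    intro c hc
    have h1 := hA2 c hc
    rw [pow_two] at h1
    exact inv_eq_of_mul_eq_one_right h1
  have hAab : ∀ c ∈ A, ∀ c' ∈ A, c * c' = c' * c := by
    intro c hc c' hc'
    have h1 := hinv (c * c') (A.mul_mem hc hc')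
    rw [mul_inv_rev, hinv c hc, hinv c' hc'] at h1
    exact h1.symm
  -- the conjugate
  have ha' : x⁻¹ * a * x ∈ A := by
    have h1 := hAn x⁻¹ (Subgroup.inv_mem _ hx) a ha
    rwa [inv_inv] at h1
  set a' : S := x⁻¹ * a * x with ha'def
  have hq1 : ρ q₁ (ρ a' e₁) = ρ a' e₁ := by
    rw [← hmul, hAab q₁ (hQA f.q₁Q) a' ha', hmul, f.q₁e₁]
  have hq2 : ρ q₂ (ρ a' e₁) = -(ρ a' e₁) := by
    rw [← hmul, hAab q₂ (hQA f.q₂Q) a' ha', hmul, f.q₂e₁, map_neg]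
  obtain ⟨c, hc⟩ := f.line (ρ a' e₁) hq1 hq2
  have hcc : c * c = 1 := by
    have h1 : ρ a' (ρ a' e₁) = e₁ := by
      rw [← hmul, ← pow_two, hA2 a' ha', map_one]
      rfl
    rw [hc, map_smul, hc, smul_smul] at h1
    have h2 : (c * c - 1) • e₁ = 0 := by
      rw [sub_smul, one_smul, h1, sub_self]
    rcases smul_eq_zero.mp h2 with h3 | h3
    · exact sub_eq_zero.mp h3
    · exact absurd h3 f.e₁0
  have hc1 : c = 1 ∨ c = -1 := by
    have hall : ∀ d : ZMod 3, d * d = 1 → d = 1 ∨ d = -1 := by decide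
    exact hall c hcc
  have hax : a * x = x * a' := by
    rw [ha'def]
    group
  have hkey : ρ a (ρ x e₁) = c • ρ x e₁ := by
    rw [← hmul, hax, hmul, hc, map_smul]
  rcases hc1 with h1 | h1
  · left
    rw [hkey, h1, one_smul]
  · right
    rw [hkey, h1, neg_smul, one_smul]

end Cfsg.Agent.Helper12.S15
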