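import Mathlib
import Cfsg.Agent.Lib.S15.S15Defs
import Cfsg.Agent.Lib.S15.K4Defs
import Cfsg.Agent.Lib.S15.K4WT
import Cfsg.Agent.Lib.S15.LFTAB

/-! S4415, block K4 (helper21), piece K4CLS.  See plans/S4415_K4_plan.md.

Let `w = ρ x e₁`.  By `k4_weight` with `a = q₁` and `a = q₂` (`f.q₁Q`, `f.q₂Q`, `hQA`): `ρ q₁ w = ε₁ w`, `ρ q₂ w = ε₂ w`, and `ρ q₃ w = ρ q₁ (ρ q₂ w)` (`f.q12`, `map_mul`).  (ε₁,ε₂) = (+,−): `f.line`;  (−,+): `ρ q₂ w = w`, `ρ q₃ w = -w` ⇒ first part of `frame_lines`;  (−,−): `ρ q₃ w = w`, `ρ q₁ w = -w` ⇒ second part of `frame_lines`;  (+,+): `w ∈ fixS ρ Q` via `f.Qmem` (all of 1,q₁,q₂,q₃ fix w).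
-/

set_option autoImplicit false

namespace Cfsg.Agent.Helper12.S15

theorem k4_classify {S : Type*} [Group S] [Finite S] {E : Type*} [AddCommGroup E]
    [Module (ZMod 3) E] [Finite E] (ρ : Representation (ZMod 3) S E) (b : S) (R Q : Subgroup S)
    (h : RSetting ρ b R Q) (A : Subgroup S) (hAR : A ≤ R) (hAn : XNormal b R A)
    (hA2 : ∀ a ∈ A, a ^ 2 = 1) (hQA : Q ≤ A) (q₁ q₂ q₃ : S) (e₁ e₂ e₃ : E)
    (f : QFrame ρ b Q q₁ q₂ q₃ e₁ e₂ e₃) (x : S) (hx : x ∈ R ⊔ Subgroup.zpowers b) :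
    (∃ c : ZMod 3, ρ x e₁ = c • e₁) ∨ (∃ c : ZMod 3, ρ x e₁ = c • e₂) ∨
      (∃ c : ZMod 3, ρ x e₁ = c • e₃) ∨ ρ x e₁ ∈ fixS ρ Q := by
  have hw1 := k4_weight ρ b R Q h A hAR hAn hA2 hQA q₁ q₂ q₃ e₁ e₂ e₃ f x hx q₁ (hQA f.q₁Q)
  have hw2 := k4_weight ρ b R Q h A hAR hAn hA2 hQA q₁ q₂ q₃ e₁ e₂ e₃ f x hx q₂ (hQA f.q₂Q)
  have hw3 : ρ q₃ (ρ x e₁) = ρ q₁ (ρ q₂ (ρ x e₁)) := by
    rw [← f.q12, map_mul]; rfl
  obtain ⟨hl2, hl3⟩ := frame_lines ρ b R Q h.toSetting q₁ q₂ q₃ e₁ e₂ e₃ f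
  rcases hw1 with h1 | h1 <;> rcases hw2 with h2 | h2
  · -- (+,+)
    right; right; right
    intro q hq
    rcases f.Qmem q hq with e | e | e | e
    · rw [e, map_one]; rfl
    · rw [e]; exact h1
    · rw [e]; exact h2
    · rw [e, hw3, h2, h1]
  · -- (+,−)
    left
    exact f.line _ h1 h2
  · -- (−,+)
    right; left
    apply hl2 _ h2
    rw [hw3, h2, h1]
  · -- (−,−)
    right; right; left
    apply hl3 _ _ h1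
    rw [hw3, h2, map_neg, h1, neg_neg]

end Cfsg.Agent.Helper12.S15
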