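import Mathlib
import Cfsg.Agent.Lib.S15.S15Defs
import Cfsg.Agent.Lib.S15.K4Defs

/-! S4415, block K4 (helper21), piece K4STAB.  See plans/S4415_K4_plan.md.

`Submodule.map_span`, `Set.image_singleton`: `(span {e}).map (ρ x) = span {ρ x e}`.  (→) `ρ x e ∈ span {e}` ⇒ `Submodule.mem_span_singleton`.  (←) `ρ x e = c • e` with `c ≠ 0` (else `ρ x e = 0`, and `ρ x` is injective: `ρ x⁻¹ (ρ x e) = e`), so `span {c • e} = span {e}` (`Submodule.span_singleton_smul_eq` with `IsUnit c`).
-/

set_option autoImplicit false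

namespace Cfsg.Agent.Helper12.S15

theorem k4_mem_stab_iff {S : Type*} [Group S] {E : Type*} [AddCommGroup E]
    [Module (ZMod 3) E] (ρ : Representation (ZMod 3) S E) (X : Subgroup S) (e : E) (he : e ≠ 0)
    (x : ↥X) : x ∈ k4Stab ρ X e ↔ ∃ c : ZMod 3, ρ (x : S) e = c • e := by
  rw [mem_k4Stab, Submodule.map_span, Set.image_singleton]
  constructor
  · intro h1
    have h2 : ρ (x : S) e ∈ Submodule.span (ZMod 3) {e} := by
      rw [← h1]
      exact Submodule.mem_span_singleton_self _
    obtain ⟨c, hc⟩ := Submodule.mem_span_singleton.mp h2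
    exact ⟨c, hc.symm⟩
  · rintro ⟨c, hc⟩
    have hc0 : c ≠ 0 := by
      intro h0
      rw [h0, zero_smul] at hc
      apply he
      have h3 : ρ ((x : S)⁻¹) (ρ (x : S) e) = e := by
        rw [← Module.End.mul_apply, ← map_mul, inv_mul_cancel, map_one]
        rfl
      rw [hc, map_zero] at h3
      exact h3.symm
    rw [hc]
    haveI : Fact (Nat.Prime 3) := ⟨Nat.prime_three⟩
    exact Submodule.span_singleton_smul_eq (IsUnit.mk0 c hc0) e

end Cfsg.Agent.Helper12.S15
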