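import Mathlib
import Cfsg.Agent.Lib.S15.S15Defs
import Cfsg.Agent.Lib.S15.K4Defs
import Cfsg.Agent.Lib.S15.K4CLS
import Cfsg.Agent.Lib.S15.K4STAB
import Cfsg.Agent.Lib.S15.LCORA
import Cfsg.Agent.Lib.S15.LFIND
import Cfsg.Agent.Lib.S15.LFTAB

/-! S4415, block K4 (helper21), piece K4APPC.  See plans/S4415_K4_plan.md.

Ω = X ⧸ H, H = `k4Stab ρ X e₁`; `x • (g : X ⧸ H) = ((x * g : X) : X ⧸ H)` (`MulAction.Quotient.smul_mk` / `rfl`), `(g : X⧸H) = g' ↔ g⁻¹ * g' ∈ H` (`QuotientGroup.eq`).  Membership in H: `k4_mem_stab_iff` (`f.e₁0`).  ne12/ne13/ne23: `k4b ∉ H`, `k4b^2 ∉ H` because `ρ b e₁ = e₂`, `ρ (b^2) e₁ = e₃` are not multiples of e₁ (`frame_indep` with w = 0).  m1,m2,m3: `b'*1 = b'`, `b'*b' = b'^2`, `b'*b'^2 = b'^3 = 1` (`h.b3`, `Subtype.ext`).  fix: `Quotient.inductionOn`/`QuotientGroup.induction_on` ω = gH; `k4_classify` for g: the cases `ρ g e₁ = c•e₁`, `c•e₂ =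 c • ρ b e₁`, `c•e₃ = c • ρ (b^2) e₁` give `gH = 1H, b'H, b'^2H` (excluded); otherwise `ρ g e₁ ∈ fixS ρ Q`, so `ρ b (ρ g e₁) = ρ g e₁` (`b_fix_fixQ`), so `g⁻¹ * b' * g ∈ H` (c = 1), i.e. `b' • gH = gH`.
-/

set_option autoImplicit false

namespace Cfsg.Agent.Helper12.S15

theorem k4_act_cyc {S : Type*} [Group S] [Finite S] {E : Type*} [AddCommGroup E]
    [Module (ZMod 3) E] [Finite E] (ρ : Representation (ZMod 3) S E) (b : S) (R Q : Subgroup S)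
    (h : RSetting ρ b R Q) (A : Subgroup S) (hAR : A ≤ R) (hAn : XNormal b R A)
    (hA2 : ∀ a ∈ A, a ^ 2 = 1) (hQA : Q ≤ A) (q₁ q₂ q₃ : S) (e₁ e₂ e₃ : E)
    (f : QFrame ρ b Q q₁ q₂ q₃ e₁ e₂ e₃) :
    K4Cyc3 (k4b b R)
      (((1 : ↥(R ⊔ Subgroup.zpowers b)) : ↥(R ⊔ Subgroup.zpowers b) ⧸
        k4Stab ρ (R ⊔ Subgroup.zpowers b) e₁))
      ((k4b b R : ↥(R ⊔ Subgroup.zpowers b)) : ↥(R ⊔ Subgroup.zpowers b) ⧸
        k4Stab ρ (R ⊔ Subgroup.zpowers b) e₁)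
      ((k4b b R ^ 2 : ↥(R ⊔ Subgroup.zpowers b)) : ↥(R ⊔ Subgroup.zpowers b) ⧸
        k4Stab ρ (R ⊔ Subgroup.zpowers b) e₁) := by
  have hS : Setting ρ b R Q := h.toSetting
  have hbe1 : ρ b e₁ = e₂ := f.be₁
  have hb2e1 : ρ (b ^ 2) e₁ = e₃ := by
    rw [pow_two, map_mul, Module.End.mul_apply, f.be₁, f.be₂]
  have hinv : ∀ (x : S) (v w : E), ρ x v = w → ρ x⁻¹ w = v := by
    intro x v w hxv
    rw [← hxv, ← Module.End.mul_apply, ← map_mul, inv_mul_cancel, map_one, Module.End.one_apply]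
  have hz : (0 : E) ∈ fixS ρ Q := Submodule.zero_mem _
  have hne2 : ∀ c : ZMod 3, e₂ ≠ c • e₁ := by
    intro c hc
    have h0 : (0 : E) + c • e₁ + (-1 : ZMod 3) • e₂ + (0 : ZMod 3) • e₃ = 0 := by
      rw [← hc]; simp
    have := (frame_indep ρ b R Q hS q₁ q₂ q₃ e₁ e₂ e₃ f 0 hz c (-1) 0 h0).2.2.1
    exact absurd this (by decide)
  have hne3 : ∀ c : ZMod 3, e₃ ≠ c • e₁ := by
    intro c hc
    have h0 : (0 : E) + c • e₁ + (0 : ZMod 3) • e₂ + (-1 : ZMod 3) • e₃ = 0 := by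
      rw [← hc]; simp
    have := (frame_indep ρ b R Q hS q₁ q₂ q₃ e₁ e₂ e₃ f 0 hz c 0 (-1) h0).2.2.2
    exact absurd this (by decide)
  have hmem : ∀ x : ↥(R ⊔ Subgroup.zpowers b),
      x ∈ k4Stab ρ (R ⊔ Subgroup.zpowers b) e₁ ↔ ∃ c : ZMod 3, ρ (x : S) e₁ = c • e₁ :=
    fun x => k4_mem_stab_iff ρ _ e₁ f.e₁0 x
  have hbnot : k4b b R ∉ k4Stab ρ (R ⊔ Subgroup.zpowers b) e₁ := by
    rw [hmem]
    rintro ⟨c, hc⟩
    rw [coe_k4b, hbe1] at hc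
    exact hne2 c hc
  have hcoe2 : ((k4b b R ^ 2 : ↥(R ⊔ Subgroup.zpowers b)) : S) = b ^ 2 := rfl
  have hb2not : k4b b R ^ 2 ∉ k4Stab ρ (R ⊔ Subgroup.zpowers b) e₁ := by
    rw [hmem]
    rintro ⟨c, hc⟩
    rw [hcoe2, hb2e1] at hc
    exact hne3 c hc
  have hb3 : k4b b R ^ 3 = 1 := by
    apply Subtype.ext
    show b ^ 3 = 1
    exact h.b3
  refine { ne12 := ?_, ne13 := ?_, ne23 := ?_, m1 := ?_, m2 := ?_, m3 := ?_, fix := ?_ }
  · intro heq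
    rw [QuotientGroup.eq, inv_one, one_mul] at heq
    exact hbnot heq
  · intro heq
    rw [QuotientGroup.eq, inv_one, one_mul] at heq
    exact hb2not heq
  · intro heq
    rw [QuotientGroup.eq] at heq
    have : (k4b b R)⁻¹ * k4b b R ^ 2 = k4b b R := by group
    rw [this] at heq
    exact hbnot heq
  · show ((k4b b R * 1 : ↥(R ⊔ Subgroup.zpowers b)) : ↥(R ⊔ Subgroup.zpowers b) ⧸
        k4Stab ρ (R ⊔ Subgroup.zpowers b) e₁) = _
    rw [mul_one]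
  · show ((k4b b R * k4b b R : ↥(R ⊔ Subgroup.zpowers b)) : ↥(R ⊔ Subgroup.zpowers b) ⧸
        k4Stab ρ (R ⊔ Subgroup.zpowers b) e₁) = _
    rw [← pow_two]
  · show ((k4b b R * k4b b R ^ 2 : ↥(R ⊔ Subgroup.zpowers b)) : ↥(R ⊔ Subgroup.zpowers b) ⧸
        k4Stab ρ (R ⊔ Subgroup.zpowers b) e₁) = _
    rw [← pow_succ', hb3]
  · intro ω
    induction ω using QuotientGroup.induction_on with
    | H g =>
      intro hg1 hg2 hg3
      show ((k4b b R * g : ↥(R ⊔ Subgroup.zpowers b)) : ↥(R ⊔ Subgroup.zpowers b) ⧸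
        k4Stab ρ (R ⊔ Subgroup.zpowers b) e₁) = _
      rcases k4_classify ρ b R Q h A hAR hAn hA2 hQA q₁ q₂ q₃ e₁ e₂ e₃ f (g : S) g.2 with
        ⟨c, hc⟩ | ⟨c, hc⟩ | ⟨c, hc⟩ | hfix
      · exfalso
        apply hg1
        symm
        rw [QuotientGroup.eq, inv_one, one_mul, hmem]
        exact ⟨c, hc⟩
      · exfalso
        apply hg2
        symm
        rw [QuotientGroup.eq, hmem]
        refine ⟨c, ?_⟩
        show ρ (b⁻¹ * (g : S)) e₁ = c • e₁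
        rw [map_mul, Module.End.mul_apply, hc, map_smul, hinv b e₁ e₂ hbe1]
      · exfalso
        apply hg3
        symm
        rw [QuotientGroup.eq, hmem]
        refine ⟨c, ?_⟩
        show ρ ((b ^ 2)⁻¹ * (g : S)) e₁ = c • e₁
        rw [map_mul, Module.End.mul_apply, hc, map_smul, hinv (b ^ 2) e₁ e₃ hb2e1]
      · symm
        rw [QuotientGroup.eq, hmem]
        refine ⟨1, ?_⟩
        show ρ ((g : S)⁻¹ * (b * (g : S))) e₁ = (1 : ZMod 3) • e₁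
        have hbfix : ρ b (ρ (g : S) e₁) = ρ (g : S) e₁ :=
          (b_fix_fixQ ρ b R Q hS).1 _ hfix
        rw [map_mul, map_mul, Module.End.mul_apply, Module.End.mul_apply, hbfix, one_smul]
        exact hinv (g : S) e₁ _ rfl

end Cfsg.Agent.Helper12.S15
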