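import Mathlib
import Cfsg.Agent.Lib.S15.S15Defs
import Cfsg.Agent.Lib.S15.K4Defs

/-! S4415, block K4 (helper21), piece K4SPAN.  See plans/S4415_K4_plan.md.

`N := span {ρ x e | x ∈ X}` is X-invariant: `Submodule.span_induction`, `ρ y (ρ x e) = ρ (y*x) e` with `y*x ∈ X`.  `e = ρ 1 e ∈ N`, `e ≠ 0` so `N ≠ ⊥`; `h.irr N` gives `N = ⊤`.
-/

set_option autoImplicit false

namespace Cfsg.Agent.Helper12.S15

theorem k4_span_top {S : Type*} [Group S] [Finite S] {E : Type*} [AddCommGroup E]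
    [Module (ZMod 3) E] [Finite E] (ρ : Representation (ZMod 3) S E) (b : S) (R Q : Subgroup S)
    (h : RSetting ρ b R Q) (e : E) (he : e ≠ 0) :
    Submodule.span (ZMod 3) {w : E | ∃ x ∈ R ⊔ Subgroup.zpowers b, w = ρ x e} = ⊤ := by
  have hinv : ∀ y ∈ R ⊔ Subgroup.zpowers b,
      ∀ v ∈ Submodule.span (ZMod 3) {w : E | ∃ x ∈ R ⊔ Subgroup.zpowers b, w = ρ x e},
        ρ y v ∈ Submodule.span (ZMod 3) {w : E | ∃ x ∈ R ⊔ Subgroup.zpowers b, w = ρ x e} := by
    intro y hy v hv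
    have hle : Submodule.span (ZMod 3) {w : E | ∃ x ∈ R ⊔ Subgroup.zpowers b, w = ρ x e} ≤
        (Submodule.span (ZMod 3) {w : E | ∃ x ∈ R ⊔ Subgroup.zpowers b, w = ρ x e}).comap (ρ y) := by
      rw [Submodule.span_le]
      rintro w ⟨x, hx, rfl⟩
      rw [SetLike.mem_coe, Submodule.mem_comap]
      have e1 : ρ y (ρ x e) = ρ (y * x) e := by
        rw [map_mul]
        rfl
      rw [e1]
      exact Submodule.subset_span ⟨y * x, Subgroup.mul_mem _ hy hx, rfl⟩
    exact hle hv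
  rcases h.irr _ hinv with h0 | h1
  · exfalso
    apply he
    have hmem : e ∈ Submodule.span (ZMod 3) {w : E | ∃ x ∈ R ⊔ Subgroup.zpowers b, w = ρ x e} := by
      apply Submodule.subset_span
      refine ⟨1, Subgroup.one_mem _, ?_⟩
      rw [map_one]
      rfl
    rw [h0] at hmem
    exact (Submodule.mem_bot _).mp hmem
  · exact h1

end Cfsg.Agent.Helper12.S15
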