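import Mathlib
import Cfsg.Agent.Lib.S15.S15Defs
import Cfsg.Agent.Lib.S15.K4Defs
import Cfsg.Agent.Lib.S15.K4SPAN

/-! S4415, block K4 (helper21), piece K4KER.  See plans/S4415_K4_plan.md.

For g ∈ X: `ρ x (ρ g e) = c • ρ g e` with `c ≠ 0` (else `ρ g e = 0`, so `e = 0`: ρ g, ρ x are injective, `ρ g⁻¹ (ρ g e) = e`), so `c*c = 1` in ZMod 3 (`fin_cases c`), hence `ρ (x^2) (ρ g e) = ρ g e`.  So `ρ (x^2)` and `1` agree on a spanning set (`k4_span_top`, `LinearMap.ext_on` / `Submodule.span_induction`), `ρ (x^2) = 1`, and `x^2 = 1` by `h.faith` (`x^2 ∈ X`).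
-/

set_option autoImplicit false

namespace Cfsg.Agent.Helper12.S15

theorem k4_ker_inj {S : Type*} [Group S] {E : Type*} [AddCommGroup E]
    [Module (ZMod 3) E] (ρ : Representation (ZMod 3) S E) (y : S) (v : E) (hv : ρ y v = 0) :
    v = 0 := by
  have h3 : ρ y⁻¹ (ρ y v) = v := by
    rw [← Module.End.mul_apply, ← map_mul, inv_mul_cancel, map_one]
    rfl
  rw [hv, map_zero] at h3
  exact h3.symm

theorem k4_ker_sq {S : Type*} [Group S] [Finite S] {E : Type*} [AddCommGroup E]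
    [Module (ZMod 3) E] [Finite E] (ρ : Representation (ZMod 3) S E) (b : S) (R Q : Subgroup S)
    (h : RSetting ρ b R Q) (e : E) (he : e ≠ 0) (x : S) (hx : x ∈ R ⊔ Subgroup.zpowers b)
    (hfix : ∀ g ∈ R ⊔ Subgroup.zpowers b, ∃ c : ZMod 3, ρ x (ρ g e) = c • ρ g e) :
    x ^ 2 = 1 := by
  classical
  have hx2 : x ^ 2 ∈ R ⊔ Subgroup.zpowers b := Subgroup.pow_mem _ hx 2
  apply h.faith _ hx2
  have hspan := k4_span_top ρ b R Q h e he
  apply LinearMap.ext_on hspan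
  rintro w ⟨g, hg, rfl⟩
  obtain ⟨c, hc⟩ := hfix g hg
  have hw0 : ρ g e ≠ 0 := fun h0 => he (k4_ker_inj ρ g e h0)
  have hc0 : c ≠ 0 := by
    intro h0
    rw [h0, zero_smul] at hc
    exact hw0 (k4_ker_inj ρ x _ hc)
  have hcc : c * c = 1 := by
    have hall : ∀ c : ZMod 3, c ≠ 0 → c * c = 1 := by decide
    exact hall c hc0
  change ρ (x ^ 2) (ρ g e) = ρ g e
  rw [pow_two, map_mul, Module.End.mul_apply, hc, map_smul, hc, smul_smul, hcc, one_smul]

end Cfsg.Agent.Helper12.S15
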