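import Mathlib
import Cfsg.Agent.Lib.S15.S15Defs
import Cfsg.Agent.Lib.S15.K4Defs
import Cfsg.Agent.Lib.S15.K4KER
import Cfsg.Agent.Lib.S15.K4STAB

/-! S4415, block K4 (helper21), piece K4APPK.  See plans/S4415_K4_plan.md.

For g ∈ X: `x • (g : X⧸H) = g` means `g⁻¹ * (x * g) ∈ H` (`QuotientGroup.eq`), i.e. (`k4_mem_stab_iff`) `ρ (g⁻¹*x*g) e = c • e`, i.e. `ρ x (ρ g e) = c • ρ g e` (apply ρ g).  Then `k4_ker_sq` gives `(x:S)^2 = 1`; conclude in the subtype (`Subtype.ext`, `Subgroup.coe_pow`).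
-/

set_option autoImplicit false

namespace Cfsg.Agent.Helper12.S15

theorem k4_act_ker {S : Type*} [Group S] [Finite S] {E : Type*} [AddCommGroup E]
    [Module (ZMod 3) E] [Finite E] (ρ : Representation (ZMod 3) S E) (b : S) (R Q : Subgroup S)
    (h : RSetting ρ b R Q) (e : E) (he : e ≠ 0) (x : ↥(R ⊔ Subgroup.zpowers b))
    (hx : ∀ ω : ↥(R ⊔ Subgroup.zpowers b) ⧸ k4Stab ρ (R ⊔ Subgroup.zpowers b) e, x • ω = ω) :
    x ^ 2 = 1 := by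
  have key : (x : S) ^ 2 = 1 := by
    apply k4_ker_sq ρ b R Q h e he (x : S) x.2
    intro g hg
    have h1 := hx (((⟨g, hg⟩ : ↥(R ⊔ Subgroup.zpowers b)) :
      ↥(R ⊔ Subgroup.zpowers b) ⧸ k4Stab ρ (R ⊔ Subgroup.zpowers b) e))
    have h1' : ((x * (⟨g, hg⟩ : ↥(R ⊔ Subgroup.zpowers b)) : ↥(R ⊔ Subgroup.zpowers b)) :
        ↥(R ⊔ Subgroup.zpowers b) ⧸ k4Stab ρ (R ⊔ Subgroup.zpowers b) e) =
        ((⟨g, hg⟩ : ↥(R ⊔ Subgroup.zpowers b)) :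
        ↥(R ⊔ Subgroup.zpowers b) ⧸ k4Stab ρ (R ⊔ Subgroup.zpowers b) e) := h1
    have h2 : (⟨g, hg⟩ : ↥(R ⊔ Subgroup.zpowers b))⁻¹ * (x * ⟨g, hg⟩) ∈
        k4Stab ρ (R ⊔ Subgroup.zpowers b) e := QuotientGroup.eq.mp h1'.symm
    obtain ⟨c, hc⟩ := (k4_mem_stab_iff ρ (R ⊔ Subgroup.zpowers b) e he _).mp h2
    refine ⟨c, ?_⟩
    have h3 : ((((⟨g, hg⟩ : ↥(R ⊔ Subgroup.zpowers b))⁻¹ * (x * ⟨g, hg⟩) :
        ↥(R ⊔ Subgroup.zpowers b)) : S)) = g⁻¹ * ((x : S) * g) := rfl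
    rw [h3] at hc
    have h4 : ρ g (ρ (g⁻¹ * ((x : S) * g)) e) = ρ (x : S) (ρ g e) := by
      rw [← Module.End.mul_apply, ← map_mul, mul_inv_cancel_left, map_mul, Module.End.mul_apply]
    rw [← h4, hc, map_smul]
  apply Subtype.ext
  rw [Subgroup.coe_pow, key]
  rfl

end Cfsg.Agent.Helper12.S15
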