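import Mathlib
import Cfsg.Agent.Lib.S15.S15Defs
import Cfsg.Agent.Lib.S15.K4Defs

/-! S4415, block K4 (helper21), piece K4GEN.  See plans/S4415_K4_plan.md.

Every element of `X = R ⊔ zpowers b` is `r * b^i`, r ∈ R, i : ℕ.  E.g. show `T := {x : S | ∃ r ∈ R, ∃ i : ℕ, x = r * b^i}` is (the carrier of) a subgroup containing R and b: product `(r*b^i)*(r'*b^j) = r * (b^i*r'*(b^i)⁻¹) * b^(i+j)` (`h.bR` iterated), inverse `(r*b^i)⁻¹ = ((b^i)⁻¹*r⁻¹*b^i) * b^(3*i - i)`… (use `b⁻¹ = b^2` from `h.b3`, `bR_inv` in Lib/S15/LN3.lean), or use `Subgroup.closure_induction` on `R ⊔ zpowers b = closure (R ∪ zpowers b)`.  Then transfer to the subtype: `k4b b R` has coercion `b` (`coe_k4b`), `Subgroup.mem_subgroupOf`.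
-/

set_option autoImplicit false

namespace Cfsg.Agent.Helper12.S15

/-- `⟨b⟩` normalises `R` when `b R b⁻¹ ⊆ R` and `b³ = 1` -/
theorem k4gen_zpowers_le_normalizer {S : Type*} [Group S] (b : S) (R : Subgroup S)
    (hb3 : b ^ 3 = 1) (hbR : ∀ r ∈ R, b * r * b⁻¹ ∈ R) :
    Subgroup.zpowers b ≤ Subgroup.normalizer R := by
  rw [Subgroup.zpowers_le, Subgroup.mem_normalizer_iff]
  intro n
  constructor
  · exact hbR n
  · intro hn
    have h1 := hbR _ (hbR _ hn)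
    have hbinv : b⁻¹ = b * b := by
      apply inv_eq_of_mul_eq_one_right
      rw [← pow_three, hb3]
    have e : b * (b * (b * n * b⁻¹) * b⁻¹) * b⁻¹ = n := by
      have e1 : b * (b * (b * n * b⁻¹) * b⁻¹) * b⁻¹ = (b * b * b) * n * (b⁻¹ * b⁻¹ * b⁻¹) := by group
      have e2 : b * b * b = 1 := by rw [← pow_three', hb3]
      have e3 : b⁻¹ * b⁻¹ * b⁻¹ = 1 := by
        have : b⁻¹ * b⁻¹ * b⁻¹ = (b * b * b)⁻¹ := by group
        rw [this, e2, inv_one]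
      rw [e1, e2, e3, one_mul, mul_one]
    rw [← e]; exact h1

/-- every element of `R ⊔ ⟨b⟩` is `r * b ^ i` with `r ∈ R`, `i : ℕ` -/
theorem k4gen_decomp {S : Type*} [Group S] (b : S) (R : Subgroup S)
    (hb3 : b ^ 3 = 1) (hbR : ∀ r ∈ R, b * r * b⁻¹ ∈ R) (x : S)
    (hx : x ∈ R ⊔ Subgroup.zpowers b) : ∃ r ∈ R, ∃ i : ℕ, x = r * b ^ i := by
  have h1 := Subgroup.coe_mul_of_right_le_normalizer_left R (Subgroup.zpowers b)
    (k4gen_zpowers_le_normalizer b R hb3 hbR)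
  have h2 : x ∈ ((R ⊔ Subgroup.zpowers b : Subgroup S) : Set S) := hx
  rw [h1] at h2
  obtain ⟨r, hr, c, hc, rfl⟩ := Set.mem_mul.mp h2
  obtain ⟨k, rfl⟩ := Subgroup.mem_zpowers_iff.mp hc
  refine ⟨r, hr, (k % 3).toNat, ?_⟩
  congr 1
  have h3 : (0 : ℤ) ≤ k % 3 := Int.emod_nonneg k (by norm_num)
  have h4 : b ^ k = b ^ (k % 3) := by
    conv_lhs => rw [← Int.emod_add_mul_ediv k 3]
    rw [zpow_add, zpow_mul]
    have : b ^ (3 : ℤ) = 1 := by
      have := hb3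
      exact_mod_cast this
    rw [this, one_zpow, mul_one]
  rw [h4]
  conv_lhs => rw [← Int.toNat_of_nonneg h3]
  rw [zpow_natCast]

theorem k4_gen {S : Type*} [Group S] [Finite S] {E : Type*} [AddCommGroup E]
    [Module (ZMod 3) E] [Finite E] (ρ : Representation (ZMod 3) S E) (b : S) (R Q : Subgroup S)
    (h : Setting ρ b R Q) (x : ↥(R ⊔ Subgroup.zpowers b)) :
    ∃ r ∈ R.subgroupOf (R ⊔ Subgroup.zpowers b), ∃ i : ℕ, x = r * k4b b R ^ i := by
  obtain ⟨r, hr, i, hxi⟩ := k4gen_decomp b R h.b3 h.bR (x : S) x.2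
  refine ⟨⟨r, Subgroup.mem_sup_left hr⟩, ?_, i, ?_⟩
  · rw [Subgroup.mem_subgroupOf]; exact hr
  · apply Subtype.ext
    rw [Subgroup.coe_mul, Subgroup.coe_pow, coe_k4b]
    exact hxi

end Cfsg.Agent.Helper12.S15
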