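import Mathlib
import Cfsg.Agent.Lib.S15.S15Defs
import Cfsg.Agent.Lib.S15.K4Defs
import Cfsg.Agent.Lib.S15.K4GEN
import Cfsg.Agent.Lib.S15.K4APPC
import Cfsg.Agent.Lib.S15.K4APPK

/-! S4415, block K4 (helper21), piece K4APP.  See plans/S4415_K4_plan.md.

Assemble the fields of `K4Act`: `cop`: `Nat.card (R.subgroupOf X) = Nat.card R` (`Subgroup.subgroupOfEquivOfLe le_sup_left`, `Nat.card_congr`), `h.cop`.  `b3`: `Subtype.ext`, `h.b3`.  `bR`: `Subgroup.mem_subgroupOf`, `h.bR`.  `gen := k4_gen …`.  `ker := k4_act_ker … e₁ f.e₁0`.  `cyc := k4_act_cyc …`.  `trans`: `QuotientGroup.induction_on ω`, take `x = g` (`g • (1 : X⧸H) = (g*1 : X)`).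
-/

set_option autoImplicit false

namespace Cfsg.Agent.Helper12.S15

theorem k4_act {S : Type*} [Group S] [Finite S] {E : Type*} [AddCommGroup E]
    [Module (ZMod 3) E] [Finite E] (ρ : Representation (ZMod 3) S E) (b : S) (R Q : Subgroup S)
    (h : RSetting ρ b R Q) (A : Subgroup S) (hAR : A ≤ R) (hAn : XNormal b R A)
    (hA2 : ∀ a ∈ A, a ^ 2 = 1) (hQA : Q ≤ A) (q₁ q₂ q₃ : S) (e₁ e₂ e₃ : E)
    (f : QFrame ρ b Q q₁ q₂ q₃ e₁ e₂ e₃) :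
    K4Act (R.subgroupOf (R ⊔ Subgroup.zpowers b)) (k4b b R)
      (((1 : ↥(R ⊔ Subgroup.zpowers b)) : ↥(R ⊔ Subgroup.zpowers b) ⧸
        k4Stab ρ (R ⊔ Subgroup.zpowers b) e₁))
      ((k4b b R : ↥(R ⊔ Subgroup.zpowers b)) : ↥(R ⊔ Subgroup.zpowers b) ⧸
        k4Stab ρ (R ⊔ Subgroup.zpowers b) e₁)
      ((k4b b R ^ 2 : ↥(R ⊔ Subgroup.zpowers b)) : ↥(R ⊔ Subgroup.zpowers b) ⧸
        k4Stab ρ (R ⊔ Subgroup.zpowers b) e₁) := by
  have hS : Setting ρ b R Q := h.toSetting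
  refine ⟨?_, ?_, ?_, ?_, ?_, ?_, ?_⟩
  · -- cop
    have hc : Nat.card ↥(R.subgroupOf (R ⊔ Subgroup.zpowers b)) = Nat.card ↥R :=
      Nat.card_congr (Subgroup.subgroupOfEquivOfLe (le_sup_left : R ≤ R ⊔ Subgroup.zpowers b)).toEquiv
    rw [hc]
    exact hS.cop
  · -- b3
    apply Subtype.ext
    rw [Subgroup.coe_pow, coe_k4b, Subgroup.coe_one]
    exact hS.b3
  · -- bR
    intro r hr
    rw [Subgroup.mem_subgroupOf] at hr ⊢
    have h1 : ((k4b b R * r * (k4b b R)⁻¹ : ↥(R ⊔ Subgroup.zpowers b)) : S) =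
        b * (r : S) * b⁻¹ := by
      rw [Subgroup.coe_mul, Subgroup.coe_mul, Subgroup.coe_inv, coe_k4b]
    rw [h1]
    exact hS.bR _ hr
  · exact fun x => k4_gen ρ b R Q hS x
  · exact fun x hx => k4_act_ker ρ b R Q h e₁ f.e₁0 x hx
  · exact k4_act_cyc ρ b R Q h A hAR hAn hA2 hQA q₁ q₂ q₃ e₁ e₂ e₃ f
  · intro ω
    induction ω using QuotientGroup.induction_on with
    | H g =>
      refine ⟨g, ?_⟩
      show ((g * 1 : ↥(R ⊔ Subgroup.zpowers b)) : ↥(R ⊔ Subgroup.zpowers b) ⧸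
        k4Stab ρ (R ⊔ Subgroup.zpowers b) e₁) = _
      rw [mul_one]

end Cfsg.Agent.Helper12.S15
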