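import Mathlib
import Cfsg.Agent.Lib.S15.S15Defs
import Cfsg.Agent.Lib.S15.K4Defs

/-! S4415, block K4 (helper21), piece K4BPOW.  See plans/S4415_K4_plan.md.

`b ≠ 1` because `b • ω₁ = ω₂ ≠ ω₁` (`h.cyc`); with `h.b3`, `orderOf b = 3` (`orderOf_eq_prime`).  If `b^k ∈ R` then `(b^k)^(Nat.card R) = 1` (`Subgroup.pow_card_eq_one`-style: `pow_card_eq_one'` for the element `⟨b^k,hk⟩ : ↥R`), so `3 ∣ k * Nat.card R` (`orderOf_dvd_of_pow_eq_one`), and `3 ∣ k` by `h.cop` (`Nat.Coprime.dvd_of_dvd_mul_right`).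
-/

set_option autoImplicit false

namespace Cfsg.Agent.Helper12.S15

theorem k4_b_pow_mem {G : Type*} [Group G] [Finite G] {Ω : Type*} [MulAction G Ω]
    {R : Subgroup G} {b : G} {ω₁ ω₂ ω₃ : Ω} (h : K4Act R b ω₁ ω₂ ω₃) (k : ℕ)
    (hk : b ^ k ∈ R) : 3 ∣ k := by
  have hb1 : b ≠ 1 := by
    intro hb
    have h1 := h.cyc.m1
    rw [hb, one_smul] at h1
    exact h.cyc.ne12 h1
  have : Fact (Nat.Prime 3) := ⟨Nat.prime_three⟩
  have hord : orderOf b = 3 := orderOf_eq_prime h.b3 hb1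
  have h2 : (⟨b ^ k, hk⟩ : ↥R) ^ Nat.card ↥R = 1 := pow_card_eq_one'
  have h3 : (b ^ k) ^ Nat.card ↥R = 1 := by
    have h4 : (((⟨b ^ k, hk⟩ : ↥R) ^ Nat.card ↥R : ↥R) : G) = ((1 : ↥R) : G) := by rw [h2]
    rw [Subgroup.coe_pow, Subgroup.coe_one] at h4
    exact h4
  rw [← pow_mul] at h3
  have h5 : 3 ∣ k * Nat.card ↥R := by
    rw [← hord]
    exact orderOf_dvd_of_pow_eq_one h3
  exact (Nat.Coprime.symm h.cop).dvd_of_dvd_mul_right h5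

end Cfsg.Agent.Helper12.S15
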