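import Mathlib
import Cfsg.Agent.Lib.S15.S15Defs
import Cfsg.Agent.Lib.S15.K4Defs

/-! S4415, block K4 (helper21), piece K4C.  See plans/S4415_K4_plan.md.

`b` centralises `A`.  (1) `R ≤ Subgroup.centralizer A` by `h.gen`: for r ∈ R, a ∈ A: `r * a * r⁻¹ ∈ A` (hAn, r ∈ X by `Subgroup.mem_sup_left`), so b commutes with it and with a; compute `(r⁻¹*(b*r*b⁻¹)) * a = a * (r⁻¹*(b*r*b⁻¹))`.  Hence every x ∈ R ⊔ zpowers b commutes with every a ∈ A (`sup_le`, `Subgroup.zpowers_le`).  (2) For a ∈ A: `N = LinearMap.ker (ρ a - 1)` is X-invariant (ρ a commutes with ρ x), so `N = ⊥ ∨ N = ⊤` by `h.irr`.  `⊤`: ρ a = 1.  `⊥`: for all v, `(ρ a - 1)(ρ a v + v) = ρ (a^2) v - v = 0` (hA2), so `ρ a v + v = 0`, `ρ a = -1` (`LinearMap.ext`).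
-/

set_option autoImplicit false

namespace Cfsg.Agent.Helper12.S15

theorem k4_central {S : Type*} [Group S] [Finite S] {E : Type*} [AddCommGroup E]
    [Module (ZMod 3) E] [Finite E] (ρ : Representation (ZMod 3) S E) (b : S) (R Q : Subgroup S)
    (h : RSetting ρ b R Q) (A : Subgroup S) (hAR : A ≤ R) (hAn : XNormal b R A)
    (hA2 : ∀ a ∈ A, a ^ 2 = 1) (hc : ∀ a ∈ A, b * a * b⁻¹ = a) :
    ∀ a ∈ A, ρ a = 1 ∨ ρ a = -1 := by
  -- (1) X centralises A
  have hRc : R ≤ Subgroup.centralizer (A : Set S) := by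
    apply h.gen
    intro r hr
    rw [Subgroup.mem_centralizer_iff]
    intro a ha
    have ha' : r * a * r⁻¹ ∈ A := hAn r (Subgroup.mem_sup_left hr) a ha
    have h1 := hc _ ha'
    have h2 := hc a ha
    have h3 : b⁻¹ * a * b = a := by
      calc b⁻¹ * a * b = b⁻¹ * (b * a * b⁻¹) * b := by rw [h2]
        _ = a := by group
    -- x a x⁻¹ = a
    have key : (r⁻¹ * (b * r * b⁻¹)) * a * (r⁻¹ * (b * r * b⁻¹))⁻¹ = a := by
      calc (r⁻¹ * (b * r * b⁻¹)) * a * (r⁻¹ * (b * r * b⁻¹))⁻¹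
          = r⁻¹ * (b * (r * (b⁻¹ * a * b) * r⁻¹) * b⁻¹) * r := by group
        _ = r⁻¹ * (b * (r * a * r⁻¹) * b⁻¹) * r := by rw [h3]
        _ = r⁻¹ * (r * a * r⁻¹) * r := by rw [h1]
        _ = a := by group
    calc a * (r⁻¹ * (b * r * b⁻¹))
        = ((r⁻¹ * (b * r * b⁻¹)) * a * (r⁻¹ * (b * r * b⁻¹))⁻¹) * (r⁻¹ * (b * r * b⁻¹)) := by
          rw [key]
      _ = (r⁻¹ * (b * r * b⁻¹)) * a := by group
  have hbc : b ∈ Subgroup.centralizer (A : Set S) := by
    rw [Subgroup.mem_centralizer_iff]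
    intro a ha
    have h2 := hc a ha
    calc a * b = (b * a * b⁻¹) * b := by rw [h2]
      _ = b * a := by group
  have hXc : R ⊔ Subgroup.zpowers b ≤ Subgroup.centralizer (A : Set S) := by
    apply sup_le hRc
    rw [Subgroup.zpowers_le]
    exact hbc
  intro a ha
  -- (2) the fixed space of a
  have hinv : ∀ x ∈ R ⊔ Subgroup.zpowers b, ∀ v ∈ LinearMap.ker (ρ a - 1),
      ρ x v ∈ LinearMap.ker (ρ a - 1) := by
    intro x hx v hv
    rw [LinearMap.mem_ker, LinearMap.sub_apply, Module.End.one_apply, sub_eq_zero] at hv ⊢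
    have hcomm : a * x = x * a := (Subgroup.mem_centralizer_iff.mp (hXc hx)) a ha
    rw [← Module.End.mul_apply, ← map_mul, hcomm, map_mul, Module.End.mul_apply, hv]
  rcases h.irr _ hinv with h0 | h0
  · right
    ext v
    have hmem : ρ a v + v ∈ LinearMap.ker (ρ a - 1) := by
      rw [LinearMap.mem_ker, LinearMap.sub_apply, Module.End.one_apply, map_add]
      have : ρ a (ρ a v) = v := by
        rw [← Module.End.mul_apply, ← map_mul, ← pow_two, hA2 a ha, map_one, Module.End.one_apply]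
      rw [this]
      abel
    rw [h0, Submodule.mem_bot] at hmem
    rw [LinearMap.neg_apply, Module.End.one_apply]
    exact eq_neg_of_add_eq_zero_left hmem
  · left
    ext v
    have hmem : v ∈ LinearMap.ker (ρ a - 1) := by rw [h0]; trivial
    rw [LinearMap.mem_ker, LinearMap.sub_apply, Module.End.one_apply, sub_eq_zero] at hmem
    rw [hmem, Module.End.one_apply]

end Cfsg.Agent.Helper12.S15
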