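import Mathlib
import Cfsg.Agent.Lib.S15.S15Defs
import Cfsg.Agent.Lib.S15.K4Defs

/-! S4415, block K4 (helper21), piece K4COSET.  See plans/S4415_K4_plan.md.

Induction on `m`.  First: `b⁻¹ * r * b ∈ R` for `r ∈ R` (since `b⁻¹ = b^2` by `h.b3`, apply `h.bR` twice), hence `b^(-i) * r * b^i ∈ R` (induction on i; use ℕ-powers with `(b^i)⁻¹`).  Step: `(b^i*r)^(m+1) = (b^i*r)^m * (b^i*r) = b^(i*m) * r' * b^i * r = b^(i*m) * b^i * ((b^i)⁻¹ * r' * b^i) * r`.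
-/

set_option autoImplicit false

namespace Cfsg.Agent.Helper12.S15

theorem k4_coset_binv {G : Type*} [Group G] {Ω : Type*} [MulAction G Ω]
    {R : Subgroup G} {b : G} {ω₁ ω₂ ω₃ : Ω} (h : K4Act R b ω₁ ω₂ ω₃) (s : G) (hs : s ∈ R) :
    b⁻¹ * s * b ∈ R := by
  have hb : b⁻¹ = b * b := by
    apply inv_eq_of_mul_eq_one_right
    have := h.b3
    rw [pow_succ, pow_two] at this
    rw [← mul_assoc]
    exact this
  have h1 := h.bR _ (h.bR s hs)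
  have e : b⁻¹ * s * b = b * (b * s * b⁻¹) * b⁻¹ := by
    calc b⁻¹ * s * b = b⁻¹ * s * (b⁻¹)⁻¹ := by rw [inv_inv]
      _ = (b * b) * s * (b * b)⁻¹ := by rw [hb]
      _ = b * (b * s * b⁻¹) * b⁻¹ := by group
  rw [e]
  exact h1

theorem k4_coset_bpow_inv {G : Type*} [Group G] {Ω : Type*} [MulAction G Ω]
    {R : Subgroup G} {b : G} {ω₁ ω₂ ω₃ : Ω} (h : K4Act R b ω₁ ω₂ ω₃) (i : ℕ) :
    ∀ s ∈ R, (b ^ i)⁻¹ * s * b ^ i ∈ R := by
  induction i with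
  | zero => intro s hs; simpa using hs
  | succ i ih =>
    intro s hs
    have h1 := k4_coset_binv h _ (ih s hs)
    have e : (b ^ (i + 1))⁻¹ * s * b ^ (i + 1) = b⁻¹ * ((b ^ i)⁻¹ * s * b ^ i) * b := by
      rw [pow_succ, mul_inv_rev]
      group
    rw [e]
    exact h1

theorem k4_coset_pow {G : Type*} [Group G] [Finite G] {Ω : Type*} [MulAction G Ω]
    {R : Subgroup G} {b : G} {ω₁ ω₂ ω₃ : Ω} (h : K4Act R b ω₁ ω₂ ω₃) (r : G) (hr : r ∈ R)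
    (i m : ℕ) : ∃ r' ∈ R, (b ^ i * r) ^ m = b ^ (i * m) * r' := by
  induction m with
  | zero => exact ⟨1, R.one_mem, by simp⟩
  | succ m ih =>
    obtain ⟨r', hr', he⟩ := ih
    refine ⟨((b ^ i)⁻¹ * r' * b ^ i) * r, R.mul_mem (k4_coset_bpow_inv h i r' hr') hr, ?_⟩
    rw [pow_succ, he, Nat.mul_succ, pow_add]
    group

end Cfsg.Agent.Helper12.S15
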