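import Mathlib
import Cfsg.Agent.Lib.S15.S15Defs
import Cfsg.Agent.Lib.S15.K4Defs
import Cfsg.Agent.Lib.S15.K4COSET

/-! S4415, block K4 (helper21), piece K4COND1.  See plans/S4415_K4_plan.md.

`y = (r*b*r⁻¹)⁻¹ * (r'*b*r'⁻¹) = r * (b⁻¹ * (r⁻¹*r') * b) * r'⁻¹ ∈ R` (`b⁻¹ * s * b ∈ R` for `s ∈ R` since `b⁻¹ = b^2`, from `h.b3`, `h.bR`).  Take `m = Nat.card R`: `y^m = 1` (`pow_card_eq_one'` in `↥R`), and `¬ 3 ∣ Nat.card R` from `h.cop`.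
-/

set_option autoImplicit false

namespace Cfsg.Agent.Helper12.S15

theorem k4_cond_one {G : Type*} [Group G] [Finite G] {Ω : Type*} [MulAction G Ω]
    {R : Subgroup G} {b : G} {ω₁ ω₂ ω₃ : Ω} (h : K4Act R b ω₁ ω₂ ω₃) (r r' : G) (hr : r ∈ R)
    (hr' : r' ∈ R) :
    ∃ m : ℕ, ¬ 3 ∣ m ∧ ((r * b * r⁻¹)⁻¹ * (r' * b * r'⁻¹)) ^ m = 1 := by
  have hy : (r * b * r⁻¹)⁻¹ * (r' * b * r'⁻¹) ∈ R := by
    have h1 : b⁻¹ * (r⁻¹ * r') * b ∈ R := k4_coset_binv h _ (R.mul_mem (R.inv_mem hr) hr')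
    have e : (r * b * r⁻¹)⁻¹ * (r' * b * r'⁻¹) = r * (b⁻¹ * (r⁻¹ * r') * b) * r'⁻¹ := by group
    rw [e]
    exact R.mul_mem (R.mul_mem hr h1) (R.inv_mem hr')
  refine ⟨Nat.card ↥R, ?_, ?_⟩
  · exact (Nat.Prime.coprime_iff_not_dvd Nat.prime_three).mp h.cop.symm
  · have h2 : (⟨_, hy⟩ : ↥R) ^ Nat.card ↥R = 1 := pow_card_eq_one'
    have h3 : (((⟨_, hy⟩ : ↥R) ^ Nat.card ↥R : ↥R) : G) = ((1 : ↥R) : G) := by rw [h2]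
    rw [Subgroup.coe_pow, Subgroup.coe_one] at h3
    exact h3

end Cfsg.Agent.Helper12.S15
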