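import Mathlib
import Cfsg.Agent.Lib.S15.S15Defs
import Cfsg.Agent.Lib.S15.K4Defs
import Cfsg.Agent.Lib.S15.K4COSET
import Cfsg.Agent.Lib.S15.K4BPOW

/-! S4415, block K4 (helper21), piece K4COND2.  See plans/S4415_K4_plan.md.

`z = (r*b*r⁻¹)*(r'*b*r'⁻¹) = b^2 * r''` with `r'' = (b^2)⁻¹ * r * b^2 * (b⁻¹ * (r⁻¹*r') * b) * r'⁻¹ ∈ R`.  From `hk` and `h.ker`: `(z^k)^2 = 1`.  By `k4_coset_pow` (i = 2, m = k*2): `1 = z^(k*2) = b^(2*(k*2)) * r₁`, so `b^(2*(k*2)) = r₁⁻¹ ∈ R`, so `3 ∣ 2*(k*2)` by `k4_b_pow_mem`, hence `3 ∣ k` (omega).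
-/

set_option autoImplicit false

namespace Cfsg.Agent.Helper12.S15

theorem k4_cond_two {G : Type*} [Group G] [Finite G] {Ω : Type*} [MulAction G Ω]
    {R : Subgroup G} {b : G} {ω₁ ω₂ ω₃ : Ω} (h : K4Act R b ω₁ ω₂ ω₃) (r r' : G) (hr : r ∈ R)
    (hr' : r' ∈ R) (k : ℕ)
    (hk : ∀ ω : Ω, ((r * b * r⁻¹) * (r' * b * r'⁻¹)) ^ k • ω = ω) : 3 ∣ k := by
  have h1 : b⁻¹ * (r⁻¹ * r') * b ∈ R := k4_coset_binv h _ (R.mul_mem (R.inv_mem hr) hr')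
  have h2 : (b ^ 2)⁻¹ * r * b ^ 2 ∈ R := k4_coset_bpow_inv h 2 r hr
  have hr'' : (b ^ 2)⁻¹ * r * b ^ 2 * (b⁻¹ * (r⁻¹ * r') * b) * r'⁻¹ ∈ R :=
    R.mul_mem (R.mul_mem h2 h1) (R.inv_mem hr')
  have e : (r * b * r⁻¹) * (r' * b * r'⁻¹) =
      b ^ 2 * ((b ^ 2)⁻¹ * r * b ^ 2 * (b⁻¹ * (r⁻¹ * r') * b) * r'⁻¹) := by group
  have hz := h.ker _ hk
  rw [← pow_mul, e] at hz
  obtain ⟨r₁, hr₁, he⟩ := k4_coset_pow h _ hr'' 2 (k * 2)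
  rw [he] at hz
  have hb : b ^ (2 * (k * 2)) ∈ R := by
    have : b ^ (2 * (k * 2)) = r₁⁻¹ := eq_inv_of_mul_eq_one_left hz
    rw [this]
    exact R.inv_mem hr₁
  have := k4_b_pow_mem h _ hb
  omega

end Cfsg.Agent.Helper12.S15
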