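import Mathlib
import Cfsg.Agent.Lib.S15.S15Defs
import Cfsg.Agent.Lib.S15.K4Defs

/-! S4415, block K4 (helper21), piece K4COVER.  See plans/S4415_K4_plan.md.

`h.trans ω` gives `x` with `x • ω₁ = ω`; `h.gen x` gives `x = r * b^i`; so `ω = r • (b^i • ω₁)`, and `b^i • ω₁ ∈ {ω₁,ω₂,ω₃}` by induction on `i` (using `h.cyc.m1/m2/m3`).
-/

set_option autoImplicit false

namespace Cfsg.Agent.Helper12.S15

theorem k4_cover {G : Type*} [Group G] [Finite G] {Ω : Type*} [MulAction G Ω]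
    {R : Subgroup G} {b : G} {ω₁ ω₂ ω₃ : Ω} (h : K4Act R b ω₁ ω₂ ω₃) (ω : Ω) :
    ∃ r ∈ R, ω = r • ω₁ ∨ ω = r • ω₂ ∨ ω = r • ω₃ := by
  have hpow : ∀ i : ℕ, b ^ i • ω₁ = ω₁ ∨ b ^ i • ω₁ = ω₂ ∨ b ^ i • ω₁ = ω₃ := by
    intro i
    induction i with
    | zero =>
      left
      rw [pow_zero, one_smul]
    | succ i ih =>
      rw [pow_succ', mul_smul]
      rcases ih with h1 | h1 | h1
      · right; left
        rw [h1, h.cyc.m1]
      · right; right
        rw [h1, h.cyc.m2]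
      · left
        rw [h1, h.cyc.m3]
  obtain ⟨x, hx⟩ := h.trans ω
  obtain ⟨r, hr, i, rfl⟩ := h.gen x
  refine ⟨r, hr, ?_⟩
  rw [← hx, mul_smul]
  rcases hpow i with h1 | h1 | h1
  · left; rw [h1]
  · right; left; rw [h1]
  · right; right; rw [h1]

end Cfsg.Agent.Helper12.S15
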