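import Mathlib
import Cfsg.Agent.Lib.S15.S15Defs
import Cfsg.Agent.Lib.S15.K4Defs

/-! S4415, block K4 (helper21), piece K4CYC.  See plans/S4415_K4_plan.md.

`y` maps `a ↦ c ↦ d ↦ a` with `a ≠ c` (hence also `d ≠ a`: else `y • d = y • a` gives `a = c`).  Then `y^3 • a = a`, so by induction `y^(3*q) • a = a`; write `m = 3*q + s` (`Nat.div_add_mod`), `s < 3`; `y^m • a = y^s • a` (`pow_add`, `mul_smul`) which is `c` (s=1) or `d` (s=2), both `≠ a`; hence `s = 0`.
-/

set_option autoImplicit false

namespace Cfsg.Agent.Helper12.S15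

theorem k4_three_dvd_of_cycle {G : Type*} [Group G] {Ω : Type*} [MulAction G Ω] {y : G}
    {a c d : Ω} (hac : a ≠ c) (h1 : y • a = c) (h2 : y • c = d) (h3 : y • d = a) (m : ℕ)
    (hm : y ^ m • a = a) : 3 ∣ m := by
  have hda : d ≠ a := by
    intro e
    rw [e, h1] at h3
    exact hac h3.symm
  have h3a : y ^ 3 • a = a := by
    rw [pow_succ, pow_two, mul_smul, mul_smul, h1, h2, h3]
  have hq : ∀ q : ℕ, y ^ (3 * q) • a = a := by
    intro q
    induction q with
    | zero => simp
    | succ q ih => rw [Nat.mul_succ, pow_add, mul_smul, h3a, ih]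
  have hmod : y ^ (m % 3) • a = a := by
    have e : m = m % 3 + 3 * (m / 3) := (Nat.mod_add_div m 3).symm
    rw [e, pow_add, mul_smul, hq] at hm
    exact hm
  have hlt : m % 3 < 3 := Nat.mod_lt _ (by norm_num)
  have h0 : m % 3 = 0 := by
    interval_cases hs : m % 3
    · rfl
    · exfalso
      rw [pow_one, h1] at hmod
      exact hac hmod.symm
    · exfalso
      rw [pow_two, mul_smul, h1, h2] at hmod
      exact hda hmod
  exact Nat.dvd_of_mod_eq_zero h0

end Cfsg.Agent.Helper12.S15
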