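import Mathlib
import Cfsg.Agent.Lib.S15.S15Defs
import Cfsg.Agent.Lib.S15.K4Defs
import Cfsg.Agent.Lib.S15.K4SPAN
import Cfsg.Agent.Lib.S15.K4STAB

/-! S4415, block K4 (helper21), piece K4DIM.  See plans/S4415_K4_plan.md.

Let `s : X⧸H → X` be `Quotient.out` and `v ω := ρ (s ω) e`.  Every `ρ g e` (g ∈ X) is a multiple of `v (gH)`: `(s (gH))⁻¹ * g ∈ H` (`QuotientGroup.out_eq'`, `QuotientGroup.eq`), `k4_mem_stab_iff`.  Hence `span (range v) = ⊤` (`k4_span_top`), `finrank E ≤ Fintype.card (X⧸H) ≤ 4` (`finrank_range_le_card`, `finrank_top`), and `Nat.card E = 3 ^ finrank` (`Module.card_eq_pow_finrank`, `ZMod.card`) `≤ 3^4 = 81`.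
-/

set_option autoImplicit false

namespace Cfsg.Agent.Helper12.S15

theorem k4_dim {S : Type*} [Group S] [Finite S] {E : Type*} [AddCommGroup E]
    [Module (ZMod 3) E] [Finite E] (ρ : Representation (ZMod 3) S E) (b : S) (R Q : Subgroup S)
    (h : RSetting ρ b R Q) (e : E) (he : e ≠ 0)
    (hc : Nat.card (↥(R ⊔ Subgroup.zpowers b) ⧸ k4Stab ρ (R ⊔ Subgroup.zpowers b) e) ≤ 4) :
    Nat.card E ≤ 81 := by
  classical
  set X : Subgroup S := R ⊔ Subgroup.zpowers b with hX
  set H : Subgroup ↥X := k4Stab ρ X e with hH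
  have : Fintype (↥X ⧸ H) := Fintype.ofFinite _
  have : Fintype E := Fintype.ofFinite _
  let v : (↥X ⧸ H) → E := fun ω => ρ ((Quotient.out ω : ↥X) : S) e
  -- every `ρ g e` is a multiple of some `v ω`
  have hmult : ∀ g ∈ X, ρ g e ∈ Submodule.span (ZMod 3) (Set.range v) := by
    intro g hg
    set g' : ↥X := ⟨g, hg⟩ with hg'
    set s : ↥X := Quotient.out (QuotientGroup.mk g' : ↥X ⧸ H) with hs
    have h1 : s⁻¹ * g' ∈ H := by
      rw [← QuotientGroup.eq, hs]
      exact QuotientGroup.out_eq' _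
    obtain ⟨c, hc'⟩ := (k4_mem_stab_iff ρ X e he (s⁻¹ * g')).mp h1
    have h2 : ρ g e = c • v (QuotientGroup.mk g') := by
      have e1 : g = (s : S) * ((s⁻¹ * g' : ↥X) : S) := by
        rw [Subgroup.coe_mul, Subgroup.coe_inv, hg']
        group
      show ρ g e = c • ρ ((s : ↥X) : S) e
      rw [← map_smul, ← hc', ← Module.End.mul_apply, ← map_mul, ← e1]
    rw [h2]
    exact Submodule.smul_mem _ c (Submodule.subset_span ⟨_, rfl⟩)
  have htop : Submodule.span (ZMod 3) (Set.range v) = ⊤ := by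
    rw [eq_top_iff, ← k4_span_top ρ b R Q h e he, Submodule.span_le]
    rintro w ⟨x, hx, rfl⟩
    exact hmult x hx
  have hfr : Module.finrank (ZMod 3) E ≤ 4 := by
    have h1 : (Set.range v).finrank (ZMod 3) ≤ Fintype.card (↥X ⧸ H) := finrank_range_le_card v
    have h2 : (Set.range v).finrank (ZMod 3) = Module.finrank (ZMod 3) E := by
      unfold Set.finrank
      rw [htop, finrank_top]
    rw [h2, ← Nat.card_eq_fintype_card] at h1
    exact le_trans h1 hc
  have hcard : Nat.card E = 3 ^ Module.finrank (ZMod 3) E := by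
    rw [Nat.card_eq_fintype_card, Module.card_eq_pow_finrank (K := ZMod 3) (V := E), ZMod.card]
  rw [hcard]
  calc 3 ^ Module.finrank (ZMod 3) E ≤ 3 ^ 4 := Nat.pow_le_pow_right (by norm_num) hfr
    _ = 81 := by norm_num

end Cfsg.Agent.Helper12.S15
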