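import Mathlib
import Cfsg.Agent.Lib.S15.S15Defs
import Cfsg.Agent.Lib.S15.K4Defs

/-! S4415, block K4 (helper21), piece K4ROT.  See plans/S4415_K4_plan.md.

Basic API of `K4Cyc3` (Lib/S15/K4Defs.lean).  rot: permute the fields (`fix` with the three hypotheses permuted).  conj: `(g*σ*g⁻¹) • (g • α) = g • (σ • α)` by `mul_smul`/`inv_smul_smul`; distinctness by injectivity of `g • ·` (`MulAction.injective g`); fix: for ω not among `g•αᵢ` apply `h.fix (g⁻¹ • ω)` (if `g⁻¹ • ω = αᵢ` then `ω = g • αᵢ` by `smul_inv_smul`).  inv_smul: from `σ • α₃ = α₁` get `σ⁻¹ • α₁ = α₃` (`inv_smul_eq_iff`), and `σ⁻¹ • ω = ω` from `σ • ω = ω`.  moved: by cases `ω = αᵢ` (then `σ • ω` is the next point, different) or none (then `h.fix`).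
-/

set_option autoImplicit false

namespace Cfsg.Agent.Helper12.S15

theorem k4_cyc3_rot {G : Type*} [Group G] {Ω : Type*} [MulAction G Ω] {σ : G} {α₁ α₂ α₃ : Ω}
    (h : K4Cyc3 σ α₁ α₂ α₃) : K4Cyc3 σ α₂ α₃ α₁ := by
  exact
    { ne12 := h.ne23
      ne13 := h.ne12.symm
      ne23 := h.ne13.symm
      m1 := h.m2
      m2 := h.m3
      m3 := h.m1
      fix := fun ω h2 h3 h1 => h.fix ω h1 h2 h3 }

theorem k4_cyc3_conj {G : Type*} [Group G] {Ω : Type*} [MulAction G Ω] {σ : G} {α₁ α₂ α₃ : Ω}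
    (h : K4Cyc3 σ α₁ α₂ α₃) (g : G) : K4Cyc3 (g * σ * g⁻¹) (g • α₁) (g • α₂) (g • α₃) := by
  have hinj := MulAction.injective (β := Ω) g
  have hconj : ∀ α : Ω, (g * σ * g⁻¹) • (g • α) = g • (σ • α) := by
    intro α
    rw [mul_smul, mul_smul, inv_smul_smul]
  refine
    { ne12 := fun e => h.ne12 (hinj e)
      ne13 := fun e => h.ne13 (hinj e)
      ne23 := fun e => h.ne23 (hinj e)
      m1 := by rw [hconj, h.m1]
      m2 := by rw [hconj, h.m2]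
      m3 := by rw [hconj, h.m3]
      fix := ?_ }
  intro ω h1 h2 h3
  have e : ω = g • (g⁻¹ • ω) := (smul_inv_smul g ω).symm
  have hfix := h.fix (g⁻¹ • ω)
    (fun e1 => h1 (by rw [← e1, smul_inv_smul]))
    (fun e2 => h2 (by rw [← e2, smul_inv_smul]))
    (fun e3 => h3 (by rw [← e3, smul_inv_smul]))
  conv_lhs => rw [e]
  rw [hconj, hfix, smul_inv_smul]

theorem k4_cyc3_inv_smul {G : Type*} [Group G] {Ω : Type*} [MulAction G Ω] {σ : G} {α₁ α₂ α₃ : Ω}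
    (h : K4Cyc3 σ α₁ α₂ α₃) :
    σ⁻¹ • α₁ = α₃ ∧ σ⁻¹ • α₂ = α₁ ∧ σ⁻¹ • α₃ = α₂ ∧
      ∀ ω : Ω, ω ≠ α₁ → ω ≠ α₂ → ω ≠ α₃ → σ⁻¹ • ω = ω := by
  refine ⟨?_, ?_, ?_, ?_⟩
  · rw [inv_smul_eq_iff, h.m3]
  · rw [inv_smul_eq_iff, h.m1]
  · rw [inv_smul_eq_iff, h.m2]
  · intro ω h1 h2 h3
    rw [inv_smul_eq_iff, h.fix ω h1 h2 h3]

theorem k4_cyc3_moved {G : Type*} [Group G] {Ω : Type*} [MulAction G Ω] {σ : G} {α₁ α₂ α₃ : Ω}
    (h : K4Cyc3 σ α₁ α₂ α₃) (ω : Ω) : σ • ω ≠ ω ↔ (ω = α₁ ∨ ω = α₂ ∨ ω = α₃) := by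
  constructor
  · intro hne
    by_contra hcon
    push Not at hcon
    exact hne (h.fix ω hcon.1 hcon.2.1 hcon.2.2)
  · rintro (rfl | rfl | rfl)
    · rw [h.m1]; exact h.ne12.symm
    · rw [h.m2]; exact h.ne23.symm
    · rw [h.m3]; exact h.ne13

end Cfsg.Agent.Helper12.S15
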