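import Mathlib
import Cfsg.Agent.Lib.S15.S15Defs
import Cfsg.Agent.Lib.S15.K4Defs
import Cfsg.Agent.Lib.S15.K4ROT
import Cfsg.Agent.Lib.S15.K4CYC

/-! S4415, block K4 (helper21), piece K4P0.  See plans/S4415_K4_plan.md.

Disjoint supports.  `y = σ⁻¹ * τ`: `τ` fixes `α₁,α₂,α₃` (`hτ.fix`), so `y • α₁ = σ⁻¹ • α₁ = α₃`, `y • α₃ = α₂`, `y • α₂ = α₁` (`k4_cyc3_inv_smul`).  Apply `k4_three_dvd_of_cycle` with `a = α₁, c = α₃, d = α₂` and `y^m • α₁ = α₁` from `hm` (`one_smul`).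
-/

set_option autoImplicit false

namespace Cfsg.Agent.Helper12.S15

theorem k4_pair_disjoint {G : Type*} [Group G] {Ω : Type*} [MulAction G Ω] {σ τ : G}
    {α₁ α₂ α₃ β₁ β₂ β₃ : Ω} (hσ : K4Cyc3 σ α₁ α₂ α₃) (hτ : K4Cyc3 τ β₁ β₂ β₃)
    (h1 : α₁ ≠ β₁ ∧ α₁ ≠ β₂ ∧ α₁ ≠ β₃) (h2 : α₂ ≠ β₁ ∧ α₂ ≠ β₂ ∧ α₂ ≠ β₃)
    (h3 : α₃ ≠ β₁ ∧ α₃ ≠ β₂ ∧ α₃ ≠ β₃) (m : ℕ) (hm : (σ⁻¹ * τ) ^ m = 1) : 3 ∣ m := by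
  obtain ⟨i1, i2, i3, -⟩ := k4_cyc3_inv_smul hσ
  have t1 : τ • α₁ = α₁ := hτ.fix α₁ h1.1 h1.2.1 h1.2.2
  have t2 : τ • α₂ = α₂ := hτ.fix α₂ h2.1 h2.2.1 h2.2.2
  have t3 : τ • α₃ = α₃ := hτ.fix α₃ h3.1 h3.2.1 h3.2.2
  have y1 : (σ⁻¹ * τ) • α₁ = α₃ := by rw [mul_smul, t1, i1]
  have y3 : (σ⁻¹ * τ) • α₃ = α₂ := by rw [mul_smul, t3, i3]
  have y2 : (σ⁻¹ * τ) • α₂ = α₁ := by rw [mul_smul, t2, i2]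
  exact k4_three_dvd_of_cycle hσ.ne13 y1 y3 y2 m (by rw [hm, one_smul])

end Cfsg.Agent.Helper12.S15
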