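import Mathlib
import Cfsg.Agent.Lib.S15.S15Defs
import Cfsg.Agent.Lib.S15.K4Defs
import Cfsg.Agent.Lib.S15.K4ROT

/-! S4415, block K4 (helper21), piece K4P1.  See plans/S4415_K4_plan.md.

Exactly one common point `α₁`.  `z = σ * τ` acts as the 5-cycle `α₁ ↦ β₂ ↦ β₃ ↦ α₂ ↦ α₃ ↦ α₁` (e.g. `z • α₁ = σ • (τ • α₁) = σ • β₂ = β₂` since `β₂` is none of the `α`'s; `z • β₃ = σ • α₁ = α₂`; `z • α₂ = σ • α₂ = α₃` since `τ` fixes `α₂`; ...) and fixes every other point.  So `z^5 • ω = ω` for all ω: unfold `z^5 • ω = z • z • z • z • z • ω` (`pow_succ`, `mul_smul`) and case on `ω` being one of the five points or not.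
-/

set_option autoImplicit false

namespace Cfsg.Agent.Helper12.S15

theorem k4_pair_one {G : Type*} [Group G] {Ω : Type*} [MulAction G Ω] {σ τ : G}
    {α₁ α₂ α₃ β₂ β₃ : Ω} (hσ : K4Cyc3 σ α₁ α₂ α₃) (hτ : K4Cyc3 τ α₁ β₂ β₃)
    (h22 : α₂ ≠ β₂) (h23 : α₂ ≠ β₃) (h32 : α₃ ≠ β₂) (h33 : α₃ ≠ β₃) :
    ∀ ω : Ω, (σ * τ) ^ 5 • ω = ω := by
  have hb2 : σ • β₂ = β₂ := hσ.fix β₂ hτ.ne12.symm h22.symm h32.symm
  have hb3 : σ • β₃ = β₃ := hσ.fix β₃ hτ.ne13.symm h23.symm h33.symm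
  have ha2 : τ • α₂ = α₂ := hτ.fix α₂ hσ.ne12.symm h22 h23
  have ha3 : τ • α₃ = α₃ := hτ.fix α₃ hσ.ne13.symm h32 h33
  have z1 : (σ * τ) • α₁ = β₂ := by rw [mul_smul, hτ.m1, hb2]
  have z2 : (σ * τ) • β₂ = β₃ := by rw [mul_smul, hτ.m2, hb3]
  have z3 : (σ * τ) • β₃ = α₂ := by rw [mul_smul, hτ.m3, hσ.m1]
  have z4 : (σ * τ) • α₂ = α₃ := by rw [mul_smul, ha2, hσ.m2]
  have z5 : (σ * τ) • α₃ = α₁ := by rw [mul_smul, ha3, hσ.m3]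
  have hpow : ∀ ω : Ω, (σ * τ) ^ 5 • ω =
      (σ * τ) • ((σ * τ) • ((σ * τ) • ((σ * τ) • ((σ * τ) • ω)))) := by
    intro ω
    rw [show (5 : ℕ) = 1 + 1 + 1 + 1 + 1 from rfl, pow_add, pow_add, pow_add, pow_add, pow_one,
      mul_smul, mul_smul, mul_smul, mul_smul]
  intro ω
  rw [hpow]
  by_cases h1 : ω = α₁
  · rw [h1, z1, z2, z3, z4, z5]
  by_cases h2 : ω = α₂
  · rw [h2, z4, z5, z1, z2, z3]
  by_cases h3 : ω = α₃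
  · rw [h3, z5, z1, z2, z3, z4]
  by_cases h4 : ω = β₂
  · rw [h4, z2, z3, z4, z5, z1]
  by_cases h5 : ω = β₃
  · rw [h5, z3, z4, z5, z1, z2]
  have z0 : (σ * τ) • ω = ω := by
    rw [mul_smul, hτ.fix ω h1 h4 h5, hσ.fix ω h1 h2 h3]
  rw [z0, z0, z0, z0, z0]

end Cfsg.Agent.Helper12.S15
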