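import Mathlib
import Cfsg.Agent.Lib.S15.S15Defs
import Cfsg.Agent.Lib.S15.K4Defs
import Cfsg.Agent.Lib.S15.K4ROT
import Cfsg.Agent.Lib.S15.K4CYC

/-! S4415, block K4 (helper21), piece K4P3.  See plans/S4415_K4_plan.md.

Same support, inverse 3-cycle.  `y = σ⁻¹ * τ` maps `α₁ ↦ α₂ ↦ α₃ ↦ α₁`: `y • α₁ = σ⁻¹ • α₃ = α₂`, `y • α₂ = σ⁻¹ • α₁ = α₃`, `y • α₃ = σ⁻¹ • α₂ = α₁`.  Apply `k4_three_dvd_of_cycle`.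
-/

set_option autoImplicit false

namespace Cfsg.Agent.Helper12.S15

theorem k4_pair_three_inv {G : Type*} [Group G] {Ω : Type*} [MulAction G Ω] {σ τ : G}
    {α₁ α₂ α₃ : Ω} (hσ : K4Cyc3 σ α₁ α₂ α₃) (hτ : K4Cyc3 τ α₁ α₃ α₂)
    (m : ℕ) (hm : (σ⁻¹ * τ) ^ m = 1) : 3 ∣ m := by
  have hσinv : ∀ x y : Ω, σ • x = y → σ⁻¹ • y = x := by
    intro x y hxy
    rw [← hxy, inv_smul_smul]
  have h1 : (σ⁻¹ * τ) • α₁ = α₂ := by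
    rw [mul_smul, hτ.m1]
    exact hσinv α₂ α₃ hσ.m2
  have h2 : (σ⁻¹ * τ) • α₂ = α₃ := by
    rw [mul_smul, hτ.m3]
    exact hσinv α₃ α₁ hσ.m3
  have h3 : (σ⁻¹ * τ) • α₃ = α₁ := by
    rw [mul_smul, hτ.m2]
    exact hσinv α₁ α₂ hσ.m1
  apply k4_three_dvd_of_cycle hσ.ne12 h1 h2 h3 m
  rw [hm, one_smul]

end Cfsg.Agent.Helper12.S15
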