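import Mathlib
import Cfsg.Agent.Lib.S15.S15Defs
import Cfsg.Agent.Lib.S15.K4Defs
import Cfsg.Agent.Lib.S15.K4ROT
import Cfsg.Agent.Lib.S15.K4P1
import Cfsg.Agent.Lib.S15.K4P2
import Cfsg.Agent.Lib.S15.K4P3

/-! S4415, block K4 (helper21), piece K4PAIRN.  See plans/S4415_K4_plan.md.

Normalised pair analysis (`β₁ = α₁`).  Cases (use `by_cases` on `β₂ = α₂`, `β₂ = α₃`, `β₃ = α₂`, `β₃ = α₃`; note `β₂,β₃ ≠ α₁`, `β₂ ≠ β₃` by `hτ`):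
* `β₂ = α₂, β₃ = α₃`: left alternative (both act as the same 3-cycle and fix everything else: case on ω).
* `β₂ = α₂, β₃ ≠ α₃`: `k4_pair_two_same` contradicts `hi`.
* `β₂ = α₃, β₃ = α₂`: `k4_pair_three_inv` contradicts `hi`.
* `β₂ = α₃, β₃ ≠ α₂`: right alternative with `x = α₃, x' = α₁, g = α₂, δ = β₃` (`K4Cyc3 σ α₃ α₁ α₂` by two `k4_cyc3_rot`).
* `β₂ ∉ {α₂,α₃}, β₃ = α₂`: right alternative with `x = α₁, x' = α₂, g = α₃, δ = β₂` (`K4Cyc3 τ α₂ α₁ β₂` by rotating `hτ` twice).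
* `β₂ ∉ {α₂,α₃}, β₃ = α₃`: rotate: `K4Cyc3 σ α₃ α₁ α₂`, `K4Cyc3 τ α₃ α₁ β₂`, then `k4_pair_two_same` (δ = β₂ ≠ α₂) contradicts `hi`.
* `β₂, β₃ ∉ {α₂,α₃}`: `k4_pair_one` gives `(σ*τ)^5` trivial, so `3 ∣ 5` by `hii`: absurd.
-/

set_option autoImplicit false

namespace Cfsg.Agent.Helper12.S15

theorem k4_pair_normal {G : Type*} [Group G] {Ω : Type*} [MulAction G Ω] {σ τ : G}
    {α₁ α₂ α₃ β₂ β₃ : Ω} (hσ : K4Cyc3 σ α₁ α₂ α₃) (hτ : K4Cyc3 τ α₁ β₂ β₃)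
    (hi : ∃ m : ℕ, ¬ 3 ∣ m ∧ (σ⁻¹ * τ) ^ m = 1)
    (hii : ∀ k : ℕ, (∀ ω : Ω, (σ * τ) ^ k • ω = ω) → 3 ∣ k) :
    (∀ ω : Ω, τ • ω = σ • ω) ∨
      ∃ x x' g δ : Ω, K4Cyc3 σ x x' g ∧ K4Cyc3 τ x' x δ ∧ δ ≠ g := by
  obtain ⟨m, hm3, hm⟩ := hi
  by_cases h22 : β₂ = α₂
  · have hτ2 : K4Cyc3 τ α₁ α₂ β₃ := h22 ▸ hτ
    by_cases h33 : β₃ = α₃
    · have hτ3 : K4Cyc3 τ α₁ α₂ α₃ := h33 ▸ hτ2
      left
      intro ω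
      by_cases h1 : ω = α₁
      · rw [h1, hτ3.m1, hσ.m1]
      by_cases h2 : ω = α₂
      · rw [h2, hτ3.m2, hσ.m2]
      by_cases h3 : ω = α₃
      · rw [h3, hτ3.m3, hσ.m3]
      rw [hτ3.fix ω h1 h2 h3, hσ.fix ω h1 h2 h3]
    · exact absurd (k4_pair_two_same hσ hτ2 h33 m hm) hm3
  · by_cases h23 : β₂ = α₃
    · have hτ2 : K4Cyc3 τ α₁ α₃ β₃ := h23 ▸ hτ
      by_cases h32 : β₃ = α₂
      · have hτ3 : K4Cyc3 τ α₁ α₃ α₂ := h32 ▸ hτ2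
        exact absurd (k4_pair_three_inv hσ hτ3 m hm) hm3
      · right
        exact ⟨α₃, α₁, α₂, β₃, k4_cyc3_rot (k4_cyc3_rot hσ), hτ2, h32⟩
    · by_cases h32 : β₃ = α₂
      · have hτ2 : K4Cyc3 τ α₁ β₂ α₂ := h32 ▸ hτ
        right
        exact ⟨α₁, α₂, α₃, β₂, hσ, k4_cyc3_rot (k4_cyc3_rot hτ2), h23⟩
      · by_cases h33 : β₃ = α₃
        · have hτ2 : K4Cyc3 τ α₁ β₂ α₃ := h33 ▸ hτ
          exact absurd (k4_pair_two_same (k4_cyc3_rot (k4_cyc3_rot hσ))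
            (k4_cyc3_rot (k4_cyc3_rot hτ2)) h22 m hm) hm3
        · have h5 := k4_pair_one hσ hτ (Ne.symm h22) (Ne.symm h32) (Ne.symm h23) (Ne.symm h33)
          have h35 : 3 ∣ 5 := hii 5 h5
          omega

end Cfsg.Agent.Helper12.S15
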