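import Mathlib
import Cfsg.Agent.Lib.S15.S15Defs
import Cfsg.Agent.Lib.S15.K4Defs
import Cfsg.Agent.Lib.S15.K4ROT
import Cfsg.Agent.Lib.S15.K4P0
import Cfsg.Agent.Lib.S15.K4PAIRN

/-! S4415, block K4 (helper21), piece K4PAIR.  See plans/S4415_K4_plan.md.

General pair analysis: reduce to `k4_pair_normal` by rotating names.  If none of `β₁,β₂,β₃` lies in `{α₁,α₂,α₃}`: `k4_pair_disjoint` contradicts `hi`.  Otherwise rotate `hτ` (`k4_cyc3_rot`) so that its first point is in `{α₁,α₂,α₃}`, then rotate `hσ` so that its first point equals it (`subst`), and apply `k4_pair_normal` (the conclusion does not mention the names).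
-/

set_option autoImplicit false

namespace Cfsg.Agent.Helper12.S15

theorem k4_pair {G : Type*} [Group G] {Ω : Type*} [MulAction G Ω] {σ τ : G}
    {α₁ α₂ α₃ β₁ β₂ β₃ : Ω} (hσ : K4Cyc3 σ α₁ α₂ α₃) (hτ : K4Cyc3 τ β₁ β₂ β₃)
    (hi : ∃ m : ℕ, ¬ 3 ∣ m ∧ (σ⁻¹ * τ) ^ m = 1)
    (hii : ∀ k : ℕ, (∀ ω : Ω, (σ * τ) ^ k • ω = ω) → 3 ∣ k) :
    (∀ ω : Ω, τ • ω = σ • ω) ∨
      ∃ x x' g δ : Ω, K4Cyc3 σ x x' g ∧ K4Cyc3 τ x' x δ ∧ δ ≠ g := by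
  have aux : ∀ {γ₁ γ₂ γ₃ : Ω}, K4Cyc3 τ γ₁ γ₂ γ₃ → (γ₁ = α₁ ∨ γ₁ = α₂ ∨ γ₁ = α₃) →
      ((∀ ω : Ω, τ • ω = σ • ω) ∨
        ∃ x x' g δ : Ω, K4Cyc3 σ x x' g ∧ K4Cyc3 τ x' x δ ∧ δ ≠ g) := by
    intro γ₁ γ₂ γ₃ hγ hmem
    rcases hmem with h | h | h
    · subst h
      exact k4_pair_normal hσ hγ hi hii
    · subst h
      exact k4_pair_normal (k4_cyc3_rot hσ) hγ hi hii
    · subst h
      exact k4_pair_normal (k4_cyc3_rot (k4_cyc3_rot hσ)) hγ hi hii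
  by_cases c1 : β₁ = α₁ ∨ β₁ = α₂ ∨ β₁ = α₃
  · exact aux hτ c1
  by_cases c2 : β₂ = α₁ ∨ β₂ = α₂ ∨ β₂ = α₃
  · exact aux (k4_cyc3_rot hτ) c2
  by_cases c3 : β₃ = α₁ ∨ β₃ = α₂ ∨ β₃ = α₃
  · exact aux (k4_cyc3_rot (k4_cyc3_rot hτ)) c3
  exfalso
  push Not at c1 c2 c3
  obtain ⟨m, hm3, hm⟩ := hi
  exact hm3 (k4_pair_disjoint hσ hτ ⟨fun e => c1.1 e.symm, fun e => c2.1 e.symm, fun e => c3.1 e.symm⟩
    ⟨fun e => c1.2.1 e.symm, fun e => c2.2.1 e.symm, fun e => c3.2.1 e.symm⟩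
    ⟨fun e => c1.2.2 e.symm, fun e => c2.2.2 e.symm, fun e => c3.2.2 e.symm⟩ m hm)

end Cfsg.Agent.Helper12.S15
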