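import Mathlib
import Cfsg.Agent.Lib.S15.S15Defs
import Cfsg.Agent.Lib.S15.K4Defs
import Cfsg.Agent.Lib.S15.K4ROT
import Cfsg.Agent.Lib.S15.K4PAIR
import Cfsg.Agent.Lib.S15.K4COND1
import Cfsg.Agent.Lib.S15.K4COND2

/-! S4415, block K4 (helper21), piece K4PAIRR.  See plans/S4415_K4_plan.md.

Assembly (already proved).
-/

set_option autoImplicit false

namespace Cfsg.Agent.Helper12.S15

theorem k4_pair_conj {G : Type*} [Group G] [Finite G] {Ω : Type*} [MulAction G Ω]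
    {R : Subgroup G} {b : G} {ω₁ ω₂ ω₃ : Ω} (h : K4Act R b ω₁ ω₂ ω₃) (r r' : G) (hr : r ∈ R)
    (hr' : r' ∈ R) :
    (∀ ω : Ω, (r' * b * r'⁻¹) • ω = (r * b * r⁻¹) • ω) ∨
      ∃ x x' g δ : Ω, K4Cyc3 (r * b * r⁻¹) x x' g ∧ K4Cyc3 (r' * b * r'⁻¹) x' x δ ∧ δ ≠ g :=
  k4_pair (k4_cyc3_conj h.cyc r) (k4_cyc3_conj h.cyc r') (k4_cond_one h r r' hr hr')
    (k4_cond_two h r r' hr hr')

end Cfsg.Agent.Helper12.S15
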