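import Mathlib
import Cfsg.Agent.Lib.S15.S15Defs
import Cfsg.Agent.Lib.S15.K4Defs
import Cfsg.Agent.Lib.S15.K4ROT
import Cfsg.Agent.Lib.S15.K4COVER
import Cfsg.Agent.Lib.S15.K4PAIRR

/-! S4415, block K4 (helper21), piece K4FOUR.  See plans/S4415_K4_plan.md.

By contradiction assume `ω ≠ ω'`.  `k4_cover`: `ω ∈ r•{ω₁,ω₂,ω₃}`, `ω' ∈ r'•{…}` (r,r' ∈ R).  Write `σ_r = r*b*r⁻¹`, a `K4Cyc3` on `r•ω₁,r•ω₂,r•ω₃` (`k4_cyc3_conj`), so `σ_r` moves ω (`k4_cyc3_moved`), while `b` fixes ω, ω'.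
(1) `k4_pair_conj h 1 r` (simp `1*b*1⁻¹ = b`): the alternative `σ_r = b` pointwise is impossible (ω moved by σ_r, fixed by b); so `K4Cyc3 b x x' g`, `K4Cyc3 σ_r x' x δ`; ω is moved by σ_r so ω ∈ {x',x,δ}; x,x' are moved by b, ω is not, hence `δ = ω`.  Same for r': `K4Cyc3 b u u' g'`, `K4Cyc3 σ_r' u' u ω'`.
(2) `k4_pair_conj h r r'`: (a) pointwise equal: `σ_r • ω = x'` (m3) but `σ_r' • ω = ω` (ω ∉ {u',u,ω'}), so `ω = x'` is moved by b: contradiction. (b) `K4Cyc3 σ_r p p' _`, `K4Cyc3 σ_r' p' p _`: p,p' are moved by both, so p,p' ∈ {x,x'} ∩ {u,u'} (ω not moved by σ_r', ω' not by σ_r); `σ_r • p = p'` forces `p = x', p' = x` (as `σ_r • x = ω`); `σ_r' • p' = p` i.e. `σ_r' • x = x'` forces `x = u'` (if `x = u` then `σ_r' • x = ω'`), and then `x' = u`.  Now `K4Cyc3 b x x' g` gives `b • x' = g ≠ x` while `K4Cyc3 b u u' g' = K4Cyc3 b x' x g'` gives `b • x' = x`: contradiction.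
-/

set_option autoImplicit false

namespace Cfsg.Agent.Helper12.S15

/-- a conjugate `r*b*r⁻¹` moving a point `ω` outside the support of `b` is `(x' x ω)` where
`b = (x x' g)` -/
theorem k4_four_key {G : Type*} [Group G] [Finite G] {Ω : Type*} [MulAction G Ω]
    {R : Subgroup G} {b : G} {ω₁ ω₂ ω₃ : Ω} (h : K4Act R b ω₁ ω₂ ω₃) (r : G) (hr : r ∈ R)
    (ω : Ω) (h1 : ω ≠ ω₁) (h2 : ω ≠ ω₂) (h3 : ω ≠ ω₃) (hmv : (r * b * r⁻¹) • ω ≠ ω) :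
    ∃ x x' g : Ω, K4Cyc3 b x x' g ∧ K4Cyc3 (r * b * r⁻¹) x' x ω := by
  have e1 : (1 : G) * b * (1 : G)⁻¹ = b := by simp
  have hbω : b • ω = ω := h.cyc.fix ω h1 h2 h3
  rcases k4_pair_conj h 1 r R.one_mem hr with hL | ⟨x, x', g, δ, hb, hrr, _⟩
  · exfalso
    have := hL ω
    rw [e1, hbω] at this
    exact hmv this
  · rw [e1] at hb
    have hx : b • x ≠ x := (k4_cyc3_moved hb x).mpr (Or.inl rfl)
    have hx' : b • x' ≠ x' := (k4_cyc3_moved hb x').mpr (Or.inr (Or.inl rfl))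
    rcases (k4_cyc3_moved hrr ω).mp hmv with hω | hω | hω
    · exact absurd (hω ▸ hbω) hx'
    · exact absurd (hω ▸ hbω) hx
    · exact ⟨x, x', g, hb, hω ▸ hrr⟩

/-- every point is moved by some conjugate `r*b*r⁻¹`, `r ∈ R` -/
theorem k4_four_moved {G : Type*} [Group G] [Finite G] {Ω : Type*} [MulAction G Ω]
    {R : Subgroup G} {b : G} {ω₁ ω₂ ω₃ : Ω} (h : K4Act R b ω₁ ω₂ ω₃) (ω : Ω) :
    ∃ r ∈ R, (r * b * r⁻¹) • ω ≠ ω := by
  obtain ⟨r, hr, hω⟩ := k4_cover h ω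
  exact ⟨r, hr, (k4_cyc3_moved (k4_cyc3_conj h.cyc r) ω).mpr hω⟩

theorem k4_outside_unique {G : Type*} [Group G] [Finite G] {Ω : Type*} [MulAction G Ω]
    {R : Subgroup G} {b : G} {ω₁ ω₂ ω₃ : Ω} (h : K4Act R b ω₁ ω₂ ω₃) (ω ω' : Ω)
    (h1 : ω ≠ ω₁) (h2 : ω ≠ ω₂) (h3 : ω ≠ ω₃) (h1' : ω' ≠ ω₁) (h2' : ω' ≠ ω₂) (h3' : ω' ≠ ω₃) :
    ω = ω' := by
  by_contra hne
  have hbω : b • ω = ω := h.cyc.fix ω h1 h2 h3
  have hbω' : b • ω' = ω' := h.cyc.fix ω' h1' h2' h3'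
  obtain ⟨r, hr, hmv⟩ := k4_four_moved h ω
  obtain ⟨r', hr', hmv'⟩ := k4_four_moved h ω'
  obtain ⟨x, x', g, hb1, hr1⟩ := k4_four_key h r hr ω h1 h2 h3 hmv
  obtain ⟨u, u', g', hb2, hr2⟩ := k4_four_key h r' hr' ω' h1' h2' h3' hmv'
  -- points moved by `b`
  have hx : b • x ≠ x := (k4_cyc3_moved hb1 x).mpr (Or.inl rfl)
  have hx' : b • x' ≠ x' := (k4_cyc3_moved hb1 x').mpr (Or.inr (Or.inl rfl))
  have hu : b • u ≠ u := (k4_cyc3_moved hb2 u).mpr (Or.inl rfl)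
  have hu' : b • u' ≠ u' := (k4_cyc3_moved hb2 u').mpr (Or.inr (Or.inl rfl))
  have ωx : ω ≠ x := fun e => hx (e ▸ hbω)
  have ωx' : ω ≠ x' := fun e => hx' (e ▸ hbω)
  have ωu : ω ≠ u := fun e => hu (e ▸ hbω)
  have ωu' : ω ≠ u' := fun e => hu' (e ▸ hbω)
  have ω'x : ω' ≠ x := fun e => hx (e ▸ hbω')
  have ω'x' : ω' ≠ x' := fun e => hx' (e ▸ hbω')
  -- `ω` is fixed by `σ_r'`
  have hfix : (r' * b * r'⁻¹) • ω = ω := hr2.fix ω ωu' ωu hne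
  rcases k4_pair_conj h r r' hr hr' with hL | ⟨p, p', g'', δ'', hp, hp', _⟩
  · have e := hL ω
    rw [hfix, hr1.m3] at e
    exact ωx' e
  · have hpm : (r * b * r⁻¹) • p ≠ p := (k4_cyc3_moved hp p).mpr (Or.inl rfl)
    have hpm' : (r' * b * r'⁻¹) • p ≠ p := (k4_cyc3_moved hp' p).mpr (Or.inr (Or.inl rfl))
    have hp'm' : (r' * b * r'⁻¹) • p' ≠ p' := (k4_cyc3_moved hp' p').mpr (Or.inl rfl)
    have hpp' : (r * b * r⁻¹) • p = p' := hp.m1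
    have hp'p : (r' * b * r'⁻¹) • p' = p := hp'.m1
    rcases (k4_cyc3_moved hr1 p).mp hpm with e | e | e
    · -- p = x'
      have e' : p' = x := by rw [← hpp', e, hr1.m1]
      rw [e', e] at hp'p
      -- σ_r' • x = x'
      have hxm : (r' * b * r'⁻¹) • x ≠ x := by rw [← e']; exact hp'm'
      rcases (k4_cyc3_moved hr2 x).mp hxm with e2 | e2 | e2
      · -- x = u'
        have e3 : x' = u := by rw [← hp'p, e2, hr2.m1]
        have hb2' : K4Cyc3 b x' x g' := by rw [e3, e2]; exact hb2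
        have : g = x := by rw [← hb1.m2, hb2'.m1]
        exact hb1.ne13 this.symm
      · -- x = u
        have e3 : x' = ω' := by rw [← hp'p, e2, hr2.m2]
        exact ω'x' e3.symm
      · exact ω'x e2.symm
    · -- p = x
      have e' : p' = ω := by rw [← hpp', e, hr1.m2]
      rw [e'] at hp'm'
      exact hp'm' hfix
    · -- p = ω
      rw [e] at hpm'
      exact hpm' hfix

end Cfsg.Agent.Helper12.S15
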