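import Mathlib
import Cfsg.Agent.Lib.S15.S15Defs
import Cfsg.Agent.Lib.S15.K4Defs
import Cfsg.Agent.Lib.S15.K4FOUR

/-! S4415, block K4 (helper21), piece K4GLOB.  See plans/S4415_K4_plan.md.

By `k4_outside_unique` any two points outside `{ω₁,ω₂,ω₃}` coincide.  Classical: if there is a point ω₄ outside, every ω is one of ω₁,ω₂,ω₃,ω₄; else every ω is one of ω₁,ω₂,ω₃.  Conclude `Nat.card Ω ≤ 4` e.g. via `Finset.card_le_card` with `Finset.univ ⊆ {ω₁,ω₂,ω₃,ω₄}` (`Fintype.ofFinite`, `Nat.card_eq_fintype_card`, `Finset.card_le_four`), or an injection/surjection with `Fin 4`.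
-/

set_option autoImplicit false

namespace Cfsg.Agent.Helper12.S15

theorem k4_act_card_le {G : Type*} [Group G] [Finite G] {Ω : Type*} [MulAction G Ω] [Finite Ω]
    {R : Subgroup G} {b : G} {ω₁ ω₂ ω₃ : Ω} (h : K4Act R b ω₁ ω₂ ω₃) : Nat.card Ω ≤ 4 := by
  classical
  have : Fintype Ω := Fintype.ofFinite Ω
  rw [Nat.card_eq_fintype_card, ← Finset.card_univ]
  by_cases hex : ∃ ω₄ : Ω, ω₄ ≠ ω₁ ∧ ω₄ ≠ ω₂ ∧ ω₄ ≠ ω₃
  · obtain ⟨ω₄, h1, h2, h3⟩ := hex
    have hsub : (Finset.univ : Finset Ω) ⊆ {ω₁, ω₂, ω₃, ω₄} := by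
      intro ω _
      simp only [Finset.mem_insert, Finset.mem_singleton]
      by_cases e1 : ω = ω₁
      · exact Or.inl e1
      by_cases e2 : ω = ω₂
      · exact Or.inr (Or.inl e2)
      by_cases e3 : ω = ω₃
      · exact Or.inr (Or.inr (Or.inl e3))
      exact Or.inr (Or.inr (Or.inr (k4_outside_unique h ω ω₄ e1 e2 e3 h1 h2 h3)))
    exact (Finset.card_le_card hsub).trans Finset.card_le_four
  · have hsub : (Finset.univ : Finset Ω) ⊆ {ω₁, ω₂, ω₃} := by
      intro ω _
      simp only [Finset.mem_insert, Finset.mem_singleton]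
      by_contra hcon
      apply hex
      refine ⟨ω, ?_, ?_, ?_⟩
      · intro e; exact hcon (Or.inl e)
      · intro e; exact hcon (Or.inr (Or.inl e))
      · intro e; exact hcon (Or.inr (Or.inr e))
    exact ((Finset.card_le_card hsub).trans Finset.card_le_three).trans (by norm_num)

end Cfsg.Agent.Helper12.S15
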