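import Mathlib
import Cfsg.Agent.Lib.S15.S15Defs
import Cfsg.Agent.Lib.S15.K4Defs
import Cfsg.Agent.Lib.S15.K4APP
import Cfsg.Agent.Lib.S15.K4GLOB
import Cfsg.Agent.Lib.S15.K4DIM
import Cfsg.Agent.Lib.S15.LFRAME

/-! S4415, block K4 (helper21), piece K4MONO.  See plans/S4415_K4_plan.md.

Assembly (already proved).
-/

set_option autoImplicit false

namespace Cfsg.Agent.Helper12.S15

theorem k4_mono {S : Type*} [Group S] [Finite S] {E : Type*} [AddCommGroup E]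
    [Module (ZMod 3) E] [Finite E] (ρ : Representation (ZMod 3) S E) (b : S) (R Q : Subgroup S)
    (h : RSetting ρ b R Q) (A : Subgroup S) (hAR : A ≤ R) (hAn : XNormal b R A)
    (hA2 : ∀ a ∈ A, a ^ 2 = 1) (hQA : Q ≤ A) : Nat.card E ≤ 81 := by
  obtain ⟨q₁, q₂, q₃, e₁, e₂, e₃, f⟩ := exists_frame ρ b R Q h.toSetting
  have hact := k4_act ρ b R Q h A hAR hAn hA2 hQA q₁ q₂ q₃ e₁ e₂ e₃ f
  exact k4_dim ρ b R Q h e₁ f.e₁0 (k4_act_card_le hact)

end Cfsg.Agent.Helper12.S15
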