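import Mathlib
import Cfsg.Agent.Lib.S15.S15Defs
import Cfsg.Agent.Lib.S15.K4Defs

/-! S4415, block K4 (helper21), piece K4Q.  See plans/S4415_K4_plan.md.

Take a ∈ A with `b*a*b⁻¹ ≠ a`; put `a₀ = a, a₁ = b*a₀*b⁻¹, a₂ = b*a₁*b⁻¹` (all in A by hAn with x = b ∈ X; `b*a₂*b⁻¹ = a₀` by `h.b3`).  A is abelian: `x*y = y*x` from `(x*y)^2 = 1`, `x^2 = y^2 = 1`.  `c₁ = a₀*a₁, c₂ = a₁*a₂, c₃ = a₂*a₀`: `c₁*c₂ = c₃`, `b*c₁*b⁻¹ = c₂`, `b*c₂*b⁻¹ = c₃`, `b*c₃*b⁻¹ = c₁`; they are ≠ 1 and pairwise distinct (each equality forces `a₀ = a₁`).  `Q'` := the subgroup with carrier `{1,c₁,c₂,c₃}` (or `Subgroup.closure {c₁,c₂}`), `Nat.card Q' = 4`.  `RSetting ρ b R Q'`: copy all fields of `h` except `QR` (`Q' ≤ A ≤ R`), `Q4`, `Q2`, `bQ`, `bQ'` (c₁ ↦ c₂ ≠ c₁); `irr := h.irr`.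
-/

set_option autoImplicit false

namespace Cfsg.Agent.Helper12.S15

/-- the multiplication table of `{1, c₁, c₂, c₃}` -/
theorem k4_q_table {S : Type*} [Group S] (c₁ c₂ c₃ : S) (h11 : c₁ * c₁ = 1) (h22 : c₂ * c₂ = 1)
    (h12 : c₁ * c₂ = c₃) (h21 : c₂ * c₁ = c₃) :
    c₃ * c₃ = 1 ∧ c₁ * c₃ = c₂ ∧ c₃ * c₁ = c₂ ∧ c₂ * c₃ = c₁ ∧ c₃ * c₂ = c₁ ∧
      c₁⁻¹ = c₁ ∧ c₂⁻¹ = c₂ ∧ c₃⁻¹ = c₃ := by
  have h33 : c₃ * c₃ = 1 := by
    calc c₃ * c₃ = (c₁ * c₂) * (c₂ * c₁) := by rw [h12, h21]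
      _ = c₁ * (c₂ * c₂) * c₁ := by group
      _ = 1 := by rw [h22, mul_one, h11]
  refine ⟨h33, ?_, ?_, ?_, ?_, inv_eq_of_mul_eq_one_right h11, inv_eq_of_mul_eq_one_right h22,
    inv_eq_of_mul_eq_one_right h33⟩
  · calc c₁ * c₃ = (c₁ * c₁) * c₂ := by rw [← h12, mul_assoc]
      _ = c₂ := by rw [h11, one_mul]
  · calc c₃ * c₁ = c₂ * (c₁ * c₁) := by rw [← h21, mul_assoc]
      _ = c₂ := by rw [h11, mul_one]
  · calc c₂ * c₃ = (c₂ * c₂) * c₁ := by rw [← h21, mul_assoc]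
      _ = c₁ := by rw [h22, one_mul]
  · calc c₃ * c₂ = c₁ * (c₂ * c₂) := by rw [← h12, mul_assoc]
      _ = c₁ := by rw [h22, mul_one]

/-- the four-group `{1, c₁, c₂, c₃}` -/
def k4qSub {S : Type*} [Group S] (c₁ c₂ c₃ : S) (h11 : c₁ * c₁ = 1) (h22 : c₂ * c₂ = 1)
    (h12 : c₁ * c₂ = c₃) (h21 : c₂ * c₁ = c₃) : Subgroup S where
  carrier := {x | x = 1 ∨ x = c₁ ∨ x = c₂ ∨ x = c₃}
  mul_mem' := by
    obtain ⟨h33, h13, h31, h23, h32, -, -, -⟩ := k4_q_table c₁ c₂ c₃ h11 h22 h12 h21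
    intro x y hx hy
    show x * y = 1 ∨ x * y = c₁ ∨ x * y = c₂ ∨ x * y = c₃
    rcases hx with hx | hx | hx | hx <;> rcases hy with hy | hy | hy | hy <;> rw [hx, hy] <;>
      simp only [one_mul, mul_one, h11, h22, h33, h12, h21, h13, h31, h23, h32,
        true_or, or_true]
  one_mem' := Or.inl rfl
  inv_mem' := by
    obtain ⟨-, -, -, -, -, i1, i2, i3⟩ := k4_q_table c₁ c₂ c₃ h11 h22 h12 h21
    intro x hx
    show x⁻¹ = 1 ∨ x⁻¹ = c₁ ∨ x⁻¹ = c₂ ∨ x⁻¹ = c₃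
    rcases hx with hx | hx | hx | hx <;> rw [hx] <;>
      simp only [inv_one, i1, i2, i3, true_or, or_true]

theorem mem_k4qSub {S : Type*} [Group S] (c₁ c₂ c₃ : S) (h11 : c₁ * c₁ = 1) (h22 : c₂ * c₂ = 1)
    (h12 : c₁ * c₂ = c₃) (h21 : c₂ * c₁ = c₃) (x : S) :
    x ∈ k4qSub c₁ c₂ c₃ h11 h22 h12 h21 ↔ x = 1 ∨ x = c₁ ∨ x = c₂ ∨ x = c₃ := Iff.rfl

/-- a four-group from two distinct commuting involutions -/
theorem k4_q_four {S : Type*} [Group S] (c₁ c₂ c₃ : S) (h11 : c₁ * c₁ = 1) (h22 : c₂ * c₂ = 1)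
    (h12 : c₁ * c₂ = c₃) (h21 : c₂ * c₁ = c₃) (n1 : c₁ ≠ 1) (n2 : c₂ ≠ 1) (n12 : c₁ ≠ c₂) :
    ∃ Q' : Subgroup S, (∀ x, x ∈ Q' ↔ x = 1 ∨ x = c₁ ∨ x = c₂ ∨ x = c₃) ∧ Nat.card ↥Q' = 4 := by
  obtain ⟨-, -, -, -, -, -, i2, -⟩ := k4_q_table c₁ c₂ c₃ h11 h22 h12 h21
  have n3 : c₃ ≠ 1 := by
    intro h3
    apply n12
    rw [← h12] at h3
    have : c₁ = c₂⁻¹ := eq_inv_of_mul_eq_one_left h3
    rw [this, i2]
  have n13 : c₁ ≠ c₃ := by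
    intro h3
    apply n2
    have : c₁ * c₂ = c₁ * 1 := by rw [h12, mul_one]; exact h3.symm
    exact mul_left_cancel this
  have n23 : c₂ ≠ c₃ := by
    intro h3
    apply n1
    have : c₁ * c₂ = 1 * c₂ := by rw [h12, one_mul]; exact h3.symm
    exact mul_right_cancel this
  refine ⟨k4qSub c₁ c₂ c₃ h11 h22 h12 h21, fun x => Iff.rfl, ?_⟩
  have hset : ((k4qSub c₁ c₂ c₃ h11 h22 h12 h21 : Subgroup S) : Set S) = {1, c₁, c₂, c₃} := by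
    ext x
    rfl
  rw [← SetLike.coe_sort_coe, Nat.card_coe_set_eq, hset, Set.ncard_insert_of_notMem,
    Set.ncard_insert_of_notMem, Set.ncard_insert_of_notMem, Set.ncard_singleton]
  · rw [Set.mem_singleton_iff]
    exact n23
  · simp only [Set.mem_insert_iff, Set.mem_singleton_iff, not_or]
    exact ⟨n12, n13⟩
  · simp only [Set.mem_insert_iff, Set.mem_singleton_iff, not_or]
    exact ⟨fun hh => n1 hh.symm, fun hh => n2 hh.symm, fun hh => n3 hh.symm⟩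

theorem k4_exists_Q {S : Type*} [Group S] [Finite S] {E : Type*} [AddCommGroup E]
    [Module (ZMod 3) E] [Finite E] (ρ : Representation (ZMod 3) S E) (b : S) (R Q : Subgroup S)
    (h : RSetting ρ b R Q) (A : Subgroup S) (hAR : A ≤ R) (hAn : XNormal b R A)
    (hA2 : ∀ a ∈ A, a ^ 2 = 1) (hnc : ∃ a ∈ A, b * a * b⁻¹ ≠ a) :
    ∃ Q' : Subgroup S, Q' ≤ A ∧ RSetting ρ b R Q' := by
  obtain ⟨a, haA, hne⟩ := hnc
  have hbX : b ∈ R ⊔ Subgroup.zpowers b := Subgroup.mem_sup_right (Subgroup.mem_zpowers b)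
  have sq : ∀ x ∈ A, x * x = 1 := by
    intro x hx
    rw [← pow_two]
    exact hA2 x hx
  have hinv : ∀ x ∈ A, x⁻¹ = x := fun x hx => inv_eq_of_mul_eq_one_right (sq x hx)
  have hcomm : ∀ x ∈ A, ∀ y ∈ A, x * y = y * x := by
    intro x hx y hy
    have hxy1 : (x * y)⁻¹ = x * y := hinv _ (A.mul_mem hx hy)
    rw [mul_inv_rev, hinv x hx, hinv y hy] at hxy1
    exact hxy1.symm
  obtain ⟨a₁, ha₁⟩ : ∃ a₁, a₁ = b * a * b⁻¹ := ⟨_, rfl⟩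
  obtain ⟨a₂, ha₂⟩ : ∃ a₂, a₂ = b * a₁ * b⁻¹ := ⟨_, rfl⟩
  have ha₁A : a₁ ∈ A := by rw [ha₁]; exact hAn b hbX a haA
  have ha₂A : a₂ ∈ A := by rw [ha₂]; exact hAn b hbX a₁ ha₁A
  have hb3 : b * b * b = 1 := by
    rw [← pow_three']
    exact h.b3
  have ha₃ : b * a₂ * b⁻¹ = a := by
    rw [ha₂, ha₁]
    calc b * (b * (b * a * b⁻¹) * b⁻¹) * b⁻¹ = (b * b * b) * a * (b * b * b)⁻¹ := by
          simp only [mul_inv_rev, mul_assoc]
      _ = a := by rw [hb3, one_mul, inv_one, mul_one]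
  have hne1 : a₁ ≠ a := by rw [ha₁]; exact hne
  have hne2 : a₂ ≠ a₁ := by
    intro h2
    apply hne1
    rw [ha₂, ha₁] at h2
    have h3 : b * a₁ = b * a := by
      rw [ha₁]
      exact mul_right_cancel h2
    exact mul_left_cancel h3
  have hne3 : a ≠ a₂ := by
    intro h2
    apply hne1
    rw [ha₁]
    nth_rewrite 1 [h2]
    exact ha₃
  -- the three involutions
  have h11 : (a * a₁) * (a * a₁) = 1 := sq _ (A.mul_mem haA ha₁A)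
  have h22 : (a₁ * a₂) * (a₁ * a₂) = 1 := sq _ (A.mul_mem ha₁A ha₂A)
  have h12 : (a * a₁) * (a₁ * a₂) = a₂ * a := by
    calc (a * a₁) * (a₁ * a₂) = a * (a₁ * a₁) * a₂ := by group
      _ = a * a₂ := by rw [sq a₁ ha₁A, mul_one]
      _ = a₂ * a := hcomm a haA a₂ ha₂A
  have h21 : (a₁ * a₂) * (a * a₁) = a₂ * a := by
    rw [hcomm _ (A.mul_mem ha₁A ha₂A) _ (A.mul_mem haA ha₁A)]
    exact h12
  have n1 : a * a₁ ≠ 1 := by
    intro h1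
    apply hne1
    have : a₁ = a⁻¹ := eq_inv_of_mul_eq_one_right h1
    rw [this, hinv a haA]
  have n2 : a₁ * a₂ ≠ 1 := by
    intro h1
    apply hne2
    have : a₂ = a₁⁻¹ := eq_inv_of_mul_eq_one_right h1
    rw [this, hinv a₁ ha₁A]
  have n12 : a * a₁ ≠ a₁ * a₂ := by
    intro h1
    apply hne3
    rw [hcomm a₁ ha₁A a₂ ha₂A] at h1
    exact mul_right_cancel h1
  obtain ⟨Q', hmem, hcard⟩ := k4_q_four (a * a₁) (a₁ * a₂) (a₂ * a) h11 h22 h12 h21 n1 n2 n12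
  have hQ'A : Q' ≤ A := by
    intro x hx
    rcases (hmem x).1 hx with hx | hx | hx | hx <;> rw [hx]
    · exact A.one_mem
    · exact A.mul_mem haA ha₁A
    · exact A.mul_mem ha₁A ha₂A
    · exact A.mul_mem ha₂A haA
  have cj1 : b * (a * a₁) * b⁻¹ = a₁ * a₂ := by
    calc b * (a * a₁) * b⁻¹ = (b * a * b⁻¹) * (b * a₁ * b⁻¹) := by group
      _ = a₁ * a₂ := by rw [← ha₁, ← ha₂]
  have cj2 : b * (a₁ * a₂) * b⁻¹ = a₂ * a := by
    calc b * (a₁ * a₂) * b⁻¹ = (b * a₁ * b⁻¹) * (b * a₂ * b⁻¹) := by group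
      _ = a₂ * a := by rw [← ha₂, ha₃]
  have cj3 : b * (a₂ * a) * b⁻¹ = a * a₁ := by
    calc b * (a₂ * a) * b⁻¹ = (b * a₂ * b⁻¹) * (b * a * b⁻¹) := by group
      _ = a * a₁ := by rw [ha₃, ← ha₁]
  refine ⟨Q', hQ'A, ?_⟩
  exact
    { faith := h.faith
      b3 := h.b3
      rk := h.rk
      sq := h.sq
      cop := h.cop
      solv := h.solv
      bR := h.bR
      gen := h.gen
      QR := hQ'A.trans hAR
      Q4 := hcard
      Q2 := fun q hq => hA2 q (hQ'A hq)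
      bQ := by
        intro q hq
        rcases (hmem q).1 hq with hq | hq | hq | hq <;> rw [hq]
        · rw [mul_one, mul_inv_cancel]
          exact Q'.one_mem
        · rw [cj1]
          exact (hmem _).2 (Or.inr (Or.inr (Or.inl rfl)))
        · rw [cj2]
          exact (hmem _).2 (Or.inr (Or.inr (Or.inr rfl)))
        · rw [cj3]
          exact (hmem _).2 (Or.inr (Or.inl rfl))
      bQ' := ⟨a * a₁, (hmem _).2 (Or.inr (Or.inl rfl)), by rw [cj1]; exact fun hh => n12 hh.symm⟩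
      irr := h.irr }

end Cfsg.Agent.Helper12.S15
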