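import Mathlib
import Cfsg.Agent.Lib.S15.S15Defs
import Cfsg.Agent.Lib.S15.K4Defs
import Cfsg.Agent.Lib.S15.K4C
import Cfsg.Agent.Lib.S15.K4Q
import Cfsg.Agent.Lib.S15.K4MONO

/-! S4415 design (helper12), piece K4MAIN.  See plans/S4415_plan.md. -/

set_option autoImplicit false

namespace Cfsg.Agent.Helper12.S15

/-- the monomial case: an `X`-normal elementary abelian 2-subgroup of `R` is scalar, or `dim E ≤ 4` -/
theorem k4_main {S : Type*} [Group S] [Finite S] {E : Type*} [AddCommGroup E]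
    [Module (ZMod 3) E] [Finite E] (ρ : Representation (ZMod 3) S E) (b : S) (R Q : Subgroup S) (h : RSetting ρ b R Q) (A : Subgroup S) (hAR : A ≤ R)
    (hAn : XNormal b R A) (hA2 : ∀ a ∈ A, a ^ 2 = 1) :
    (∀ a ∈ A, ρ a = 1 ∨ ρ a = -1) ∨ Nat.card E ≤ 81 := by
  by_cases hc : ∀ a ∈ A, b * a * b⁻¹ = a
  · exact Or.inl (k4_central ρ b R Q h A hAR hAn hA2 hc)
  · right
    have hc' : ∃ a ∈ A, b * a * b⁻¹ ≠ a := by
      by_contra hcon
      apply hc
      intro a ha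
      by_contra hne
      exact hcon ⟨a, ha, hne⟩
    obtain ⟨Q', hQ'A, hQ'⟩ := k4_exists_Q ρ b R Q h A hAR hAn hA2 hc'
    exact k4_mono ρ b R Q' hQ' A hAR hAn hA2 hQ'A

end Cfsg.Agent.Helper12.S15
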