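import Mathlib
import Cfsg.Agent.Lib.S15.S15Defs

/-! S4415 design (helper12), block K5: shared definitions.  See plans/S4415_plan.md §K5. -/

set_option autoImplicit false

namespace Cfsg.Agent.Helper12.S15

universe u v

variable {S : Type u} [Group S] {E : Type v} [AddCommGroup E] [Module (ZMod 3) E]

/-- data for block K5: `z ∈ R` acting as `-1`, and an `X`-normal subgroup `N ≤ R` containing `z`
and some non-scalar element, minimal with these properties -/
structure K5Data (ρ : Representation (ZMod 3) S E) (b : S) (R : Subgroup S) (z : S)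
    (N : Subgroup S) : Prop where
  zR : z ∈ R
  zneg : ρ z = -1
  NR : N ≤ R
  zN : z ∈ N
  Nn : XNormal b R N
  nsc : ∃ x ∈ N, ¬ (ρ x = 1 ∨ ρ x = -1)
  min : ∀ M : Subgroup S, M ≤ N → XNormal b R M → z ∈ M →
    (∃ x ∈ M, ¬ (ρ x = 1 ∨ ρ x = -1)) → M = N

/-- commutators of `N` lie in `{1,z}` -/
def K5C2 (z : S) (N : Subgroup S) : Prop :=
  ∀ x ∈ N, ∀ y ∈ N, x * y * x⁻¹ * y⁻¹ = 1 ∨ x * y * x⁻¹ * y⁻¹ = z

/-- squares of `N` lie in `{1,z}` -/
def K5SQ (z : S) (N : Subgroup S) : Prop :=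
  ∀ x ∈ N, x * x = 1 ∨ x * x = z

/-- the hypothesis "Lemma O" (block K2) -/
def HK2 (b : S) (R : Subgroup S) : Prop :=
  ∀ A : Subgroup S, A ≤ R → XNormal b R A → (∀ a ∈ A, ∀ a' ∈ A, a * a' = a' * a) →
    Odd (Nat.card ↥A) → A = ⊥

/-- the hypothesis of block K3 -/
def HK3 (b : S) (R : Subgroup S) : Prop :=
  ∀ a ∈ R, XNormal b R (Subgroup.zpowers a) → orderOf a ≠ 4

/-- the hypothesis "all `X`-normal elementary abelian 2-subgroups of `R` are scalar" -/
def HK4 (ρ : Representation (ZMod 3) S E) (b : S) (R : Subgroup S) : Prop :=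
  ∀ A : Subgroup S, A ≤ R → XNormal b R A → (∀ a ∈ A, a ^ 2 = 1) → ∀ a ∈ A, ρ a = 1 ∨ ρ a = -1

end Cfsg.Agent.Helper12.S15
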