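import Mathlib
import Cfsg.Agent.Lib.S15.S15Defs
import Cfsg.Agent.Lib.S15.K5Defs
import Cfsg.Agent.Lib.S15.KIRR

/-! S4415 design (helper12), piece K5SC.  See plans/S4415_plan.md. -/

set_option autoImplicit false

namespace Cfsg.Agent.Helper12.S15

/-- for `x ∈ R`: scalar means `x ∈ {1,z}`; `z` is central in `X`, `z² = 1`, `b z b⁻¹ = z`, `z ≠ 1` -/
theorem k5_scalar {S : Type*} [Group S] [Finite S] {E : Type*} [AddCommGroup E]
    [Module (ZMod 3) E] [Finite E] (ρ : Representation (ZMod 3) S E) (b : S) (R Q : Subgroup S) (h : RSetting ρ b R Q) (z : S) (hz : z ∈ R) (hzn : ρ z = -1) :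
    (∀ x ∈ R, (ρ x = 1 ∨ ρ x = -1) ↔ (x = 1 ∨ x = z)) ∧ z ≠ 1 ∧ z * z = 1 ∧
      (∀ x ∈ R ⊔ Subgroup.zpowers b, x * z = z * x) ∧ b * z * b⁻¹ = z := by
  have hcen := scalar_central ρ b R Q h z hz (Or.inr hzn)
  have hzz : z * z = 1 := by
    apply h.faith _ (Subgroup.mem_sup_left (R.mul_mem hz hz))
    rw [map_mul, hzn]; simp
  have hz1 : z ≠ 1 := by
    intro h1
    obtain ⟨v, hv⟩ := h.sq
    apply hv
    set w := (ρ b - 1) ((ρ b - 1) v) with hw
    have h2 : ρ z w = w := by rw [h1, map_one]; rfl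
    rw [hzn] at h2
    have h3 : -w = w := by simpa using h2
    have h4 : w + w + w = 0 := by
      have := ZModModule.char_nsmul_eq_zero 3 w
      rwa [succ_nsmul, succ_nsmul, one_nsmul] at this
    have h5 : w + w = 0 := by
      nth_rewrite 1 [← h3]; simp
    rw [h5, zero_add] at h4
    exact h4
  refine ⟨?_, hz1, hzz, hcen, ?_⟩
  · intro x hx
    constructor
    · rintro (h1 | h1)
      · left
        exact h.faith _ (Subgroup.mem_sup_left hx) h1
      · right
        have h2 : x * z = 1 := by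
          apply h.faith _ (Subgroup.mem_sup_left (R.mul_mem hx hz))
          rw [map_mul, h1, hzn]; simp
        have h3 : x = z⁻¹ := eq_inv_of_mul_eq_one_left h2
        have h4 : z⁻¹ = z := inv_eq_of_mul_eq_one_left hzz
        rw [h3, h4]
    · rintro (h1 | h1)
      · left; rw [h1, map_one]
      · right; rw [h1, hzn]
  · have h1 := hcen b (Subgroup.mem_sup_right (Subgroup.mem_zpowers b))
    rw [h1, mul_assoc, mul_inv_cancel, mul_one]

end Cfsg.Agent.Helper12.S15
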