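import Mathlib
import Cfsg.Agent.Lib.S15.S15Defs
import Cfsg.Agent.Lib.S15.K5Defs
import Cfsg.Agent.Lib.S15.K5SC
import Cfsg.Agent.Lib.S15.LRANK
import Cfsg.Agent.Lib.S15.LN3

/-! S4415 design (helper12), piece K5BNC.  See plans/S4415_plan.md. -/

set_option autoImplicit false

namespace Cfsg.Agent.Helper12.S15

theorem k5bnc_mul_apply {S : Type*} [Group S] {E : Type*} [AddCommGroup E] [Module (ZMod 3) E]
    (ρ : Representation (ZMod 3) S E) (g g' : S) (v : E) : ρ (g * g') v = ρ g (ρ g' v) := by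
  rw [map_mul]
  rfl

theorem k5bnc_inv_apply {S : Type*} [Group S] {E : Type*} [AddCommGroup E] [Module (ZMod 3) E]
    (ρ : Representation (ZMod 3) S E) (g : S) (v : E) : ρ g⁻¹ (ρ g v) = v := by
  rw [← k5bnc_mul_apply, inv_mul_cancel, map_one]
  rfl

/-- an element commuting with `b` squares to the identity on the line `range (b-1)²` -/
theorem k5bnc_sq_fix {S : Type*} [Group S] [Finite S] {E : Type*} [AddCommGroup E]
    [Module (ZMod 3) E] [Finite E] (ρ : Representation (ZMod 3) S E) (b : S) (R Q : Subgroup S)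
    (h : Setting ρ b R Q) (x : S) (hx : b * x * b⁻¹ = x) :
    ∀ s ∈ LinearMap.range ((ρ b - 1) * (ρ b - 1)), ρ (x * x) s = s := by
  have hcard := card_range_sq ρ b R Q h
  have hfr : Module.finrank (ZMod 3) ↥(LinearMap.range ((ρ b - 1) * (ρ b - 1))) = 1 := by
    have h1 := Module.natCard_eq_pow_finrank (K := ZMod 3)
      (V := ↥(LinearMap.range ((ρ b - 1) * (ρ b - 1))))
    rw [hcard, Nat.card_zmod] at h1
    have h2 : (3 : ℕ) ^ 1 = 3 ^ Module.finrank (ZMod 3) ↥(LinearMap.range ((ρ b - 1) * (ρ b - 1))) := by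
      rw [pow_one]
      exact h1
    exact (Nat.pow_right_injective (a := 3) (by norm_num) h2).symm
  have hxb : x * b = b * x := by
    have e : b * x = (b * x * b⁻¹) * b := by group
    rw [e, hx]
  have hcomm : Commute (ρ x) (ρ b) := by
    show ρ x * ρ b = ρ b * ρ x
    rw [← map_mul, ← map_mul, hxb]
  have hcN : Commute (ρ x) (ρ b - 1) := hcomm.sub_right (Commute.one_right _)
  have hcNN : Commute (ρ x) ((ρ b - 1) * (ρ b - 1)) := hcN.mul_right hcN
  have hinv : ∀ w ∈ LinearMap.range ((ρ b - 1) * (ρ b - 1)),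
      ρ x w ∈ LinearMap.range ((ρ b - 1) * (ρ b - 1)) := by
    rintro w ⟨u, rfl⟩
    refine ⟨ρ x u, ?_⟩
    have h1 : (ρ x * ((ρ b - 1) * (ρ b - 1))) u = (((ρ b - 1) * (ρ b - 1)) * ρ x) u := by
      rw [hcNN.eq]
    exact h1.symm
  intro s hs
  by_cases hs0 : s = 0
  · rw [hs0, map_zero]
  · have hs0' : (⟨s, hs⟩ : ↥(LinearMap.range ((ρ b - 1) * (ρ b - 1)))) ≠ 0 := by
      intro h0
      exact hs0 (congrArg Subtype.val h0)
    obtain ⟨c, hc⟩ := (finrank_eq_one_iff_of_nonzero' _ hs0').mp hfr ⟨ρ x s, hinv s hs⟩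
    have hc' : c • s = ρ x s := congrArg Subtype.val hc
    have hall : ∀ c' : ZMod 3, c' = 0 ∨ c' * c' = 1 := by decide
    have hcc : c = 0 ∨ c * c = 1 := hall c
    rcases hcc with h0 | h1
    · exfalso
      apply hs0
      rw [h0, zero_smul] at hc'
      have h2 := k5bnc_inv_apply ρ x s
      rw [← hc', map_zero] at h2
      exact h2.symm
    · rw [k5bnc_mul_apply, ← hc', map_smul, ← hc', smul_smul, h1, one_smul]

/-- `b` does not centralise `N`: an `x ∈ R` commuting with `b` maps the line `range (b-1)²` to itself,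
so `ρ(x²)` fixes it pointwise and `x² ≠ z`; hence all squares in `N` would be 1 and `N` abelian. -/
theorem k5_b_moves {S : Type*} [Group S] [Finite S] {E : Type*} [AddCommGroup E]
    [Module (ZMod 3) E] [Finite E] (ρ : Representation (ZMod 3) S E) (b : S) (R Q : Subgroup S) (h : RSetting ρ b R Q) (z : S) (N : Subgroup S) (d : K5Data ρ b R z N) (hSQ : K5SQ z N)
    (hNA : ∃ x ∈ N, ∃ y ∈ N, x * y ≠ y * x) : ∃ x ∈ N, b * x * b⁻¹ ≠ x := by
  by_contra hcon
  push Not at hcon
  have hcard := card_range_sq ρ b R Q h.toSetting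
  -- a non-zero vector of the line
  have hex : ∃ s ∈ LinearMap.range ((ρ b - 1) * (ρ b - 1)), s ≠ 0 := by
    by_contra hno
    push Not at hno
    have hsub : Subsingleton ↥(LinearMap.range ((ρ b - 1) * (ρ b - 1))) := by
      constructor
      intro u v
      apply Subtype.ext
      rw [hno u.1 u.2, hno v.1 v.2]
    have h1 : Nat.card ↥(LinearMap.range ((ρ b - 1) * (ρ b - 1))) = 1 := Nat.card_unique
    omega
  obtain ⟨s, hsL, hs0⟩ := hex
  have hsq1 : ∀ x ∈ N, x * x = 1 := by
    intro x hx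
    rcases hSQ x hx with h1 | h1
    · exact h1
    · exfalso
      have h2 := k5bnc_sq_fix ρ b R Q h.toSetting x (hcon x hx) s hsL
      rw [h1, d.zneg] at h2
      have h3 : -s = s := by simpa using h2
      have h4 : (2 : ZMod 3) • s = 0 := by
        rw [two_smul]
        nth_rewrite 1 [← h3]
        exact neg_add_cancel s
      apply hs0
      have h5 : ((2 : ZMod 3) * 2) • s = 0 := by rw [mul_smul, h4, smul_zero]
      have h6 : (2 : ZMod 3) * 2 = 1 := by decide
      rwa [h6, one_smul] at h5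
  obtain ⟨x, hx, y, hy, hxy⟩ := hNA
  apply hxy
  have hx1 : x⁻¹ = x := inv_eq_of_mul_eq_one_right (hsq1 x hx)
  have hy1 : y⁻¹ = y := inv_eq_of_mul_eq_one_right (hsq1 y hy)
  have hxy1 : (x * y)⁻¹ = x * y := inv_eq_of_mul_eq_one_right (hsq1 _ (N.mul_mem hx hy))
  rw [mul_inv_rev, hx1, hy1] at hxy1
  exact hxy1.symm

end Cfsg.Agent.Helper12.S15
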