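import Mathlib
import Cfsg.Agent.Lib.S15.S15Defs
import Cfsg.Agent.Lib.S15.K5Defs
import Cfsg.Agent.Lib.S15.K5SC

/-! S4415 design (helper12), piece K5C2P.  See plans/S4415_plan.md. -/

set_option autoImplicit false

namespace Cfsg.Agent.Helper12.S15

open scoped commutatorElement

/-- a perfect solvable subgroup is trivial -/
theorem k5c2p_perfect_bot {S : Type*} [Group S] (C : Subgroup S) [Group.IsSolvable ↥C]
    (hperf : C ≤ ⁅C, C⁆) : C = ⊥ := by
  by_contra hne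
  haveI : Nontrivial ↥C := (Subgroup.nontrivial_iff_ne_bot C).mpr hne
  have h1 := Group.IsSolvable.commutator_lt_top_of_nontrivial ↥C
  apply h1.ne
  apply Subgroup.map_injective C.subtype_injective
  rw [commutator_def, Subgroup.map_commutator, ← MonoidHom.range_eq_map, Subgroup.range_subtype]
  apply le_antisymm _ hperf
  rw [Subgroup.commutator_le]
  intro g₁ h₁ g₂ h₂
  rw [commutatorElement_def]
  exact C.mul_mem (C.mul_mem (C.mul_mem h₁ h₂) (C.inv_mem h₁)) (C.inv_mem h₂)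

/-- `N' ≤ Z₁`: `M = ⁅N,N⁆ ⊔ ⟨z⟩` is `X`-normal, contains `z`, lies in `N`; if it had a non-scalar element
then `M = N`, so `⁅N,N⁆ = ⁅M,M⁆ = ⁅⁅N,N⁆,⁅N,N⁆⁆` (z central), contradicting solvability unless `⁅N,N⁆ = ⊥`;
so all elements of `M` are scalar, i.e. in `{1,z}` (k5_scalar). -/
theorem k5_class2 {S : Type*} [Group S] [Finite S] {E : Type*} [AddCommGroup E]
    [Module (ZMod 3) E] [Finite E] (ρ : Representation (ZMod 3) S E) (b : S) (R Q : Subgroup S) (h : RSetting ρ b R Q) (z : S) (N : Subgroup S) (d : K5Data ρ b R z N) : K5C2 z N := by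
  classical
  obtain ⟨hsc, hz1, hzz, hcen, hbz⟩ := k5_scalar ρ b R Q h z d.zR d.zneg
  have hCN : ⁅N, N⁆ ≤ N := by
    rw [Subgroup.commutator_le]
    intro g₁ h₁ g₂ h₂
    rw [commutatorElement_def]
    exact N.mul_mem (N.mul_mem (N.mul_mem h₁ h₂) (N.inv_mem h₁)) (N.inv_mem h₂)
  have hZN : Subgroup.zpowers z ≤ N := by
    rw [Subgroup.zpowers_le]
    exact d.zN
  have hNX : N ≤ R ⊔ Subgroup.zpowers b := d.NR.trans le_sup_left
  have hMN : ⁅N, N⁆ ⊔ Subgroup.zpowers z ≤ N := sup_le hCN hZN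
  have hzM : z ∈ ⁅N, N⁆ ⊔ Subgroup.zpowers z :=
    Subgroup.mem_sup_right (Subgroup.mem_zpowers z)
  have hMn : XNormal b R (⁅N, N⁆ ⊔ Subgroup.zpowers z) := by
    intro x hx a ha
    have hle : ⁅N, N⁆ ⊔ Subgroup.zpowers z ≤
        (⁅N, N⁆ ⊔ Subgroup.zpowers z).comap (MulAut.conj x).toMonoidHom := by
      apply sup_le
      · rw [Subgroup.commutator_le]
        intro g₁ h₁ g₂ h₂
        rw [Subgroup.mem_comap]
        apply Subgroup.mem_sup_left
        have h3 : (MulAut.conj x).toMonoidHom ⁅g₁, g₂⁆ = ⁅x * g₁ * x⁻¹, x * g₂ * x⁻¹⁆ := by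
          change x * ⁅g₁, g₂⁆ * x⁻¹ = _
          rw [commutatorElement_def, commutatorElement_def]
          group
        rw [h3]
        exact Subgroup.commutator_mem_commutator (d.Nn x hx g₁ h₁) (d.Nn x hx g₂ h₂)
      · rw [Subgroup.zpowers_le, Subgroup.mem_comap]
        have h3 : (MulAut.conj x).toMonoidHom z = z := by
          change x * z * x⁻¹ = z
          rw [hcen x hx, mul_assoc, mul_inv_cancel, mul_one]
        rw [h3]
        exact hzM
    have h4 := hle ha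
    rw [Subgroup.mem_comap] at h4
    exact h4
  by_cases hM : ∃ x ∈ ⁅N, N⁆ ⊔ Subgroup.zpowers z, ¬ (ρ x = 1 ∨ ρ x = -1)
  · -- `M = N`, so `⁅N,N⁆` is perfect, hence trivial
    have hMeq := d.min _ hMN hMn hzM hM
    -- `zpowers z` centralises `N`
    have hZc : ∀ w ∈ Subgroup.zpowers z, ∀ x ∈ N, x * w = w * x := by
      have h5 : Subgroup.zpowers z ≤ Subgroup.centralizer (N : Set S) := by
        rw [Subgroup.zpowers_le, Subgroup.mem_centralizer_iff]
        intro x hx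
        exact hcen x (hNX hx)
      intro w hw x hx
      exact (Subgroup.mem_centralizer_iff.mp (h5 hw)) x hx
    -- decomposition of the elements of `N`
    have hdec : ∀ g ∈ N, ∃ c ∈ ⁅N, N⁆, ∃ w ∈ Subgroup.zpowers z, g = c * w := by
      let T : Subgroup S :=
        { carrier := {g | ∃ c ∈ ⁅N, N⁆, ∃ w ∈ Subgroup.zpowers z, g = c * w}
          one_mem' := ⟨1, Subgroup.one_mem _, 1, Subgroup.one_mem _, (mul_one 1).symm⟩
          mul_mem' := by
            rintro _ _ ⟨c, hc, w, hw, rfl⟩ ⟨c', hc', w', hw', rfl⟩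
            refine ⟨c * c', Subgroup.mul_mem _ hc hc', w * w', Subgroup.mul_mem _ hw hw', ?_⟩
            have h6 := hZc w hw c' (hCN hc')
            calc c * w * (c' * w') = c * (w * c') * w' := by group
              _ = c * (c' * w) * w' := by rw [h6]
              _ = c * c' * (w * w') := by group
          inv_mem' := by
            rintro _ ⟨c, hc, w, hw, rfl⟩
            refine ⟨c⁻¹, Subgroup.inv_mem _ hc, w⁻¹, Subgroup.inv_mem _ hw, ?_⟩
            have h6 := hZc w⁻¹ (Subgroup.inv_mem _ hw) c⁻¹ (hCN (Subgroup.inv_mem _ hc))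
            rw [mul_inv_rev, h6] }
      have hT : ⁅N, N⁆ ⊔ Subgroup.zpowers z ≤ T := by
        apply sup_le
        · intro c hc
          exact ⟨c, hc, 1, Subgroup.one_mem _, (mul_one c).symm⟩
        · intro w hw
          exact ⟨1, Subgroup.one_mem _, w, hw, (one_mul w).symm⟩
      intro g hg
      rw [← hMeq] at hg
      exact hT hg
    have hperf : ⁅N, N⁆ ≤ ⁅⁅N, N⁆, ⁅N, N⁆⁆ := by
      nth_rewrite 1 [Subgroup.commutator_le]
      intro g₁ h₁ g₂ h₂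
      obtain ⟨c₁, hc₁, w₁, hw₁, rfl⟩ := hdec g₁ h₁
      obtain ⟨c₂, hc₂, w₂, hw₂, rfl⟩ := hdec g₂ h₂
      have h7 : ⁅c₁ * w₁, c₂ * w₂⁆ = ⁅c₁, c₂⁆ := by
        rw [commutatorElement_def, commutatorElement_def]
        have e1 : c₂ * w₁ = w₁ * c₂ := hZc w₁ hw₁ c₂ (hCN hc₂)
        have e2 : w₂ * w₁ = w₁ * w₂ := hZc w₁ hw₁ w₂ (hZN hw₂)
        have e3 : c₁ * w₂ = w₂ * c₁ := hZc w₂ hw₂ c₁ (hCN hc₁)
        have e4 : c₂ * w₂ = w₂ * c₂ := hZc w₂ hw₂ c₂ (hCN hc₂)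
        have e5 : c₁ * w₁ = w₁ * c₁ := hZc w₁ hw₁ c₁ (hCN hc₁)
        calc c₁ * w₁ * (c₂ * w₂) * (c₁ * w₁)⁻¹ * (c₂ * w₂)⁻¹
            = c₁ * (w₁ * c₂) * w₂ * w₁⁻¹ * c₁⁻¹ * w₂⁻¹ * c₂⁻¹ := by
              rw [mul_inv_rev, mul_inv_rev]; simp only [mul_assoc]
          _ = c₁ * (c₂ * w₁) * w₂ * w₁⁻¹ * c₁⁻¹ * w₂⁻¹ * c₂⁻¹ := by rw [e1]
          _ = c₁ * c₂ * (w₁ * w₂) * w₁⁻¹ * c₁⁻¹ * w₂⁻¹ * c₂⁻¹ := by simp only [mul_assoc]
          _ = c₁ * c₂ * (w₂ * w₁) * w₁⁻¹ * c₁⁻¹ * w₂⁻¹ * c₂⁻¹ := by rw [e2]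
          _ = c₁ * c₂ * (w₂ * c₁⁻¹) * w₂⁻¹ * c₂⁻¹ := by group
          _ = c₁ * c₂ * (c₁⁻¹ * w₂) * w₂⁻¹ * c₂⁻¹ := by
              have e6 : c₁⁻¹ * w₂ = w₂ * c₁⁻¹ := hZc w₂ hw₂ c₁⁻¹ (hCN (Subgroup.inv_mem _ hc₁))
              rw [e6]
          _ = c₁ * c₂ * c₁⁻¹ * c₂⁻¹ := by group
      rw [h7]
      exact Subgroup.commutator_mem_commutator hc₁ hc₂
    haveI hsolR : Group.IsSolvable ↥R := h.solv
    haveI : Group.IsSolvable ↥(⁅N, N⁆) :=
      Group.isSolvable_of_isSolvable_injective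
        (Subgroup.inclusion_injective (hCN.trans d.NR))
    have hbot := k5c2p_perfect_bot ⁅N, N⁆ hperf
    intro x hx y hy
    left
    have h8 : ⁅x, y⁆ ∈ ⁅N, N⁆ := Subgroup.commutator_mem_commutator hx hy
    rw [hbot, Subgroup.mem_bot, commutatorElement_def] at h8
    exact h8
  · push Not at hM
    intro x hx y hy
    have h8 : ⁅x, y⁆ ∈ ⁅N, N⁆ := Subgroup.commutator_mem_commutator hx hy
    have h9 := hM _ (Subgroup.mem_sup_left h8)
    rw [commutatorElement_def] at h8 h9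
    exact (hsc _ (d.NR (hCN h8))).mp h9

end Cfsg.Agent.Helper12.S15
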