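import Mathlib
import Cfsg.Agent.Lib.S15.S15Defs
import Cfsg.Agent.Lib.S15.K5Defs
import Cfsg.Agent.Lib.S15.K5SC

/-! S4415 design (helper12), piece K5CEN.  See plans/S4415_plan.md. -/

set_option autoImplicit false

namespace Cfsg.Agent.Helper12.S15

/-- `Z(N) = {1,z}`: `Z(N)` is `X`-normal and contains `z`; if it had a non-scalar element it would be `N`. -/
theorem k5_center {S : Type*} [Group S] [Finite S] {E : Type*} [AddCommGroup E]
    [Module (ZMod 3) E] [Finite E] (ρ : Representation (ZMod 3) S E) (b : S) (R Q : Subgroup S) (h : RSetting ρ b R Q) (z : S) (N : Subgroup S) (d : K5Data ρ b R z N)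
    (hNA : ∃ x ∈ N, ∃ y ∈ N, x * y ≠ y * x) :
    ∀ c ∈ N, (∀ x ∈ N, x * c = c * x) → c = 1 ∨ c = z := by
  obtain ⟨hsc, -, -, hzc, -⟩ := k5_scalar ρ b R Q h z d.zR d.zneg
  have hmem : ∀ c, c ∈ N ⊓ Subgroup.centralizer (N : Set S) ↔ c ∈ N ∧ ∀ x ∈ N, x * c = c * x := by
    intro c
    rw [Subgroup.mem_inf, Subgroup.mem_centralizer_iff]
    rfl
  have hZN : N ⊓ Subgroup.centralizer (N : Set S) ≤ N := inf_le_left
  have hXn : XNormal b R (N ⊓ Subgroup.centralizer (N : Set S)) := by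
    intro w hw c hc
    rw [hmem] at hc ⊢
    refine ⟨d.Nn w hw c hc.1, fun x hx => ?_⟩
    have hx' : w⁻¹ * x * (w⁻¹)⁻¹ ∈ N := d.Nn w⁻¹ (Subgroup.inv_mem _ hw) x hx
    have h1 := hc.2 _ hx'
    calc x * (w * c * w⁻¹) = w * ((w⁻¹ * x * (w⁻¹)⁻¹) * c) * w⁻¹ := by group
      _ = w * (c * (w⁻¹ * x * (w⁻¹)⁻¹)) * w⁻¹ := by rw [h1]
      _ = w * c * w⁻¹ * x := by group
  have hzZ : z ∈ N ⊓ Subgroup.centralizer (N : Set S) := by
    rw [hmem]
    exact ⟨d.zN, fun x hx => hzc x (Subgroup.mem_sup_left (d.NR hx))⟩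
  intro c hcN hcc
  have hcZ : c ∈ N ⊓ Subgroup.centralizer (N : Set S) := (hmem c).2 ⟨hcN, hcc⟩
  by_cases hs : ρ c = 1 ∨ ρ c = -1
  · exact (hsc c (d.NR hcN)).1 hs
  · exfalso
    have hEq : N ⊓ Subgroup.centralizer (N : Set S) = N := d.min _ hZN hXn hzZ ⟨c, hcZ, hs⟩
    obtain ⟨x, hx, y, hy, hxy⟩ := hNA
    apply hxy
    have hy' : y ∈ N ⊓ Subgroup.centralizer (N : Set S) := by rw [hEq]; exact hy
    exact ((hmem y).1 hy').2 x hx

end Cfsg.Agent.Helper12.S15
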