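import Mathlib
import Cfsg.Agent.Lib.S15.S15Defs

/-! S4415 design (helper12), piece K5KER.  See plans/S4415_plan.md. -/

set_option autoImplicit false

namespace Cfsg.Agent.Helper12.S15

/-- rank-nullity in cardinality form -/
theorem card_ker {S : Type*} [Group S] [Finite S] {E : Type*} [AddCommGroup E]
    [Module (ZMod 3) E] [Finite E] (ρ : Representation (ZMod 3) S E) (b : S) (R Q : Subgroup S) (h : Setting ρ b R Q) :
    Nat.card ↥(LinearMap.ker (ρ b - 1)) * 9 = Nat.card E := by
  have h1 := Submodule.card_eq_card_quotient_mul_card (LinearMap.ker (ρ b - 1))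
  have h2 : Nat.card (E ⧸ LinearMap.ker (ρ b - 1)) = Nat.card ↥(LinearMap.range (ρ b - 1)) :=
    Nat.card_congr (LinearMap.quotKerEquivRange (ρ b - 1)).toEquiv
  rw [h1, h2, h.rk]

end Cfsg.Agent.Helper12.S15
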