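import Mathlib
import Cfsg.Agent.Lib.S15.S15Defs
import Cfsg.Agent.Lib.S15.K5KER

/-! S4415 design (helper12), piece K5F4.  See plans/S4415_plan.md. -/

set_option autoImplicit false

namespace Cfsg.Agent.Helper12.S15

/-- `y = (u⁻¹ b u) b⁻¹` fixes `C ∩ ρ(u)⁻¹ C` pointwise (`C = ker (b-1)`, `|C| = |E|/9`); if `ρ(y)² = -1` this
intersection is `0`, so `|C|² ≤ |E|`, i.e. `|E| ≤ 81`. -/
theorem k5_f4 {S : Type*} [Group S] [Finite S] {E : Type*} [AddCommGroup E]
    [Module (ZMod 3) E] [Finite E] (ρ : Representation (ZMod 3) S E) (b : S) (R Q : Subgroup S) (h : Setting ρ b R Q) (u : S) (hu : u ∈ R)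
    (hy : ρ (u⁻¹ * (b * u * b⁻¹)) * ρ (u⁻¹ * (b * u * b⁻¹)) = -1) : Nat.card E ≤ 81 := by
  classical
  set C := LinearMap.ker (ρ b - 1) with hCdef
  have hC : Nat.card ↥C * 9 = Nat.card E := card_ker ρ b R Q h
  have hmemC : ∀ v, v ∈ C ↔ ρ b v = v := by
    intro v
    rw [hCdef, LinearMap.mem_ker, LinearMap.sub_apply, Module.End.one_apply, sub_eq_zero]
  have hmul : ∀ (x y : S) (v : E), ρ (x * y) v = ρ x (ρ y v) := by
    intro x y v
    rw [map_mul]; rfl
  have hinvl : ∀ (x : S) (v : E), ρ x⁻¹ (ρ x v) = v := by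
    intro x v
    rw [← hmul, inv_mul_cancel, map_one]; rfl
  have hinvr : ∀ (x : S) (v : E), ρ x (ρ x⁻¹ v) = v := by
    intro x v
    rw [← hmul, mul_inv_cancel, map_one]; rfl
  have key : ∀ v, v ∈ C → ρ u v ∈ C → v = 0 := by
    intro v hv hv'
    rw [hmemC] at hv hv'
    have hb' : ρ b⁻¹ v = v := by
      conv_lhs => rw [← hv]
      exact hinvl b v
    have hyv : ρ (u⁻¹ * (b * u * b⁻¹)) v = v := by
      rw [hmul, hmul, hmul, hb', hv', hinvl]
    have h2 := LinearMap.congr_fun hy v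
    rw [Module.End.mul_apply, hyv, hyv, LinearMap.neg_apply, Module.End.one_apply] at h2
    have h3 : (2 : ZMod 3) • v = 0 := by
      rw [two_smul]
      nth_rewrite 2 [h2]
      exact add_neg_cancel v
    have h4 : v = ((2 : ZMod 3) * 2) • v := by
      rw [show (2 : ZMod 3) * 2 = 1 from by decide, one_smul]
    rw [h4, mul_smul, h3, smul_zero]
  let f : ↥C × ↥C → E := fun p => (p.1 : E) + ρ u⁻¹ (p.2 : E)
  have hf : Function.Injective f := by
    rintro ⟨a, w⟩ ⟨a', w'⟩ hab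
    have hab' : (a : E) + ρ u⁻¹ (w : E) = (a' : E) + ρ u⁻¹ (w' : E) := hab
    have hv : (a : E) - a' = ρ u⁻¹ ((w' : E) - w) := by
      rw [map_sub, sub_eq_sub_iff_add_eq_add, hab', add_comm]
    have h0 := key ((a : E) - a') (C.sub_mem a.2 a'.2) (by
      rw [hv, hinvr]; exact C.sub_mem w'.2 w.2)
    have ha : a = a' := Subtype.ext (sub_eq_zero.mp h0)
    have hw : w = w' := by
      rw [h0] at hv
      have h5 : (w' : E) - w = 0 := by
        have := congrArg (ρ u) hv
        rw [hinvr, map_zero] at this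
        exact this.symm
      exact Subtype.ext (sub_eq_zero.mp h5).symm
    rw [ha, hw]
  have hle := Nat.card_le_card_of_injective f hf
  rw [Nat.card_prod] at hle
  have hpos : 0 < Nat.card ↥C := Nat.card_pos
  have h9 : Nat.card ↥C ≤ 9 := by
    rw [← hC] at hle
    exact Nat.le_of_mul_le_mul_left hle hpos
  calc Nat.card E = Nat.card ↥C * 9 := hC.symm
    _ ≤ 9 * 9 := Nat.mul_le_mul_right _ h9
    _ = 81 := by norm_num

end Cfsg.Agent.Helper12.S15
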