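import Mathlib
import Cfsg.Agent.Lib.S15.S15Defs
import Cfsg.Agent.Lib.S15.K5Defs
import Cfsg.Agent.Lib.S15.LFRAME
import Cfsg.Agent.Lib.S15.LFTAB

/-! S4415 design (helper12), piece K5N.  See plans/S4415_plan.md. -/

set_option autoImplicit false

namespace Cfsg.Agent.Helper12.S15

/-- `X = R ⊔ ⟨b⟩` normalises `R` -/
theorem k5n_xnormal_R {S : Type*} [Group S] (b : S) (R : Subgroup S)
    (hb3 : b ^ 3 = 1) (hbR : ∀ r ∈ R, b * r * b⁻¹ ∈ R) : XNormal b R R := by
  have hbn : b ∈ Subgroup.normalizer (R : Set S) := by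
    rw [Subgroup.mem_normalizer_iff]
    intro r
    constructor
    · exact hbR r
    · intro hr
      have h1 := hbR _ hr
      have h2 := hbR _ h1
      have e : b * (b * (b * r * b⁻¹) * b⁻¹) * b⁻¹ = b ^ 3 * r * (b ^ 3)⁻¹ := by
        simp only [pow_succ, pow_zero, one_mul, mul_inv_rev, mul_assoc]
      rw [e, hb3] at h2
      simpa using h2
  have hle : R ⊔ Subgroup.zpowers b ≤ Subgroup.normalizer (R : Set S) := by
    apply sup_le Subgroup.le_normalizer
    rw [Subgroup.zpowers_le]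
    exact hbn
  intro x hx a ha
  exact (Subgroup.mem_normalizer_iff.mp (hle hx) a).mp ha

/-- existence of a minimal `N` (`R` itself contains `z` and the non-scalar `q₁`; induct on the order) -/
theorem k5_exists_N {S : Type*} [Group S] [Finite S] {E : Type*} [AddCommGroup E]
    [Module (ZMod 3) E] [Finite E] (ρ : Representation (ZMod 3) S E) (b : S) (R Q : Subgroup S) (h : RSetting ρ b R Q) (z : S) (hz : z ∈ R) (hzn : ρ z = -1) :
    ∃ N : Subgroup S, K5Data ρ b R z N := by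
  classical
  -- the property
  let P : Subgroup S → Prop := fun M =>
    M ≤ R ∧ XNormal b R M ∧ z ∈ M ∧ ∃ x ∈ M, ¬ (ρ x = 1 ∨ ρ x = -1)
  have hPR : P R := by
    refine ⟨le_rfl, k5n_xnormal_R b R h.b3 h.bR, hz, ?_⟩
    obtain ⟨q₁, q₂, q₃, e₁, e₂, e₃, f⟩ := exists_frame ρ b R Q h.toSetting
    obtain ⟨-, h12, -, -, -, -, -, he2, -⟩ := frame_table ρ b R Q h.toSetting q₁ q₂ q₃ e₁ e₂ e₃ f
    have hneg : ∀ e : E, e = -e → e = 0 := by
      intro e he
      have h2 : (2 : ZMod 3) • e = 0 := by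
        rw [two_smul]
        nth_rewrite 2 [he]
        exact add_neg_cancel e
      rcases smul_eq_zero.mp h2 with h' | h'
      · exact absurd h' (by decide)
      · exact h'
    refine ⟨q₁, h.QR f.q₁Q, ?_⟩
    rintro (h1 | h1)
    · apply he2
      apply hneg
      rw [h1, Module.End.one_apply] at h12
      exact h12
    · apply f.e₁0
      apply hneg
      have := f.q₁e₁
      rw [h1, LinearMap.neg_apply, Module.End.one_apply] at this
      exact this.symm
  have hex : ∃ n : ℕ, ∃ M : Subgroup S, P M ∧ Nat.card M = n := ⟨_, R, hPR, rfl⟩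
  obtain ⟨N, hPN, hcard⟩ := Nat.find_spec hex
  refine ⟨N, ⟨hz, hzn, hPN.1, hPN.2.2.1, hPN.2.1, hPN.2.2.2, ?_⟩⟩
  intro M hMN hMn hzM hMns
  have hPM : P M := ⟨hMN.trans hPN.1, hMn, hzM, hMns⟩
  have hmin : Nat.find hex ≤ Nat.card M := Nat.find_min' hex ⟨M, hPM, rfl⟩
  rw [← hcard] at hmin
  exact Subgroup.eq_of_le_of_card_ge hMN hmin

end Cfsg.Agent.Helper12.S15
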