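import Mathlib
import Cfsg.Agent.Lib.S15.S15Defs
import Cfsg.Agent.Lib.S15.K5Defs
import Cfsg.Agent.Lib.S15.K5SC

/-! S4415 design (helper12), piece K5NA.  See plans/S4415_plan.md. -/

set_option autoImplicit false

namespace Cfsg.Agent.Helper12.S15

/-- `N` is non-abelian: otherwise `Ω = {x ∈ N | x² = 1}` is an `X`-normal elementary abelian 2-subgroup,
scalar by HK4; every `x ∈ N` non-scalar has `x² = z`, two such differ by an element of `Ω ⊆ {1,z}`, so
`N = ⟨x⟩` is cyclic of order 4 and `X`-normal: HK3. -/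
theorem k5_nonab {S : Type*} [Group S] [Finite S] {E : Type*} [AddCommGroup E]
    [Module (ZMod 3) E] [Finite E] (ρ : Representation (ZMod 3) S E) (b : S) (R Q : Subgroup S) (h : RSetting ρ b R Q) (z : S) (N : Subgroup S) (d : K5Data ρ b R z N) (hK3 : HK3 b R) (hK4 : HK4 ρ b R)
    (hSQ : K5SQ z N) : ∃ x ∈ N, ∃ y ∈ N, x * y ≠ y * x := by
  by_contra hcon
  have hab : ∀ x ∈ N, ∀ y ∈ N, x * y = y * x := by
    intro x hx y hy
    by_contra hne
    exact hcon ⟨x, hx, y, hy, hne⟩
  obtain ⟨hsc, hz1, hzz, -, -⟩ := k5_scalar ρ b R Q h z d.zR d.zneg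
  -- the subgroup of involutions of `N`
  let Om : Subgroup S :=
    { carrier := {x | x ∈ N ∧ x * x = 1}
      mul_mem' := by
        intro x y hx hy
        refine ⟨N.mul_mem hx.1 hy.1, ?_⟩
        have hc := hab x hx.1 y hy.1
        calc x * y * (x * y) = x * (y * x) * y := by group
          _ = x * (x * y) * y := by rw [hc]
          _ = (x * x) * (y * y) := by group
          _ = 1 := by rw [hx.2, hy.2, one_mul]
      one_mem' := ⟨N.one_mem, one_mul 1⟩
      inv_mem' := by
        intro x hx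
        refine ⟨N.inv_mem hx.1, ?_⟩
        calc x⁻¹ * x⁻¹ = (x * x)⁻¹ := by group
          _ = 1 := by rw [hx.2, inv_one] }
  have hOmR : Om ≤ R := fun x hx => d.NR hx.1
  have hOmN : XNormal b R Om := by
    intro g hg a ha
    refine ⟨d.Nn g hg a ha.1, ?_⟩
    calc g * a * g⁻¹ * (g * a * g⁻¹) = g * (a * a) * g⁻¹ := by group
      _ = 1 := by rw [ha.2]; group
  have hOm2 : ∀ a ∈ Om, a ^ 2 = 1 := by
    intro a ha
    rw [pow_two]
    exact ha.2
  have hOmsc : ∀ a ∈ Om, a = 1 ∨ a = z := by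
    intro a ha
    exact (hsc a (hOmR ha)).mp (hK4 Om hOmR hOmN hOm2 a ha)
  -- non-scalar elements of `N` square to `z`
  have hnsq : ∀ y ∈ N, ¬ (ρ y = 1 ∨ ρ y = -1) → y * y = z := by
    intro y hy hns
    rcases hSQ y hy with h1 | h1
    · exfalso
      exact hns ((hsc y (d.NR hy)).mpr (hOmsc y ⟨hy, h1⟩))
    · exact h1
  obtain ⟨x, hxN, hxns⟩ := d.nsc
  have hxx : x * x = z := hnsq x hxN hxns
  have hx2 : x ^ 2 = z := by rw [pow_two]; exact hxx
  have hx4 : x ^ 4 = 1 := by
    calc x ^ 4 = x ^ 2 * x ^ 2 := by rw [← pow_add]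
      _ = 1 := by rw [hx2, hzz]
  have hord : orderOf x = 4 := by
    have h1 : ¬ x ^ 2 ^ 1 = 1 := by
      rw [pow_one, hx2]; exact hz1
    have h2 : x ^ 2 ^ (1 + 1) = 1 := by
      norm_num
      exact hx4
    have := orderOf_eq_prime_pow h1 h2
    simpa using this
  -- `N ≤ ⟨x⟩`
  have hNle : N ≤ Subgroup.zpowers x := by
    intro y hy
    by_cases hys : ρ y = 1 ∨ ρ y = -1
    · rcases (hsc y (d.NR hy)).mp hys with h1 | h1
      · rw [h1]; exact Subgroup.one_mem _
      · rw [h1, ← hx2]; exact Subgroup.pow_mem _ (Subgroup.mem_zpowers x) 2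
    · have hyy : y * y = z := hnsq y hy hys
      have hw : y * x⁻¹ ∈ Om := by
        refine ⟨N.mul_mem hy (N.inv_mem hxN), ?_⟩
        have hc := hab y hy x⁻¹ (N.inv_mem hxN)
        calc y * x⁻¹ * (y * x⁻¹) = y * (x⁻¹ * y) * x⁻¹ := by group
          _ = y * (y * x⁻¹) * x⁻¹ := by rw [hc]
          _ = (y * y) * (x * x)⁻¹ := by group
          _ = 1 := by rw [hyy, hxx, mul_inv_cancel]
      rcases hOmsc _ hw with h1 | h1
      · have : y = x := by
          have := congrArg (· * x) h1
          simpa using this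
        rw [this]; exact Subgroup.mem_zpowers x
      · have : y = z * x := by
          have := congrArg (· * x) h1
          simpa using this
        rw [this, ← hx2]
        exact Subgroup.mul_mem _ (Subgroup.pow_mem _ (Subgroup.mem_zpowers x) 2)
          (Subgroup.mem_zpowers x)
  have hleN : Subgroup.zpowers x ≤ N := (Subgroup.zpowers_le).mpr hxN
  have hxnorm : XNormal b R (Subgroup.zpowers x) := by
    intro g hg a ha
    exact hNle (d.Nn g hg a (hleN ha))
  exact hK3 x (d.NR hxN) hxnorm hord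

end Cfsg.Agent.Helper12.S15
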