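import Mathlib
import Cfsg.Agent.Lib.S15.S15Defs
import Cfsg.Agent.Lib.S15.K5Defs
import Cfsg.Agent.Lib.S15.K5SC

/-! S4415 design (helper12), piece K5ODD (implemented by helper11).  See plans/S4415_plan.md. -/

set_option autoImplicit false

namespace Cfsg.Agent.Helper12.S15

/-- an element of odd order of a group whose commutators with it lie in `{1, z}`, `z` a central
involution, commutes with everything concerned -/
theorem k5odd_comm {S : Type*} [Group S] (z x y : S) (hz2 : z * z = 1) (hz1 : z ≠ 1)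
    (hzx : x * z = z * x) (hc : x * y * x⁻¹ * y⁻¹ = 1 ∨ x * y * x⁻¹ * y⁻¹ = z)
    (hodd : Odd (orderOf x)) : x * y = y * x := by
  rcases hc with h | h
  · have h1 : x * y * (y * x)⁻¹ = 1 := by
      rw [← h]; group
    exact mul_inv_eq_one.mp h1
  · exfalso
    have hxy : x * y * x⁻¹ = z * y := by
      have : x * y * x⁻¹ = (x * y * x⁻¹ * y⁻¹) * y := by group
      rw [this, h]
    have hcomm : Commute x z := hzx
    have hpow : ∀ n : ℕ, x ^ n * y * (x ^ n)⁻¹ = z ^ n * y := by
      intro n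
      induction n with
      | zero => simp
      | succ n ih =>
        have hcn : Commute x (z ^ n) := hcomm.pow_right n
        calc x ^ (n + 1) * y * (x ^ (n + 1))⁻¹ = x * (x ^ n * y * (x ^ n)⁻¹) * x⁻¹ := by
              rw [pow_succ']; group
          _ = x * (z ^ n * y) * x⁻¹ := by rw [ih]
          _ = z ^ n * (x * y * x⁻¹) := by
              rw [← mul_assoc x, hcn.eq]; group
          _ = z ^ (n + 1) * y := by rw [hxy, pow_succ]; group
    have h1 := hpow (orderOf x)
    rw [pow_orderOf_eq_one, one_mul, inv_one, mul_one] at h1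
    have h2 : z ^ orderOf x = 1 := by
      have : z ^ orderOf x * y = 1 * y := by rw [one_mul, ← h1]
      exact mul_right_cancel this
    obtain ⟨j, hj⟩ := hodd
    rw [hj, pow_succ, pow_mul, pow_two, hz2, one_pow, one_mul] at h2
    exact hz1 h2

/-- `N` is a 2-group: elements of odd order of `N` commute pairwise (`[x,y]` has order dividing 2 and
`[x,y]^m = [x^m,y] = 1` in class 2), so they form an abelian `X`-normal subgroup of odd order: HK2. -/
theorem k5_two_group {S : Type*} [Group S] [Finite S] {E : Type*} [AddCommGroup E]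
    [Module (ZMod 3) E] [Finite E] (ρ : Representation (ZMod 3) S E) (b : S) (R Q : Subgroup S) (h : RSetting ρ b R Q) (z : S) (N : Subgroup S) (d : K5Data ρ b R z N) (hK2 : HK2 b R) (hC2 : K5C2 z N) :
    ∀ x ∈ N, ∃ k : ℕ, x ^ (2 ^ k) = 1 := by
  classical
  obtain ⟨-, hz1, hz2, hzc, -⟩ := k5_scalar ρ b R Q h z d.zR d.zneg
  have hNX : N ≤ R ⊔ Subgroup.zpowers b := d.NR.trans le_sup_left
  -- odd order elements of `N` are central in `N`
  have hcomm : ∀ x ∈ N, Odd (orderOf x) → ∀ y ∈ N, x * y = y * x := by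
    intro x hx hodd y hy
    exact k5odd_comm z x y hz2 hz1 (hzc x (hNX hx)) (hC2 x hx y hy) hodd
  -- the subgroup of odd order elements
  let O : Subgroup S :=
    { carrier := {x | x ∈ N ∧ Odd (orderOf x)}
      one_mem' := ⟨N.one_mem, by rw [orderOf_one]; exact odd_one⟩
      mul_mem' := by
        rintro x y ⟨hx, hxo⟩ ⟨hy, hyo⟩
        refine ⟨N.mul_mem hx hy, ?_⟩
        have h1 : orderOf (x * y) ∣ Nat.lcm (orderOf x) (orderOf y) :=
          Commute.orderOf_mul_dvd_lcm (hcomm x hx hxo y hy)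
        have h2 : Nat.lcm (orderOf x) (orderOf y) ∣ orderOf x * orderOf y := Nat.lcm_dvd_mul _ _
        have h3 : Odd (orderOf x * orderOf y) := hxo.mul hyo
        rw [← Nat.not_even_iff_odd] at h3 ⊢
        intro he
        apply h3
        exact (even_iff_two_dvd.mpr ((even_iff_two_dvd.mp he).trans (h1.trans h2)))
      inv_mem' := by
        rintro x ⟨hx, hxo⟩
        exact ⟨N.inv_mem hx, by rw [orderOf_inv]; exact hxo⟩ }
  have hOmem : ∀ x, x ∈ O ↔ x ∈ N ∧ Odd (orderOf x) := fun x => Iff.rfl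
  have hOR : O ≤ R := fun x hx => d.NR ((hOmem x).mp hx).1
  have hOn : XNormal b R O := by
    intro g hg a ha
    rw [hOmem] at ha ⊢
    refine ⟨d.Nn g hg a ha.1, ?_⟩
    have h1 := orderOf_injective (MulAut.conj g).toMonoidHom (MulAut.conj g).injective a
    have h2 : (MulAut.conj g).toMonoidHom a = g * a * g⁻¹ := by simp
    rw [h2] at h1
    rw [h1]
    exact ha.2
  have hOab : ∀ a ∈ O, ∀ a' ∈ O, a * a' = a' * a := by
    intro a ha a' ha'
    exact hcomm a ((hOmem a).mp ha).1 ((hOmem a).mp ha).2 a' ((hOmem a').mp ha').1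
  have hOodd : Odd (Nat.card ↥O) := by
    rw [← Nat.not_even_iff_odd]
    intro he
    haveI : Fact (Nat.Prime 2) := ⟨Nat.prime_two⟩
    obtain ⟨x, hx⟩ := exists_prime_orderOf_dvd_card' (G := ↥O) 2 (even_iff_two_dvd.mp he)
    have h1 : Odd (orderOf (x : S)) := ((hOmem _).mp x.2).2
    rw [Subgroup.orderOf_coe, hx] at h1
    exact absurd h1 (by decide)
  have hObot : O = ⊥ := hK2 O hOR hOn hOab hOodd
  intro x hx
  have hpos : orderOf x ≠ 0 := (orderOf_pos x).ne'
  obtain ⟨k, m, hm, hkm⟩ := Nat.exists_eq_two_pow_mul_odd hpos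
  refine ⟨k, ?_⟩
  have h2k : (2 : ℕ) ^ k ≠ 0 := pow_ne_zero _ (by norm_num)
  have h1 : orderOf (x ^ (2 ^ k)) = m := by
    rw [orderOf_pow_of_dvd h2k ⟨m, hkm⟩, hkm, Nat.mul_div_cancel_left _ (Nat.pos_of_ne_zero h2k)]
  have h3 : x ^ (2 ^ k) ∈ O := (hOmem _).mpr ⟨N.pow_mem hx _, by rw [h1]; exact hm⟩
  rw [hObot, Subgroup.mem_bot] at h3
  exact h3

end Cfsg.Agent.Helper12.S15
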