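import Mathlib
import Cfsg.Agent.Lib.S15.S15Defs
import Cfsg.Agent.Lib.S15.K5Defs
import Cfsg.Agent.Lib.S15.K5SC

/-! S4415 design (helper12), piece K5POL.  See plans/S4415_plan.md. -/

set_option autoImplicit false

namespace Cfsg.Agent.Helper12.S15

/-- comparing the two ways of reordering `(a d)(a' d')` -/
theorem k5pol_aux1 {G : Type*} [Group G] (a a' d d' e1 e2 : G)
    (h1 : d * a' = e1 * a' * d) (h2 : d' * a = e2 * a * d')
    (ha : a * a' = a' * a) (hd : d * d' = d' * d)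
    (hc1 : a * e1 = e1 * a) (hc2 : a' * e2 = e2 * a')
    (hprod : (a * d) * (a' * d') = (a' * d') * (a * d)) : e1 = e2 := by
  have hL : (a * d) * (a' * d') = e1 * (a * a' * d * d') := by
    calc (a * d) * (a' * d') = a * (d * a') * d' := by simp only [mul_assoc]
      _ = a * (e1 * a' * d) * d' := by rw [h1]
      _ = (a * e1) * a' * d * d' := by simp only [mul_assoc]
      _ = e1 * a * a' * d * d' := by rw [hc1]
      _ = e1 * (a * a' * d * d') := by simp only [mul_assoc]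
  have hR : (a' * d') * (a * d) = e2 * (a * a' * d * d') := by
    calc (a' * d') * (a * d) = a' * (d' * a) * d := by simp only [mul_assoc]
      _ = a' * (e2 * a * d') * d := by rw [h2]
      _ = (a' * e2) * a * d' * d := by simp only [mul_assoc]
      _ = e2 * (a' * a) * (d' * d) := by rw [hc2]; simp only [mul_assoc]
      _ = e2 * (a * a') * (d * d') := by rw [← ha, ← hd]
      _ = e2 * (a * a' * d * d') := by simp only [mul_assoc]
  rw [hL, hR] at hprod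
  exact mul_right_cancel hprod

/-- equal commutators with `v` give an element commuting with `v` -/
theorem k5pol_aux2 {G : Type*} [Group G] (v x y e : G)
    (hx : v * x * v⁻¹ * x⁻¹ = e) (hy : v * y * v⁻¹ * y⁻¹ = e)
    (hc : (x * y⁻¹) * e = e * (x * y⁻¹)) : v * (x * y⁻¹) = (x * y⁻¹) * v := by
  have hx' : v * x = e * x * v := by rw [← hx]; group
  have hy' : v * y⁻¹ = y⁻¹ * e⁻¹ * v := by rw [← hy]; group
  calc v * (x * y⁻¹) = (v * x) * y⁻¹ := by rw [mul_assoc]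
    _ = e * x * v * y⁻¹ := by rw [hx']
    _ = e * x * (v * y⁻¹) := by simp only [mul_assoc]
    _ = e * x * (y⁻¹ * e⁻¹ * v) := by rw [hy']
    _ = (e * (x * y⁻¹)) * e⁻¹ * v := by simp only [mul_assoc]
    _ = (x * y⁻¹) * e * e⁻¹ * v := by rw [← hc]
    _ = (x * y⁻¹) * v := by rw [mul_assoc (x * y⁻¹) e e⁻¹, mul_inv_cancel, mul_one]

/-- polarisation: if `u` commuted with `u^b` for all `u ∈ N` then `[u,v^b] = [u^b,v] = [u,v^(b²)]`, so
`v^b (v^(b²))⁻¹ ∈ Z(N) = {1,z}`, `v^b ∈ {v, vz}`, and `b³ = 1` forces `v^b = v` for all `v ∈ N`. -/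
theorem k5_polar {S : Type*} [Group S] [Finite S] {E : Type*} [AddCommGroup E]
    [Module (ZMod 3) E] [Finite E] (ρ : Representation (ZMod 3) S E) (b : S) (R Q : Subgroup S) (h : RSetting ρ b R Q) (z : S) (N : Subgroup S) (d : K5Data ρ b R z N) (hC2 : K5C2 z N)
    (hCEN : ∀ c ∈ N, (∀ x ∈ N, x * c = c * x) → c = 1 ∨ c = z)
    (hBNC : ∃ x ∈ N, b * x * b⁻¹ ≠ x) :
    ∃ u ∈ N, u * (b * u * b⁻¹) ≠ (b * u * b⁻¹) * u := by
  obtain ⟨-, hz1, hzz, hzc, hbz⟩ := k5_scalar ρ b R Q h z d.zR d.zneg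
  by_contra hcon
  push Not at hcon
  have hbX : b ∈ R ⊔ Subgroup.zpowers b := Subgroup.mem_sup_right (Subgroup.mem_zpowers b)
  have hbiX : b⁻¹ ∈ R ⊔ Subgroup.zpowers b := Subgroup.inv_mem _ hbX
  have hφ : ∀ u ∈ N, b * u * b⁻¹ ∈ N := fun u hu => d.Nn b hbX u hu
  have hψ : ∀ u ∈ N, b⁻¹ * u * b ∈ N := fun u hu => by
    have := d.Nn b⁻¹ hbiX u hu
    rwa [inv_inv] at this
  have hzN : ∀ x ∈ N, x * z = z * x := fun x hx => hzc x (Subgroup.mem_sup_left (d.NR hx))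
  -- elements of `{1,z}` commute with `N` and are fixed by `b`
  have hcen : ∀ e : S, (e = 1 ∨ e = z) → ∀ x ∈ N, x * e = e * x := by
    rintro e (rfl | rfl) x hx
    · rw [mul_one, one_mul]
    · exact hzN x hx
  have hfix : ∀ e : S, (e = 1 ∨ e = z) → b * e * b⁻¹ = e := by
    rintro e (rfl | rfl)
    · rw [mul_one, mul_inv_cancel]
    · exact hbz
  have hb3 : b * b * b = 1 := by
    have := h.b3
    rwa [pow_succ, pow_two] at this
  have hb2 : b * b = b⁻¹ := eq_inv_of_mul_eq_one_left hb3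
  -- step 1 and 2: `c(v, φ u) = c(v, ψ u)`
  have hkey : ∀ u ∈ N, ∀ v ∈ N,
      v * (b * u * b⁻¹) * v⁻¹ * (b * u * b⁻¹)⁻¹ = v * (b⁻¹ * u * b) * v⁻¹ * (b⁻¹ * u * b)⁻¹ := by
    intro u hu v hv
    have he1 := hC2 v hv (b * u * b⁻¹) (hφ u hu)
    have he2 := hC2 (b * v * b⁻¹) (hφ v hv) u hu
    have he3 := hC2 v hv (b⁻¹ * u * b) (hψ u hu)
    have h12 : v * (b * u * b⁻¹) * v⁻¹ * (b * u * b⁻¹)⁻¹ =
        (b * v * b⁻¹) * u * (b * v * b⁻¹)⁻¹ * u⁻¹ := by
      apply k5pol_aux1 u (b * u * b⁻¹) v (b * v * b⁻¹)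
      · group
      · group
      · exact hcon u hu
      · exact hcon v hv
      · exact hcen _ he1 u hu
      · exact hcen _ he2 _ (hφ u hu)
      · have h3 := hcon (u * v) (N.mul_mem hu hv)
        have h4 : b * (u * v) * b⁻¹ = (b * u * b⁻¹) * (b * v * b⁻¹) := by group
        rw [h4] at h3
        exact h3
    have h23 : (b * v * b⁻¹) * u * (b * v * b⁻¹)⁻¹ * u⁻¹ =
        v * (b⁻¹ * u * b) * v⁻¹ * (b⁻¹ * u * b)⁻¹ := by
      rw [← hfix _ he3]
      group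
    rw [h12, h23]
  -- step 3 and 4
  have hall : ∀ u ∈ N, b * u * b⁻¹ = u := by
    intro u hu
    have hw : (b * u * b⁻¹) * (b⁻¹ * u * b)⁻¹ = 1 ∨ (b * u * b⁻¹) * (b⁻¹ * u * b)⁻¹ = z := by
      apply hCEN _ (N.mul_mem (hφ u hu) (N.inv_mem (hψ u hu)))
      intro v hv
      have he3 := hC2 v hv (b⁻¹ * u * b) (hψ u hu)
      exact k5pol_aux2 v (b * u * b⁻¹) (b⁻¹ * u * b) _ (hkey u hu v hv) rfl
        (hcen _ he3 _ (N.mul_mem (hφ u hu) (N.inv_mem (hψ u hu))))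
    have hconj : b * (b * u * b⁻¹) * b⁻¹ = b⁻¹ * u * b := by
      have h1 : b * (b * u * b⁻¹) * b⁻¹ = (b * b) * u * (b * b)⁻¹ := by group
      rw [h1, hb2, inv_inv]
    rcases hw with hw | hw
    · have h1 : b * u * b⁻¹ = b⁻¹ * u * b := mul_inv_eq_one.mp hw
      have h2 : b⁻¹ * u * b = u := by
        rw [← hconj, h1]; group
      rw [h1, h2]
    · have h1 : b * u * b⁻¹ = z * (b⁻¹ * u * b) := mul_inv_eq_iff_eq_mul.mp hw
      have h2 : b⁻¹ * u * b = z * u := by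
        rw [← hconj, h1]
        have h3 : b * (z * (b⁻¹ * u * b)) * b⁻¹ = (b * z * b⁻¹) * u := by group
        rw [h3, hbz]
      rw [h1, h2, ← mul_assoc, hzz, one_mul]
  obtain ⟨x, hx, hne⟩ := hBNC
  exact hne (hall x hx)

end Cfsg.Agent.Helper12.S15
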