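import Mathlib
import Cfsg.Agent.Lib.S15.S15Defs
import Cfsg.Agent.Lib.S15.K5Defs
import Cfsg.Agent.Lib.S15.K5SC

/-! S4415 design (helper12), piece K5SQP.  See plans/S4415_plan.md. -/

set_option autoImplicit false

namespace Cfsg.Agent.Helper12.S15

/-- squares multiply up to the (central) commutator -/
theorem k5sqp_mul {S : Type*} [Group S] (z x y : S) (hzz : z * z = 1) (hxz : x * z = z * x)
    (hc : x * y * x⁻¹ * y⁻¹ = 1 ∨ x * y * x⁻¹ * y⁻¹ = z) (hxx : x * x = 1 ∨ x * x = z)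
    (hyy : y * y = 1 ∨ y * y = z) :
    (x * y) * (x * y) = 1 ∨ (x * y) * (x * y) = z := by
  have e : x * y = (x * y * x⁻¹ * y⁻¹) * (y * x) := by group
  rcases hc with hc | hc
  · rw [hc, one_mul] at e
    have key : (x * y) * (x * y) = (x * x) * (y * y) := by
      calc (x * y) * (x * y) = x * (y * x) * y := by group
        _ = x * (x * y) * y := by rw [← e]
        _ = (x * x) * (y * y) := by group
    rw [key]
    rcases hxx with hxx | hxx <;> rcases hyy with hyy | hyy <;> rw [hxx, hyy]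
    · left; exact one_mul 1
    · right; exact one_mul z
    · right; exact mul_one z
    · left; exact hzz
  · rw [hc] at e
    have e' : y * x = z * (x * y) := by
      rw [e, ← mul_assoc, hzz, one_mul]
    have key : (x * y) * (x * y) = z * ((x * x) * (y * y)) := by
      calc (x * y) * (x * y) = x * (y * x) * y := by group
        _ = x * (z * (x * y)) * y := by rw [← e']
        _ = (x * z) * (x * (y * y)) := by group
        _ = (z * x) * (x * (y * y)) := by rw [hxz]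
        _ = z * ((x * x) * (y * y)) := by group
    rw [key]
    rcases hxx with hxx | hxx <;> rcases hyy with hyy | hyy <;> rw [hxx, hyy]
    · right; rw [one_mul, mul_one]
    · left; rw [one_mul, hzz]
    · left; rw [mul_one, hzz]
    · right; rw [hzz, mul_one]

/-- the subgroup `{x ∈ N | x² ∈ {1,z}}` -/
def k5sqpM {S : Type*} [Group S] (z : S) (N : Subgroup S) (hzz : z * z = 1)
    (hzN : ∀ x ∈ N, x * z = z * x) (hC2 : K5C2 z N) : Subgroup S where
  carrier := {x | x ∈ N ∧ (x * x = 1 ∨ x * x = z)}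
  one_mem' := ⟨N.one_mem, Or.inl (one_mul 1)⟩
  mul_mem' := by
    rintro x y ⟨hx, hxx⟩ ⟨hy, hyy⟩
    exact ⟨N.mul_mem hx hy, k5sqp_mul z x y hzz (hzN x hx) (hC2 x hx y hy) hxx hyy⟩
  inv_mem' := by
    rintro x ⟨hx, hxx⟩
    refine ⟨N.inv_mem hx, ?_⟩
    have hzinv : z⁻¹ = z := inv_eq_of_mul_eq_one_right hzz
    rcases hxx with h1 | h1
    · left; rw [← mul_inv_rev, h1, inv_one]
    · right; rw [← mul_inv_rev, h1, hzinv]

theorem k5sqp_mem {S : Type*} [Group S] (z : S) (N : Subgroup S) (hzz : z * z = 1)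
    (hzN : ∀ x ∈ N, x * z = z * x) (hC2 : K5C2 z N) (x : S) :
    x ∈ k5sqpM z N hzz hzN hC2 ↔ x ∈ N ∧ (x * x = 1 ∨ x * x = z) := Iff.rfl

/-- `M = {x ∈ N | x² ∈ {1,z}}` is an `X`-normal subgroup (class 2) containing `z` and a non-scalar element
(`x^(2^(k-1))` for `x ∈ N` non-scalar, `k` minimal with `x^(2^k)` scalar), so `M = N`. -/
theorem k5_sq {S : Type*} [Group S] [Finite S] {E : Type*} [AddCommGroup E]
    [Module (ZMod 3) E] [Finite E] (ρ : Representation (ZMod 3) S E) (b : S) (R Q : Subgroup S) (h : RSetting ρ b R Q) (z : S) (N : Subgroup S) (d : K5Data ρ b R z N) (hC2 : K5C2 z N)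
    (h2 : ∀ x ∈ N, ∃ k : ℕ, x ^ (2 ^ k) = 1) : K5SQ z N := by
  classical
  obtain ⟨hsc, hz1, hzz, hzc, hbz⟩ := k5_scalar ρ b R Q h z d.zR d.zneg
  have hNX : N ≤ R ⊔ Subgroup.zpowers b := le_trans d.NR le_sup_left
  have hzN : ∀ x ∈ N, x * z = z * x := fun x hx => hzc x (hNX hx)
  have hMN : k5sqpM z N hzz hzN hC2 ≤ N := fun x hx => hx.1
  have hMn : XNormal b R (k5sqpM z N hzz hzN hC2) := by
    intro g hg a ha
    obtain ⟨haN, haa⟩ := ha
    refine ⟨d.Nn g hg a haN, ?_⟩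
    have e : (g * a * g⁻¹) * (g * a * g⁻¹) = g * (a * a) * g⁻¹ := by group
    rw [e]
    rcases haa with haa | haa
    · left; rw [haa, mul_one, mul_inv_cancel]
    · right; rw [haa, hzc g hg, mul_assoc, mul_inv_cancel, mul_one]
  have hzM : z ∈ k5sqpM z N hzz hzN hC2 := ⟨d.zN, Or.inl hzz⟩
  have hns : ∃ x ∈ k5sqpM z N hzz hzN hC2, ¬ (ρ x = 1 ∨ ρ x = -1) := by
    obtain ⟨x, hxN, hxns⟩ := d.nsc
    have hx : ¬ (x = 1 ∨ x = z) := fun hh => hxns ((hsc x (d.NR hxN)).2 hh)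
    obtain ⟨k, hk⟩ := h2 x hxN
    have hex : ∃ j : ℕ, x ^ (2 ^ j) = 1 ∨ x ^ (2 ^ j) = z := ⟨k, Or.inl hk⟩
    have hj := Nat.find_spec hex
    have hmin : ∀ m, m < Nat.find hex → ¬ (x ^ (2 ^ m) = 1 ∨ x ^ (2 ^ m) = z) :=
      fun m hm => Nat.find_min hex hm
    have hj0 : Nat.find hex ≠ 0 := by
      intro h0
      rw [h0, pow_zero, pow_one] at hj
      exact hx hj
    obtain ⟨j', hj'⟩ := Nat.exists_eq_succ_of_ne_zero hj0
    have hx'N : x ^ (2 ^ j') ∈ N := N.pow_mem hxN _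
    have hx'ns : ¬ (x ^ (2 ^ j') = 1 ∨ x ^ (2 ^ j') = z) :=
      hmin j' (by rw [hj']; exact Nat.lt_succ_self j')
    have hsq : x ^ (2 ^ j') * x ^ (2 ^ j') = x ^ (2 ^ Nat.find hex) := by
      rw [hj', ← pow_add, Nat.succ_eq_add_one, pow_succ, mul_two]
    refine ⟨x ^ (2 ^ j'), ⟨hx'N, ?_⟩, ?_⟩
    · rw [hsq]; exact hj
    · intro hh
      exact hx'ns ((hsc _ (d.NR hx'N)).1 hh)
  have hEq := d.min (k5sqpM z N hzz hzN hC2) hMN hMn hzM hns
  intro x hx
  have hxM : x ∈ k5sqpM z N hzz hzN hC2 := by rw [hEq]; exact hx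
  exact hxM.2

end Cfsg.Agent.Helper12.S15
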