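import Mathlib
import Cfsg.Agent.Lib.S15.S15Defs
import Cfsg.Agent.Lib.S15.K5Defs
import Cfsg.Agent.Lib.S15.K5SC

/-! S4415 design (helper12), piece K5Y.  See plans/S4415_plan.md. -/

set_option autoImplicit false

namespace Cfsg.Agent.Helper12.S15

/-- `y = u⁻¹ u^b` has `y² = z` when `[u,u^b] = z` (`u² ∈ {1,z}` is `b`-fixed). -/
theorem k5_ysq {S : Type*} [Group S] [Finite S] {E : Type*} [AddCommGroup E]
    [Module (ZMod 3) E] [Finite E] (ρ : Representation (ZMod 3) S E) (b : S) (R Q : Subgroup S) (h : RSetting ρ b R Q) (z : S) (N : Subgroup S) (d : K5Data ρ b R z N) (hC2 : K5C2 z N) (hSQ : K5SQ z N)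
    (u : S) (hu : u ∈ N) (hne : u * (b * u * b⁻¹) ≠ (b * u * b⁻¹) * u) :
    (u⁻¹ * (b * u * b⁻¹)) * (u⁻¹ * (b * u * b⁻¹)) = z := by
  obtain ⟨_, _, hzz, hcen, hbz⟩ := k5_scalar ρ b R Q h z d.zR d.zneg
  have hbX : b ∈ R ⊔ Subgroup.zpowers b := Subgroup.mem_sup_right (Subgroup.mem_zpowers b)
  have hcN : b * u * b⁻¹ ∈ N := d.Nn b hbX u hu
  have haN : u⁻¹ ∈ N := N.inv_mem hu
  have hzu : u⁻¹ * z = z * u⁻¹ := hcen _ (Subgroup.mem_sup_left (d.NR haN))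
  have hcc : (b * u * b⁻¹) * (b * u * b⁻¹) = b * (u * u) * b⁻¹ := by group
  have hzinv : z⁻¹ = z := inv_eq_of_mul_eq_one_left hzz
  -- the commutator of `c` and `u⁻¹` is `z`
  have hcomm : (b * u * b⁻¹) * u⁻¹ = z * u⁻¹ * (b * u * b⁻¹) := by
    rcases hC2 _ hcN _ haN with h1 | h1
    · exfalso
      apply hne
      have e : (b * u * b⁻¹) * u⁻¹ = u⁻¹ * (b * u * b⁻¹) := by
        have := congrArg (fun t => t * u⁻¹ * (b * u * b⁻¹)) h1
        simp only [one_mul] at this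
        rw [← this]
        group
      calc u * (b * u * b⁻¹) = u * ((b * u * b⁻¹) * u⁻¹) * u := by group
        _ = u * (u⁻¹ * (b * u * b⁻¹)) * u := by rw [e]
        _ = (b * u * b⁻¹) * u := by group
    · have := congrArg (fun t => t * u⁻¹ * (b * u * b⁻¹)) h1
      beta_reduce at this
      rw [← this]
      group
  have hyy : (u⁻¹ * (b * u * b⁻¹)) * (u⁻¹ * (b * u * b⁻¹)) =
      z * (u * u)⁻¹ * (b * (u * u) * b⁻¹) := by
    calc (u⁻¹ * (b * u * b⁻¹)) * (u⁻¹ * (b * u * b⁻¹))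
        = u⁻¹ * ((b * u * b⁻¹) * u⁻¹) * (b * u * b⁻¹) := by group
      _ = u⁻¹ * (z * u⁻¹ * (b * u * b⁻¹)) * (b * u * b⁻¹) := by rw [hcomm]
      _ = (u⁻¹ * z) * u⁻¹ * ((b * u * b⁻¹) * (b * u * b⁻¹)) := by group
      _ = z * (u * u)⁻¹ * (b * (u * u) * b⁻¹) := by rw [hzu, hcc]; group
  rw [hyy]
  rcases hSQ u hu with h2 | h2
  · rw [h2]; group
  · rw [h2, hbz, hzinv, hzz, one_mul]

end Cfsg.Agent.Helper12.S15
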