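import Mathlib
import Cfsg.Agent.Lib.S15.S15Defs
import Cfsg.Agent.Lib.S15.K5Defs
import Cfsg.Agent.Lib.FPQO.FPQOMINV

/-! S4415 design (helper12), piece K5Z.  See plans/S4415_plan.md. -/

set_option autoImplicit false

namespace Cfsg.Agent.Helper12.S15

/-- `X = R ⊔ ⟨b⟩` normalises `R` -/
private theorem k5z_xnormal_R {S : Type*} [Group S] (b : S) (R : Subgroup S)
    (hb3 : b ^ 3 = 1) (hbR : ∀ r ∈ R, b * r * b⁻¹ ∈ R) : XNormal b R R := by
  have hb3' : b * b * b = 1 := by rw [← hb3, pow_succ, pow_two]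
  have hbn : b ∈ Subgroup.normalizer (R : Set S) := by
    rw [Subgroup.mem_normalizer_iff]
    intro r
    constructor
    · exact hbR r
    · intro hr
      have h1 := hbR _ hr
      have h2 := hbR _ h1
      have : b * (b * (b * r * b⁻¹) * b⁻¹) * b⁻¹ = r := by
        have e : b * (b * (b * r * b⁻¹) * b⁻¹) * b⁻¹ = (b * b * b) * r * (b * b * b)⁻¹ := by group
        rw [e]
        rw [hb3']; group
      rw [← this]; exact h2
  have hle : R ⊔ Subgroup.zpowers b ≤ Subgroup.normalizer (R : Set S) := by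
    apply sup_le Subgroup.le_normalizer
    rw [Subgroup.zpowers_le]
    exact hbn
  intro x hx r hr
  exact (Subgroup.mem_normalizer_iff.mp (hle hx) r).mp hr

/-- a minimal normal subgroup of `X` inside `R` is elementary abelian (solvable), not of odd order
(HK2), hence scalar (HK4): so `-1 ∈ ρ(R)`.  (Minimal normal subgroups: Lib/FPQO/FPQOMINV.lean
`exists_min_normal_elem`, applied in the group `↥(R ⊔ zpowers b)` to `R.subgroupOf _`, then map back
with `Subgroup.map (subtype)`.) -/
theorem k5_exists_z {S : Type*} [Group S] [Finite S] {E : Type*} [AddCommGroup E]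
    [Module (ZMod 3) E] [Finite E] (ρ : Representation (ZMod 3) S E) (b : S) (R Q : Subgroup S) (h : RSetting ρ b R Q) (hK2 : HK2 b R) (hK4 : HK4 ρ b R) :
    ∃ z ∈ R, ρ z = -1 := by
  classical
  have hXR : XNormal b R R := k5z_xnormal_R b R h.b3 h.bR
  have hRX : R ≤ R ⊔ Subgroup.zpowers b := le_sup_left
  -- the normal subgroup `G` of `Γ = X`
  have hGn : (R.subgroupOf (R ⊔ Subgroup.zpowers b)).Normal := by
    constructor
    intro n hn g
    rw [Subgroup.mem_subgroupOf] at hn ⊢
    have := hXR (g : S) g.2 (n : S) hn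
    simpa using this
  have hGsol : Group.IsSolvable ↥(R.subgroupOf (R ⊔ Subgroup.zpowers b)) := by
    have := h.solv
    exact Group.isSolvable_of_isSolvable_injective
      (f := (Subgroup.subgroupOfEquivOfLe hRX).toMonoidHom) (Subgroup.subgroupOfEquivOfLe hRX).injective
  have hG0 : R.subgroupOf (R ⊔ Subgroup.zpowers b) ≠ ⊥ := by
    intro h0
    obtain ⟨q, hq, hqne⟩ := h.bQ'
    have hq1 : q ≠ 1 := by
      intro h1
      apply hqne
      rw [h1]; group
    have hmem : (⟨q, hRX (h.QR hq)⟩ : ↥(R ⊔ Subgroup.zpowers b)) ∈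
        R.subgroupOf (R ⊔ Subgroup.zpowers b) := by
      rw [Subgroup.mem_subgroupOf]; exact h.QR hq
    rw [h0, Subgroup.mem_bot] at hmem
    exact hq1 (congrArg Subtype.val hmem)
  obtain ⟨V, r, hr, hVn, hVG, hV0, hVab, hVexp, -⟩ :=
    @Cfsg.Agent.Helper24.FPQO.exists_min_normal_elem _ _ _ _ hGn hGsol hG0
  -- map back to `S`
  set A : Subgroup S := V.map (R ⊔ Subgroup.zpowers b).subtype with hA
  have hAR : A ≤ R := by
    rintro a ⟨v, hv, rfl⟩
    have := hVG hv
    rw [Subgroup.mem_subgroupOf] at this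
    exact this
  have hAn : XNormal b R A := by
    rintro x hx a ⟨v, hv, rfl⟩
    refine ⟨(⟨x, hx⟩ : ↥(R ⊔ Subgroup.zpowers b)) * v * (⟨x, hx⟩ : ↥(R ⊔ Subgroup.zpowers b))⁻¹,
      hVn.conj_mem v hv _, ?_⟩
    simp
  have hAab : ∀ a ∈ A, ∀ a' ∈ A, a * a' = a' * a := by
    rintro a ⟨v, hv, rfl⟩ a' ⟨v', hv', rfl⟩
    have := hVab v hv v' hv'
    have h2 := congrArg (R ⊔ Subgroup.zpowers b).subtype this
    simpa using h2
  have hAexp : ∀ a ∈ A, a ^ r = 1 := by
    rintro a ⟨v, hv, rfl⟩
    have := hVexp v hv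
    have h2 := congrArg (R ⊔ Subgroup.zpowers b).subtype this
    simpa using h2
  have hA0 : A ≠ ⊥ := by
    intro h0
    apply hV0
    rw [eq_bot_iff]
    intro v hv
    have : (R ⊔ Subgroup.zpowers b).subtype v ∈ A := ⟨v, hv, rfl⟩
    rw [h0, Subgroup.mem_bot] at this
    rw [Subgroup.mem_bot]
    exact Subtype.ext this
  by_cases hr2 : r = 2
  · -- scalar case
    subst hr2
    have hsc := hK4 A hAR hAn hAexp
    obtain ⟨a, haA, ha1⟩ : ∃ a ∈ A, a ≠ 1 := by
      by_contra hcon
      push Not at hcon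
      apply hA0
      rw [eq_bot_iff]
      intro a ha
      rw [Subgroup.mem_bot]; exact hcon a ha
    refine ⟨a, hAR haA, ?_⟩
    rcases hsc a haA with h1 | h1
    · exact absurd (h.faith a (hRX (hAR haA)) h1) ha1
    · exact h1
  · -- odd case: contradiction with HK2
    exfalso
    have hrf : Fact r.Prime := ⟨hr⟩
    have hAp : IsPGroup r ↥A := by
      intro a
      refine ⟨1, ?_⟩
      have := hAexp (a : S) a.2
      apply Subtype.ext
      simpa using this
    obtain ⟨n, hn⟩ := hAp.exists_card_eq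
    have hodd : Odd (Nat.card ↥A) := by
      rw [hn]
      exact Odd.pow (hr.odd_of_ne_two hr2)
    exact hA0 (hK2 A hAR hAn hAab hodd)

end Cfsg.Agent.Helper12.S15
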