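import Mathlib
import Cfsg.Agent.Lib.S15.S15Defs
import Cfsg.Agent.Lib.S15.K5Defs
import Cfsg.Agent.Lib.S15.K5SC
import Cfsg.Agent.Lib.S15.K5Z
import Cfsg.Agent.Lib.S15.K5N
import Cfsg.Agent.Lib.S15.K5C2P
import Cfsg.Agent.Lib.S15.K5ODD
import Cfsg.Agent.Lib.S15.K5SQP
import Cfsg.Agent.Lib.S15.K5NA
import Cfsg.Agent.Lib.S15.K5CEN
import Cfsg.Agent.Lib.S15.K5BNC
import Cfsg.Agent.Lib.S15.K5POL
import Cfsg.Agent.Lib.S15.K5Y
import Cfsg.Agent.Lib.S15.K5F4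

/-! S4415 design (helper12), piece K5MAIN.  See plans/S4415_plan.md. -/

set_option autoImplicit false

namespace Cfsg.Agent.Helper12.S15

/-- the case where all `X`-normal elementary abelian 2-subgroups of `R` are scalar -/
theorem k5_main {S : Type*} [Group S] [Finite S] {E : Type*} [AddCommGroup E]
    [Module (ZMod 3) E] [Finite E] (ρ : Representation (ZMod 3) S E) (b : S) (R Q : Subgroup S) (h : RSetting ρ b R Q)
    (hK2 : ∀ A : Subgroup S, A ≤ R → XNormal b R A → (∀ a ∈ A, ∀ a' ∈ A, a * a' = a' * a) →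
      Odd (Nat.card ↥A) → A = ⊥)
    (hK3 : ∀ a ∈ R, XNormal b R (Subgroup.zpowers a) → orderOf a ≠ 4)
    (hK4 : ∀ A : Subgroup S, A ≤ R → XNormal b R A → (∀ a ∈ A, a ^ 2 = 1) →
      ∀ a ∈ A, ρ a = 1 ∨ ρ a = -1) :
    Nat.card E ≤ 81 := by
  have hK2' : HK2 b R := hK2
  have hK3' : HK3 b R := hK3
  have hK4' : HK4 ρ b R := hK4
  obtain ⟨z, hz, hzn⟩ := k5_exists_z ρ b R Q h hK2' hK4'
  obtain ⟨N, d⟩ := k5_exists_N ρ b R Q h z hz hzn
  have hC2 := k5_class2 ρ b R Q h z N d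
  have h2 := k5_two_group ρ b R Q h z N d hK2' hC2
  have hSQ := k5_sq ρ b R Q h z N d hC2 h2
  have hNA := k5_nonab ρ b R Q h z N d hK3' hK4' hSQ
  have hCEN := k5_center ρ b R Q h z N d hNA
  have hBNC := k5_b_moves ρ b R Q h z N d hSQ hNA
  obtain ⟨u, hu, hne⟩ := k5_polar ρ b R Q h z N d hC2 hCEN hBNC
  have hy := k5_ysq ρ b R Q h z N d hC2 hSQ u hu hne
  apply k5_f4 ρ b R Q h.toSetting u (d.NR hu)
  rw [← map_mul, hy, d.zneg]

end Cfsg.Agent.Helper12.S15
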