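import Mathlib
import Cfsg.Agent.Lib.S15.S15Defs
import Cfsg.Agent.Lib.S15.K2MAIN
import Cfsg.Agent.Lib.S15.K3MAIN
import Cfsg.Agent.Lib.S15.K4MAIN
import Cfsg.Agent.Lib.S15.K5MAIN

/-! S4415 design (helper12), piece KMAIN.  See plans/S4415_plan.md. -/

set_option autoImplicit false

namespace Cfsg.Agent.Helper12.S15

theorem k_main {S : Type*} [Group S] [Finite S] {E : Type*} [AddCommGroup E]
    [Module (ZMod 3) E] [Finite E] (ρ : Representation (ZMod 3) S E) (b : S) (R Q : Subgroup S) (h : RSetting ρ b R Q) : Nat.card E ≤ 81 := by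
  by_cases hex : ∀ A : Subgroup S, A ≤ R → XNormal b R A → (∀ a ∈ A, a ^ 2 = 1) →
      ∀ a ∈ A, ρ a = 1 ∨ ρ a = -1
  · exact k5_main ρ b R Q h (fun A hAR hAn hAc hodd => k2_main ρ b R Q h A hAR hAn hAc hodd)
      (fun a haR hAn => k3_main ρ b R Q h a haR hAn) hex
  · push Not at hex
    obtain ⟨A, hAR, hAn, hA2, a, ha, hna⟩ := hex
    rcases k4_main ρ b R Q h A hAR hAn hA2 with h4 | h4
    · exact absurd (h4 a ha) (by tauto)
    · exact h4

end Cfsg.Agent.Helper12.S15
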