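import Mathlib
import Cfsg.Agent.Lib.S15.S15Defs
import Cfsg.Agent.Lib.S15.LMASCHKE

/-! S4415 design (helper12), piece LCOMTRIV.  See plans/S4415_plan.md. -/

set_option autoImplicit false

namespace Cfsg.Agent.Helper12.S15

/-- `[E,T,T] = 0` forces `T` to act trivially (coprime action). -/
theorem triv_of_triv_on_comS {S : Type*} [Group S] [Finite S] {E : Type*} [AddCommGroup E]
    [Module (ZMod 3) E] [Finite E] (ρ : Representation (ZMod 3) S E) (T : Subgroup S) (hT : (Nat.card ↥T).Coprime 3)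
    (h : ∀ t ∈ T, ∀ v ∈ comS ρ T, ρ t v = v) : ∀ t ∈ T, ρ t = 1 := by
  intro t ht
  have hm := (maschke ρ T hT).2
  apply LinearMap.ext
  intro v
  have hv : v ∈ fixS ρ T ⊔ comS ρ T := by rw [hm]; exact Submodule.mem_top
  obtain ⟨f, hf, c, hc, rfl⟩ := Submodule.mem_sup.mp hv
  rw [map_add, h t ht c hc]
  have hf' : ρ t f = f := hf t ht
  rw [hf']
  rfl

end Cfsg.Agent.Helper12.S15
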