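import Mathlib
import Cfsg.Agent.Lib.S15.S15Defs
import Cfsg.Agent.Lib.S15.LINV
import Cfsg.Agent.Lib.S15.LMASCHKE
import Cfsg.Agent.Lib.S15.LCORA

/-! S4415 design (helper12), piece MFAITH.  See plans/S4415_plan.md. -/

set_option autoImplicit false

namespace Cfsg.Agent.Helper12.S15

/-- the pointwise stabiliser of a submodule -/
def s15_mfaith_fixW {S : Type*} [Group S] {E : Type*} [AddCommGroup E] [Module (ZMod 3) E]
    (ρ : Representation (ZMod 3) S E) (W : Submodule (ZMod 3) E) : Subgroup S where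
  carrier := {x | ∀ v ∈ W, ρ x v = v}
  mul_mem' := by
    intro x y hx hy v hv
    rw [map_mul, Module.End.mul_apply, hy v hv, hx v hv]
  one_mem' := by
    intro v _
    rw [map_one]; rfl
  inv_mem' := by
    intro x hx v hv
    have h1 : ρ x⁻¹ (ρ x v) = v := by
      have : ρ x⁻¹ * ρ x = 1 := by rw [← map_mul, inv_mul_cancel, map_one]
      calc ρ x⁻¹ (ρ x v) = (ρ x⁻¹ * ρ x) v := rfl
        _ = v := by rw [this]; rfl
    rw [hx v hv] at h1
    exact h1

/-- the setwise stabiliser of a submodule -/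
def s15_mfaith_stabW {S : Type*} [Group S] {E : Type*} [AddCommGroup E] [Module (ZMod 3) E]
    (ρ : Representation (ZMod 3) S E) (W : Submodule (ZMod 3) E) : Subgroup S where
  carrier := {x | (∀ v ∈ W, ρ x v ∈ W) ∧ (∀ v ∈ W, ρ x⁻¹ v ∈ W)}
  mul_mem' := by
    rintro x y ⟨hx, hx'⟩ ⟨hy, hy'⟩
    refine ⟨fun v hv => ?_, fun v hv => ?_⟩
    · rw [map_mul, Module.End.mul_apply]
      exact hx _ (hy v hv)
    · rw [mul_inv_rev, map_mul, Module.End.mul_apply]
      exact hy' _ (hx' v hv)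
  one_mem' := by
    refine ⟨fun v hv => ?_, fun v hv => ?_⟩
    · rw [map_one]; exact hv
    · rw [inv_one, map_one]; exact hv
  inv_mem' := by
    rintro x ⟨hx, hx'⟩
    refine ⟨hx', fun v hv => ?_⟩
    rw [inv_inv]
    exact hx v hv

/-- `X = R ⊔ ⟨b⟩` acts trivially on `C_E(R)`, stabilises `[E,R]`, and faithfully on `[E,R]` -/
theorem m_faith {S : Type*} [Group S] [Finite S] {E : Type*} [AddCommGroup E]
    [Module (ZMod 3) E] [Finite E] (ρ : Representation (ZMod 3) S E) (b : S) (R Q : Subgroup S) (h : Setting ρ b R Q) :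
    (∀ x ∈ R ⊔ Subgroup.zpowers b, ∀ v ∈ fixS ρ R, ρ x v = v) ∧
    (∀ x ∈ R ⊔ Subgroup.zpowers b, ∀ v ∈ comS ρ R, ρ x v ∈ comS ρ R) ∧
    (∀ x ∈ R ⊔ Subgroup.zpowers b, (∀ v ∈ comS ρ R, ρ x v = v) → x = 1) := by
  have hb := b_fix_fixS ρ b R Q h
  -- (1)
  have h1 : R ⊔ Subgroup.zpowers b ≤ s15_mfaith_fixW ρ (fixS ρ R) := by
    refine sup_le ?_ ?_
    · intro r hr v hv
      exact hv r hr
    · rw [Subgroup.zpowers_le]
      intro v hv
      exact hb.1 v hv
  -- (2)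
  have hbinv : b⁻¹ = b * b := by
    have h3 : b * b * b = 1 := by
      have := h.b3
      rw [pow_succ, pow_two] at this
      exact this
    exact inv_eq_of_mul_eq_one_right (by rw [← mul_assoc]; exact h3)
  have hbc : ∀ v ∈ comS ρ R, ρ b v ∈ comS ρ R := comS_inv ρ R b h.bR
  have h2 : R ⊔ Subgroup.zpowers b ≤ s15_mfaith_stabW ρ (comS ρ R) := by
    refine sup_le ?_ ?_
    · intro r hr
      refine ⟨comS_inv ρ R r (fun t ht => R.mul_mem (R.mul_mem hr ht) (R.inv_mem hr)),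
        comS_inv ρ R r⁻¹ (fun t ht => ?_)⟩
      rw [inv_inv]
      exact R.mul_mem (R.mul_mem (R.inv_mem hr) ht) hr
    · rw [Subgroup.zpowers_le]
      refine ⟨hbc, fun v hv => ?_⟩
      rw [hbinv, map_mul, Module.End.mul_apply]
      exact hbc _ (hbc v hv)
  refine ⟨fun x hx v hv => h1 hx v hv, fun x hx v hv => (h2 hx).1 v hv, ?_⟩
  intro x hx hxc
  apply h.faith x hx
  obtain ⟨-, hm⟩ := maschke ρ R h.cop
  apply LinearMap.ext
  intro v
  have hv : v ∈ fixS ρ R ⊔ comS ρ R := by rw [hm]; exact Submodule.mem_top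
  obtain ⟨a, ha, c, hc, rfl⟩ := Submodule.mem_sup.mp hv
  rw [map_add, h1 hx a ha, hxc c hc]
  rfl

end Cfsg.Agent.Helper12.S15
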