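import Mathlib
import Cfsg.Agent.Lib.S15.S15Defs
import Cfsg.Agent.Lib.S15.LFRAME
import Cfsg.Agent.Lib.S15.LFTAB
import Cfsg.Agent.Lib.S15.LFDEC

/-! S4415 design (helper12), piece MQDICH.  See plans/S4415_plan.md. -/

set_option autoImplicit false

namespace Cfsg.Agent.Helper12.S15

/-- a `Q`- and `b`-invariant submodule is centralised by `Q` or contains `[E,Q]` -/
theorem m_dich {S : Type*} [Group S] [Finite S] {E : Type*} [AddCommGroup E]
    [Module (ZMod 3) E] [Finite E] (ρ : Representation (ZMod 3) S E) (b : S) (R Q : Subgroup S) (h : Setting ρ b R Q) (N : Submodule (ZMod 3) E)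
    (hQ : ∀ q ∈ Q, ∀ v ∈ N, ρ q v ∈ N) (hb : ∀ v ∈ N, ρ b v ∈ N) :
    (∀ q ∈ Q, ∀ v ∈ N, ρ q v = v) ∨ comS ρ Q ≤ N := by
  obtain ⟨q₁, q₂, q₃, e₁, e₂, e₃, f⟩ := exists_frame ρ b R Q h
  obtain ⟨t31, t12, t22, t32, t13, t23, t33, -, -⟩ := frame_table ρ b R Q h q₁ q₂ q₃ e₁ e₂ e₃ f
  by_cases hall : ∀ q ∈ Q, ∀ v ∈ N, ρ q v = v
  · exact Or.inl hall
  right
  push Not at hall
  obtain ⟨q, hq, v, hv, hne⟩ := hall
  have hwN : ρ q v - v ∈ N := N.sub_mem (hQ q hq v hv) hv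
  have hwC : ρ q v - v ∈ comS ρ Q := sub_mem_comS ρ Q hq v
  have hw0 : ρ q v - v ≠ 0 := sub_ne_zero.2 hne
  obtain ⟨x, y, z, hxyz⟩ := (comS_Q_eq ρ b R Q h q₁ q₂ q₃ e₁ e₂ e₃ f _).1 hwC
  set w : E := ρ q v - v with hw
  -- the three projections
  have h1 : w + ρ q₁ w = (2 * x) • e₁ := by
    rw [hxyz]
    simp only [map_add, map_smul, f.q₁e₁, t12, t13, smul_neg]
    rw [mul_smul, two_smul]
    abel
  have h2 : w + ρ q₂ w = (2 * y) • e₂ := by
    rw [hxyz]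
    simp only [map_add, map_smul, f.q₂e₁, t22, t23, smul_neg]
    rw [mul_smul, two_smul]
    abel
  have h3 : w + ρ q₃ w = (2 * z) • e₃ := by
    rw [hxyz]
    simp only [map_add, map_smul, t31, t32, t33, smul_neg]
    rw [mul_smul, two_smul]
    abel
  have hm1 : (2 * x) • e₁ ∈ N := by rw [← h1]; exact N.add_mem hwN (hQ q₁ f.q₁Q w hwN)
  have hm2 : (2 * y) • e₂ ∈ N := by rw [← h2]; exact N.add_mem hwN (hQ q₂ f.q₂Q w hwN)
  have hm3 : (2 * z) • e₃ ∈ N := by rw [← h3]; exact N.add_mem hwN (hQ q₃ f.q₃Q w hwN)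
  have hunit : ∀ c : ZMod 3, c ≠ 0 → ∀ e : E, (2 * c) • e ∈ N → e ∈ N := by
    intro c hc e he
    have h4 : (2 * c)⁻¹ * (2 * c) = 1 := by
      have hdec : ∀ c' : ZMod 3, c' ≠ 0 → (2 * c' : ZMod 3) ≠ 0 := by decide
      have : (2 * c : ZMod 3) ≠ 0 := hdec c hc
      exact inv_mul_cancel₀ this
    have := N.smul_mem (2 * c)⁻¹ he
    rwa [smul_smul, h4, one_smul] at this
  -- some `e_i ∈ N`, hence all
  have hsome : e₁ ∈ N ∨ e₂ ∈ N ∨ e₃ ∈ N := by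
    by_cases hx : x = 0
    · by_cases hy : y = 0
      · by_cases hz : z = 0
        · exfalso
          apply hw0
          rw [hxyz, hx, hy, hz]
          simp
        · exact Or.inr (Or.inr (hunit z hz e₃ hm3))
      · exact Or.inr (Or.inl (hunit y hy e₂ hm2))
    · exact Or.inl (hunit x hx e₁ hm1)
  have hallE : e₁ ∈ N ∧ e₂ ∈ N ∧ e₃ ∈ N := by
    rcases hsome with h1' | h2' | h3'
    · have he2 : e₂ ∈ N := by rw [← f.be₁]; exact hb e₁ h1'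
      have he3 : e₃ ∈ N := by rw [← f.be₂]; exact hb e₂ he2
      exact ⟨h1', he2, he3⟩
    · have he3 : e₃ ∈ N := by rw [← f.be₂]; exact hb e₂ h2'
      have he1 : e₁ ∈ N := by rw [← f.be₃]; exact hb e₃ he3
      exact ⟨he1, h2', he3⟩
    · have he1 : e₁ ∈ N := by rw [← f.be₃]; exact hb e₃ h3'
      have he2 : e₂ ∈ N := by rw [← f.be₁]; exact hb e₁ he1
      exact ⟨he1, he2, h3'⟩
  intro u hu
  obtain ⟨x', y', z', rfl⟩ := (comS_Q_eq ρ b R Q h q₁ q₂ q₃ e₁ e₂ e₃ f u).1 hu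
  exact N.add_mem (N.add_mem (N.smul_mem _ hallE.1) (N.smul_mem _ hallE.2.1))
    (N.smul_mem _ hallE.2.2)

end Cfsg.Agent.Helper12.S15
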