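import Mathlib
import Cfsg.Agent.Lib.S15.S15Defs
import Cfsg.Agent.Lib.S15.LN3

/-! S4415 design (helper12), piece MTRIVQ.  See plans/S4415_plan.md. -/

set_option autoImplicit false

namespace Cfsg.Agent.Helper12.S15

theorem mtrivq_mul_apply {S : Type*} [Group S] {E : Type*} [AddCommGroup E] [Module (ZMod 3) E]
    (ρ : Representation (ZMod 3) S E) (g g' : S) (v : E) : ρ (g * g') v = ρ g (ρ g' v) := by
  rw [map_mul]
  rfl

theorem mtrivq_inv_apply {S : Type*} [Group S] {E : Type*} [AddCommGroup E] [Module (ZMod 3) E]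
    (ρ : Representation (ZMod 3) S E) (g : S) (v : E) : ρ g⁻¹ (ρ g v) = v := by
  rw [← mtrivq_mul_apply, inv_mul_cancel, map_one]
  rfl

theorem mtrivq_apply_inv {S : Type*} [Group S] {E : Type*} [AddCommGroup E] [Module (ZMod 3) E]
    (ρ : Representation (ZMod 3) S E) (g : S) (v : E) : ρ g (ρ g⁻¹ v) = v := by
  rw [← mtrivq_mul_apply, mul_inv_cancel, map_one]
  rfl

/-- the elements acting trivially on `E/N` -/
def mtrivqQuot {S : Type*} [Group S] {E : Type*} [AddCommGroup E] [Module (ZMod 3) E]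
    (ρ : Representation (ZMod 3) S E) (N : Submodule (ZMod 3) E) : Subgroup S where
  carrier := {g | ∀ v, ρ g v - v ∈ N}
  mul_mem' := by
    intro g g' hg hg' v
    have e : ρ (g * g') v - v =
        (ρ g (ρ g' v - v) - (ρ g' v - v)) + (ρ g' v - v) + (ρ g v - v) := by
      rw [mtrivq_mul_apply, map_sub]
      abel
    rw [e]
    exact N.add_mem (N.add_mem (hg _) (hg' v)) (hg v)
  one_mem' := by
    intro v
    rw [map_one]
    simp
  inv_mem' := by
    intro g hg v
    have h1 := hg (ρ g⁻¹ v)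
    rw [mtrivq_apply_inv] at h1
    have h2 := N.neg_mem h1
    rwa [neg_sub] at h2

/-- the elements acting trivially on `N` -/
def mtrivqFix {S : Type*} [Group S] {E : Type*} [AddCommGroup E] [Module (ZMod 3) E]
    (ρ : Representation (ZMod 3) S E) (N : Submodule (ZMod 3) E) : Subgroup S where
  carrier := {g | ∀ v ∈ N, ρ g v = v}
  mul_mem' := by
    intro g g' hg hg' v hv
    rw [mtrivq_mul_apply, hg' v hv, hg v hv]
  one_mem' := by
    intro v _
    rw [map_one]
    rfl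
  inv_mem' := by
    intro g hg v hv
    have h1 := mtrivq_inv_apply ρ g v
    rwa [hg v hv] at h1

/-- if `b` acts trivially on `E/N` (`N` an `R`-invariant submodule) then so does `R` -/
theorem m_triv_quot {S : Type*} [Group S] [Finite S] {E : Type*} [AddCommGroup E]
    [Module (ZMod 3) E] [Finite E] (ρ : Representation (ZMod 3) S E) (b : S) (R Q : Subgroup S) (h : Setting ρ b R Q) (N : Submodule (ZMod 3) E)
    (hR : ∀ r ∈ R, ∀ v ∈ N, ρ r v ∈ N) (hb : LinearMap.range (ρ b - 1) ≤ N) :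
    comS ρ R ≤ N := by
  have hbN : ∀ w : E, ρ b w - w ∈ N := by
    intro w
    have h1 : (ρ b - 1) w ∈ N := hb (LinearMap.mem_range_self _ w)
    simpa using h1
  have hM : R ≤ mtrivqQuot ρ N := by
    apply h.gen
    intro r hr v
    have hv : ρ b (ρ b⁻¹ v) = v := mtrivq_apply_inv ρ b v
    have e : ρ (r⁻¹ * (b * r * b⁻¹)) v - v =
        ρ r⁻¹ ((ρ b (ρ r (ρ b⁻¹ v)) - ρ r (ρ b⁻¹ v)) - ρ r (ρ b (ρ b⁻¹ v) - ρ b⁻¹ v)) := by
      have h1 : ρ r⁻¹ (ρ r (ρ b (ρ b⁻¹ v))) = ρ b (ρ b⁻¹ v) := mtrivq_inv_apply ρ r _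
      rw [mtrivq_mul_apply, mtrivq_mul_apply, mtrivq_mul_apply, map_sub, map_sub, map_sub, map_sub,
        h1, hv]
      abel
    rw [e]
    apply hR r⁻¹ (R.inv_mem hr)
    exact N.sub_mem (hbN _) (hR r hr _ (hbN _))
  unfold comS
  rw [Submodule.span_le]
  rintro w ⟨t, ht, v, rfl⟩
  exact hM ht v

/-- if `b` acts trivially on an `R`-invariant submodule `N` then so does `R` -/
theorem m_triv_sub {S : Type*} [Group S] [Finite S] {E : Type*} [AddCommGroup E]
    [Module (ZMod 3) E] [Finite E] (ρ : Representation (ZMod 3) S E) (b : S) (R Q : Subgroup S) (h : Setting ρ b R Q) (N : Submodule (ZMod 3) E)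
    (hR : ∀ r ∈ R, ∀ v ∈ N, ρ r v ∈ N) (hb : ∀ v ∈ N, ρ b v = v) :
    N ≤ fixS ρ R := by
  have hM : R ≤ mtrivqFix ρ N := by
    apply h.gen
    intro r hr v hv
    have h1 : ρ b⁻¹ v = v := by
      have h2 := mtrivq_inv_apply ρ b v
      rwa [hb v hv] at h2
    rw [mtrivq_mul_apply, mtrivq_mul_apply, mtrivq_mul_apply, h1, hb _ (hR r hr v hv),
      mtrivq_inv_apply]
  intro v hv t ht
  exact hM ht v hv

end Cfsg.Agent.Helper12.S15
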