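import Mathlib
import Cfsg.Agent.Lib.S15.S15Defs
import Cfsg.Agent.Lib.S15.LINV
import Cfsg.Agent.Lib.S15.LMASCHKE
import Cfsg.Agent.Lib.S15.LCORA
import Cfsg.Agent.Lib.S15.MQDICH
import Cfsg.Agent.Lib.S15.MTRIVQ

/-! S4415 design (helper12), piece MIRR (proved by helper27).  See plans/S4415_plan.md. -/

set_option autoImplicit false

namespace Cfsg.Agent.Helper12.S15

/-- `[E,R]` is irreducible under `X = R ⊔ ⟨b⟩` -/
theorem m_irr {S : Type*} [Group S] [Finite S] {E : Type*} [AddCommGroup E]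
    [Module (ZMod 3) E] [Finite E] (ρ : Representation (ZMod 3) S E) (b : S) (R Q : Subgroup S) (h : Setting ρ b R Q) (N : Submodule (ZMod 3) E)
    (hN : N ≤ comS ρ R) (hX : ∀ x ∈ R ⊔ Subgroup.zpowers b, ∀ v ∈ N, ρ x v ∈ N) :
    N = ⊥ ∨ N = comS ρ R := by
  have hRX : R ≤ R ⊔ Subgroup.zpowers b := le_sup_left
  have hbX : b ∈ R ⊔ Subgroup.zpowers b :=
    (le_sup_right : Subgroup.zpowers b ≤ R ⊔ Subgroup.zpowers b) (Subgroup.mem_zpowers b)
  have hR : ∀ r ∈ R, ∀ v ∈ N, ρ r v ∈ N := fun r hr v hv => hX r (hRX hr) v hv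
  have hQ : ∀ q ∈ Q, ∀ v ∈ N, ρ q v ∈ N := fun q hq v hv => hR q (h.QR hq) v hv
  have hb : ∀ v ∈ N, ρ b v ∈ N := fun v hv => hX b hbX v hv
  rcases m_dich ρ b R Q h N hQ hb with h1 | h2
  · left
    have hNQ : N ≤ fixS ρ Q := fun v hv => (mem_fixS ρ Q v).mpr (fun q hq => h1 q hq v hv)
    have hbN : ∀ v ∈ N, ρ b v = v := fun v hv => (b_fix_fixQ ρ b R Q h).1 v (hNQ hv)
    have hNR : N ≤ fixS ρ R := m_triv_sub ρ b R Q h N hR hbN
    have hm := (maschke ρ R h.cop).1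
    rw [eq_bot_iff, ← hm]
    exact le_inf hNR hN
  · right
    have hbr : LinearMap.range (ρ b - 1) ≤ N := le_trans (b_fix_fixQ ρ b R Q h).2 h2
    exact le_antisymm hN (m_triv_quot ρ b R Q h N hR hbr)

end Cfsg.Agent.Helper12.S15
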