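import Mathlib
import Cfsg.Agent.Lib.S15.S15Defs
import Cfsg.Agent.Lib.S15.LMASCHKE
import Cfsg.Agent.Lib.S15.MFAITH
import Cfsg.Agent.Lib.S15.MIRR

/-! S4415 block M: the module half.  plans/S4415_plan.md §M -/

set_option autoImplicit false

namespace Cfsg.Agent.Helper12.S15

theorem m_main {S : Type*} [Group S] [Finite S] {E : Type*} [AddCommGroup E]
    [Module (ZMod 3) E] [Finite E] (ρ : Representation (ZMod 3) S E) (b : S) (R Q : Subgroup S)
    (h : Setting ρ b R Q) : MConcl ρ R (Subgroup.zpowers b) := by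
  obtain ⟨hinf, hsup⟩ := maschke ρ R h.cop
  obtain ⟨hf1, hf2, hf3⟩ := m_faith ρ b R Q h
  refine ⟨comS ρ R, fixS ρ R, ?_, ?_, ?_, hf2, hf3, ?_⟩
  · rw [inf_comm]; exact hinf
  · rw [sup_comm]; exact hsup
  · intro r hr v hv
    exact hv r hr
  · intro N hN hX
    exact m_irr ρ b R Q h N hN hX

end Cfsg.Agent.Helper12.S15
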