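import Mathlib
import Cfsg.Agent.Lib.S15.S15Defs

/-! S4415 design (helper12), piece REDES.  See plans/S4415_plan.md. -/

set_option autoImplicit false

namespace Cfsg.Agent.Helper12.S15

theorem redes_frattini_map {G H : Type*} [Group G] [Group H] (e : G ≃* H) :
    (frattini G).map e.toMonoidHom = frattini H := by
  apply le_antisymm
  · rw [Subgroup.map_le_iff_le_comap]
    exact frattini_le_comap_frattini_of_surjective (φ := e.toMonoidHom) e.surjective
  · have h := frattini_le_comap_frattini_of_surjective (φ := e.symm.toMonoidHom) e.symm.surjective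
    intro x hx
    have hx' := h hx
    rw [Subgroup.mem_comap] at hx'
    exact ⟨e.symm x, hx', by simp⟩

theorem redes_center_map {G H : Type*} [Group G] [Group H] (e : G ≃* H) :
    (Subgroup.center G).map e.toMonoidHom = Subgroup.center H := by
  ext x
  constructor
  · rintro ⟨y, hy, rfl⟩
    rw [Subgroup.mem_center_iff]
    intro g
    obtain ⟨g', rfl⟩ := e.surjective g
    have := Subgroup.mem_center_iff.mp hy g'
    show e g' * e y = e y * e g'
    rw [← map_mul, ← map_mul, this]
  · intro hx
    refine ⟨e.symm x, ?_, by simp⟩
    show e.symm x ∈ Subgroup.center G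
    rw [Subgroup.mem_center_iff]
    intro g
    have := Subgroup.mem_center_iff.mp hx (e g)
    apply e.injective
    rw [map_mul, map_mul]
    simpa using this

theorem redes_commutator_map {G H : Type*} [Group G] [Group H] (e : G ≃* H) :
    (commutator G).map e.toMonoidHom = commutator H := by
  rw [commutator_def, commutator_def, Subgroup.map_commutator,
    Subgroup.map_top_of_surjective _ e.surjective]

/-- `IsExtraspecial` is invariant under isomorphism -/
theorem extraspecial_of_equiv {G H : Type*} [Group G] [Group H] (e : G ≃* H)
    (h : Cfsg.IsExtraspecial 2 G) : Cfsg.IsExtraspecial 2 H := by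
  obtain ⟨⟨hp, hf, hc⟩, hcard⟩ := h
  refine ⟨⟨hp.of_equiv e, ?_, ?_⟩, ?_⟩
  · rw [← redes_frattini_map e, ← redes_center_map e, hf]
  · rw [← redes_commutator_map e, ← redes_center_map e, hc]
  · rw [← hcard, ← redes_center_map e]
    exact (Nat.card_congr ((Subgroup.center G).equivMapOfInjective e.toMonoidHom
      e.injective).toEquiv).symm

end Cfsg.Agent.Helper12.S15
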