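import Mathlib
import Cfsg.Agent.Lib.S15.S15Defs
import Cfsg.Agent.Lib.S15.REDES

/-! S4415 block RED: transfer of the group-theoretic conclusion from `R.subgroupOf X` to `R`. -/

set_option autoImplicit false

namespace Cfsg.Agent.Helper12.S15

theorem red_back {S : Type*} [Group S] [Finite S] (R X : Subgroup S) (hRX : R ≤ X)
    (h : RConcl (R.subgroupOf X)) : RConcl R := by
  have hcard : Nat.card ↥(R.subgroupOf X) = Nat.card ↥R :=
    Nat.card_congr (Subgroup.subgroupOfEquivOfLe hRX).toEquiv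
  rcases h with ⟨⟨hcomm, hsq⟩, h4⟩ | ⟨hes, h32, A', hA'R, ⟨hA'comm, hA'sq⟩, hA'8⟩
  · left
    refine ⟨⟨⟨⟨fun a b => ?_⟩⟩, fun a ha => ?_⟩, by rw [← hcard]; exact h4⟩
    · have ha' : (⟨(a : S), hRX a.2⟩ : ↥X) ∈ R.subgroupOf X := Subgroup.mem_subgroupOf.mpr a.2
      have hb' : (⟨(b : S), hRX b.2⟩ : ↥X) ∈ R.subgroupOf X := Subgroup.mem_subgroupOf.mpr b.2
      have h1 := hcomm.is_comm.comm (⟨_, ha'⟩ : ↥(R.subgroupOf X)) ⟨_, hb'⟩
      have h2 := congrArg (fun z : ↥(R.subgroupOf X) => ((z : ↥X) : S)) h1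
      apply Subtype.ext
      exact h2
    · have ha' : (⟨a, hRX ha⟩ : ↥X) ∈ R.subgroupOf X := Subgroup.mem_subgroupOf.mpr ha
      have h1 := hsq _ ha'
      have h2 := congrArg (fun z : ↥X => (z : S)) h1
      exact h2
  · right
    refine ⟨extraspecial_of_equiv (Subgroup.subgroupOfEquivOfLe hRX) hes, by rw [← hcard]; exact h32,
      A'.map X.subtype, ?_, ⟨⟨⟨fun a b => ?_⟩⟩, ?_⟩, ?_⟩
    · rintro _ ⟨a', ha', rfl⟩
      exact Subgroup.mem_subgroupOf.mp (hA'R ha')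
    · obtain ⟨a, ha⟩ := a
      obtain ⟨b, hb⟩ := b
      obtain ⟨a', ha', rfl⟩ := ha
      obtain ⟨b', hb', rfl⟩ := hb
      have h1 := hA'comm.is_comm.comm (⟨a', ha'⟩ : ↥A') ⟨b', hb'⟩
      have h2 := congrArg (fun z : ↥A' => ((z : ↥X) : S)) h1
      apply Subtype.ext
      exact h2
    · rintro _ ⟨a', ha', rfl⟩
      have h1 := hA'sq a' ha'
      have h2 := congrArg (fun z : ↥X => (z : S)) h1
      exact h2
    · rw [Subgroup.card_map_of_injective X.subtype_injective]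
      exact hA'8

end Cfsg.Agent.Helper12.S15
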