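import Mathlib
import Cfsg.Agent.Lib.S15.S15Defs
import Cfsg.Agent.Lib.S15.MIRR

/-! S4415 design (helper12), piece REDIRR.  See plans/S4415_plan.md. -/

set_option autoImplicit false

namespace Cfsg.Agent.Helper12.S15

/-- inside `X = R ⊔ ⟨b⟩`, the pulled back `R` and `⟨b⟩` generate everything -/
private theorem redirr_sup_top {S : Type*} [Group S] (b : S) (R : Subgroup S) :
    (R.subgroupOf (R ⊔ Subgroup.zpowers b)) ⊔ Subgroup.zpowers
        (⟨b, Subgroup.mem_sup_right (Subgroup.mem_zpowers b)⟩ : ↥(R ⊔ Subgroup.zpowers b)) = ⊤ := by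
  apply Subgroup.map_injective (R ⊔ Subgroup.zpowers b).subtype_injective
  rw [Subgroup.map_sup, Subgroup.subgroupOf_map_subtype, MonoidHom.map_zpowers,
    ← MonoidHom.range_eq_map, Subgroup.range_subtype]
  simp only [Subgroup.coe_subtype]
  rw [inf_eq_left.mpr le_sup_left]

/-- the restricted module is irreducible -/
theorem red_irr {S : Type*} [Group S] [Finite S] {E : Type*} [AddCommGroup E]
    [Module (ZMod 3) E] [Finite E] (ρ : Representation (ZMod 3) S E) (b : S) (R Q : Subgroup S) (h : Setting ρ b R Q)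
    (hV : ∀ x ∈ R ⊔ Subgroup.zpowers b, ∀ v ∈ comS ρ R, ρ x v ∈ comS ρ R)
    (N : Submodule (ZMod 3) ↥(comS ρ R))
    (hN : ∀ x ∈ (R.subgroupOf (R ⊔ Subgroup.zpowers b)) ⊔ Subgroup.zpowers
        (⟨b, Subgroup.mem_sup_right (Subgroup.mem_zpowers b)⟩ : ↥(R ⊔ Subgroup.zpowers b)),
      ∀ v ∈ N, resRep ρ (R ⊔ Subgroup.zpowers b) (comS ρ R) hV x v ∈ N) :
    N = ⊥ ∨ N = ⊤ := by
  have hle : N.map (comS ρ R).subtype ≤ comS ρ R := Submodule.map_subtype_le _ _
  have hinv : ∀ x ∈ R ⊔ Subgroup.zpowers b, ∀ v ∈ N.map (comS ρ R).subtype,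
      ρ x v ∈ N.map (comS ρ R).subtype := by
    intro x hx v hv
    obtain ⟨w, hw, rfl⟩ := hv
    have hxm : (⟨x, hx⟩ : ↥(R ⊔ Subgroup.zpowers b)) ∈
        (R.subgroupOf (R ⊔ Subgroup.zpowers b)) ⊔ Subgroup.zpowers
        (⟨b, Subgroup.mem_sup_right (Subgroup.mem_zpowers b)⟩ : ↥(R ⊔ Subgroup.zpowers b)) := by
      rw [redirr_sup_top]; exact Subgroup.mem_top _
    exact ⟨resRep ρ (R ⊔ Subgroup.zpowers b) (comS ρ R) hV ⟨x, hx⟩ w, hN _ hxm w hw, rfl⟩
  rcases m_irr ρ b R Q h (N.map (comS ρ R).subtype) hle hinv with h0 | h1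
  · left
    rw [eq_bot_iff]
    intro w hw
    have hmem : ((comS ρ R).subtype w) ∈ N.map (comS ρ R).subtype := ⟨w, hw, rfl⟩
    rw [h0] at hmem
    have h00 : (w : E) = 0 := by simpa using hmem
    rw [Submodule.mem_bot]
    exact Subtype.ext h00
  · right
    rw [eq_top_iff]
    intro w _
    have hmem : (w : E) ∈ N.map (comS ρ R).subtype := by
      rw [h1]; exact w.2
    obtain ⟨w', hw', hww⟩ := hmem
    have : w' = w := Subtype.ext hww
    rw [← this]; exact hw'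

end Cfsg.Agent.Helper12.S15
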