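import Mathlib
import Cfsg.Agent.Lib.S15.S15Defs
import Cfsg.Agent.Lib.S15.MFAITH
import Cfsg.Agent.Lib.S15.LCORA
import Cfsg.Agent.Lib.S15.LMASCHKE

/-! S4415 design (helper12), piece REDSET.  See plans/S4415_plan.md. -/

set_option autoImplicit false

namespace Cfsg.Agent.Helper12.S15

/-- coercion of `(ρ' b' - 1) v` for the restricted representation -/
private theorem redset_coe_sub {S : Type*} [Group S] {E : Type*} [AddCommGroup E]
    [Module (ZMod 3) E] (ρ : Representation (ZMod 3) S E) (X : Subgroup S)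
    (V : Submodule (ZMod 3) E) (hV : ∀ x ∈ X, ∀ v ∈ V, ρ x v ∈ V) (x : ↥X) (v : ↥V) :
    (((resRep ρ X V hV x - 1) v : ↥V) : E) = (ρ (x : S) - 1) (v : E) := by
  rw [LinearMap.sub_apply, LinearMap.sub_apply]
  rfl

/-- decomposition `e = u + w` with `u ∈ C_E(R)`, `w ∈ [E,R]` -/
private theorem redset_decomp {S : Type*} [Group S] [Finite S] {E : Type*} [AddCommGroup E]
    [Module (ZMod 3) E] [Finite E] (ρ : Representation (ZMod 3) S E) (b : S) (R Q : Subgroup S)
    (h : Setting ρ b R Q) (e : E) :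
    ∃ u ∈ fixS ρ R, ∃ w ∈ comS ρ R, e = u + w := by
  have hm := (maschke ρ R h.cop).2
  have he : e ∈ fixS ρ R ⊔ comS ρ R := by
    rw [hm]; exact Submodule.mem_top
  obtain ⟨u, hu, w, hw, huw⟩ := Submodule.mem_sup.mp he
  exact ⟨u, hu, w, hw, huw.symm⟩

/-- `(ρ b - 1) e = (ρ b - 1) w` for the `[E,R]`-component `w` of `e` -/
private theorem redset_N_eq {S : Type*} [Group S] [Finite S] {E : Type*} [AddCommGroup E]
    [Module (ZMod 3) E] [Finite E] (ρ : Representation (ZMod 3) S E) (b : S) (R Q : Subgroup S)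
    (h : Setting ρ b R Q) (e : E) :
    ∃ w ∈ comS ρ R, (ρ b - 1) e = (ρ b - 1) w := by
  obtain ⟨u, hu, w, hw, huw⟩ := redset_decomp ρ b R Q h e
  refine ⟨w, hw, ?_⟩
  have hbu : ρ b u = u := (b_fix_fixS ρ b R Q h).1 u hu
  rw [huw, map_add]
  have : (ρ b - 1) u = 0 := by
    rw [LinearMap.sub_apply, hbu]
    simp
  rw [this, zero_add]

/-- the restricted data satisfy `Setting` -/
theorem red_setting {S : Type*} [Group S] [Finite S] {E : Type*} [AddCommGroup E]
    [Module (ZMod 3) E] [Finite E] (ρ : Representation (ZMod 3) S E) (b : S) (R Q : Subgroup S) (h : Setting ρ b R Q)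
    (hV : ∀ x ∈ R ⊔ Subgroup.zpowers b, ∀ v ∈ comS ρ R, ρ x v ∈ comS ρ R) :
    Setting (resRep ρ (R ⊔ Subgroup.zpowers b) (comS ρ R) hV)
      (⟨b, Subgroup.mem_sup_right (Subgroup.mem_zpowers b)⟩ : ↥(R ⊔ Subgroup.zpowers b))
      (R.subgroupOf (R ⊔ Subgroup.zpowers b)) (Q.subgroupOf (R ⊔ Subgroup.zpowers b)) := by
  have hRX : R ≤ R ⊔ Subgroup.zpowers b := le_sup_left
  have hQX : Q ≤ R ⊔ Subgroup.zpowers b := h.QR.trans le_sup_left
  refine
    { faith := ?_, b3 := ?_, rk := ?_, sq := ?_, cop := ?_, solv := ?_, bR := ?_, gen := ?_,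
      QR := ?_, Q4 := ?_, Q2 := ?_, bQ := ?_, bQ' := ?_ }
  · -- faith
    intro x _ hx
    have h3 := (m_faith ρ b R Q h).2.2
    have hx1 : (x : S) = 1 := by
      apply h3 (x : S) x.2
      intro v hv
      have := congrArg (fun f => ((f ⟨v, hv⟩ : ↥(comS ρ R)) : E)) hx
      simpa [resRep_apply] using this
    exact Subtype.ext hx1
  · -- b3
    apply Subtype.ext
    simp [h.b3]
  · -- rk
    rw [← h.rk]
    refine Nat.card_congr (Equiv.ofBijective
      (fun y => (⟨((y : ↥(comS ρ R)) : E), ?_⟩ : ↥(LinearMap.range (ρ b - 1)))) ⟨?_, ?_⟩)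
    · obtain ⟨v, hv⟩ := y.2
      refine ⟨(v : E), ?_⟩
      rw [← hv]
      exact (redset_coe_sub ρ _ _ hV
        ⟨b, Subgroup.mem_sup_right (Subgroup.mem_zpowers b)⟩ v).symm
    · intro y1 y2 hy
      have : ((y1 : ↥(comS ρ R)) : E) = ((y2 : ↥(comS ρ R)) : E) :=
        congrArg (fun z : ↥(LinearMap.range (ρ b - 1)) => (z : E)) hy
      exact Subtype.ext (Subtype.ext this)
    · intro z
      obtain ⟨e, he⟩ := z.2
      obtain ⟨w, hw, hew⟩ := redset_N_eq ρ b R Q h e
      refine ⟨⟨(resRep ρ _ _ hV ⟨b, Subgroup.mem_sup_right (Subgroup.mem_zpowers b)⟩ - 1) ⟨w, hw⟩,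
        LinearMap.mem_range_self _ _⟩, ?_⟩
      apply Subtype.ext
      show (((resRep ρ _ _ hV ⟨b, Subgroup.mem_sup_right (Subgroup.mem_zpowers b)⟩ - 1) ⟨w, hw⟩ :
        ↥(comS ρ R)) : E) = (z : E)
      rw [redset_coe_sub, ← he, hew]
  · -- sq
    obtain ⟨e, he⟩ := h.sq
    obtain ⟨w, hw, hew⟩ := redset_N_eq ρ b R Q h e
    refine ⟨⟨w, hw⟩, ?_⟩
    intro h0
    apply he
    have h1 := congrArg (fun y : ↥(comS ρ R) => (y : E)) h0
    simp only [redset_coe_sub, ZeroMemClass.coe_zero] at h1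
    rw [hew]
    exact h1
  · -- cop
    rw [Nat.card_congr (Subgroup.subgroupOfEquivOfLe hRX).toEquiv]
    exact h.cop
  · -- solv
    have := h.solv
    exact Group.isSolvable_of_isSolvable_injective
      (f := (Subgroup.subgroupOfEquivOfLe hRX).toMonoidHom)
      (Subgroup.subgroupOfEquivOfLe hRX).injective
  · -- bR
    intro r hr
    rw [Subgroup.mem_subgroupOf] at hr ⊢
    simpa using h.bR _ hr
  · -- gen
    intro M hM
    have hRM : R ≤ M.map (R ⊔ Subgroup.zpowers b).subtype := by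
      apply h.gen
      intro r hr
      refine ⟨_, hM ⟨r, hRX hr⟩ (by rw [Subgroup.mem_subgroupOf]; exact hr), ?_⟩
      simp
    intro x hx
    rw [Subgroup.mem_subgroupOf] at hx
    obtain ⟨y, hy, hyx⟩ := hRM hx
    have : y = x := Subtype.ext hyx
    rw [← this]
    exact hy
  · -- QR
    intro x hx
    rw [Subgroup.mem_subgroupOf] at hx ⊢
    exact h.QR hx
  · -- Q4
    rw [Nat.card_congr (Subgroup.subgroupOfEquivOfLe hQX).toEquiv]
    exact h.Q4
  · -- Q2
    intro q hq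
    rw [Subgroup.mem_subgroupOf] at hq
    apply Subtype.ext
    simpa using h.Q2 _ hq
  · -- bQ
    intro q hq
    rw [Subgroup.mem_subgroupOf] at hq ⊢
    simpa using h.bQ _ hq
  · -- bQ'
    obtain ⟨q, hq, hne⟩ := h.bQ'
    refine ⟨⟨q, hQX hq⟩, by rw [Subgroup.mem_subgroupOf]; exact hq, ?_⟩
    intro heq
    apply hne
    have := congrArg Subtype.val heq
    simpa using this

end Cfsg.Agent.Helper12.S15
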