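import Mathlib
import Cfsg.Agent.Lib.S15.S15Defs
import Cfsg.Agent.Lib.S15.MFAITH
import Cfsg.Agent.Lib.S15.REDSET
import Cfsg.Agent.Lib.S15.REDIRR

/-! S4415 block RED: restriction to `X = R ⊔ ⟨b⟩` acting on `V = [E,R]` gives a reduced setting. -/

set_option autoImplicit false

namespace Cfsg.Agent.Helper12.S15

theorem red_inv {S : Type*} [Group S] [Finite S] {E : Type*} [AddCommGroup E]
    [Module (ZMod 3) E] [Finite E] (ρ : Representation (ZMod 3) S E) (b : S) (R Q : Subgroup S)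
    (h : Setting ρ b R Q) :
    ∀ x ∈ R ⊔ Subgroup.zpowers b, ∀ v ∈ comS ρ R, ρ x v ∈ comS ρ R :=
  (m_faith ρ b R Q h).2.1

theorem red_main {S : Type*} [Group S] [Finite S] {E : Type*} [AddCommGroup E]
    [Module (ZMod 3) E] [Finite E] (ρ : Representation (ZMod 3) S E) (b : S) (R Q : Subgroup S)
    (h : Setting ρ b R Q) :
    RSetting (resRep ρ (R ⊔ Subgroup.zpowers b) (comS ρ R) (red_inv ρ b R Q h))
      (⟨b, Subgroup.mem_sup_right (Subgroup.mem_zpowers b)⟩ : ↥(R ⊔ Subgroup.zpowers b))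
      (R.subgroupOf (R ⊔ Subgroup.zpowers b)) (Q.subgroupOf (R ⊔ Subgroup.zpowers b)) :=
  { toSetting := red_setting ρ b R Q h (red_inv ρ b R Q h)
    irr := fun N hN => red_irr ρ b R Q h (red_inv ρ b R Q h) N hN }

end Cfsg.Agent.Helper12.S15
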