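import Mathlib
import Cfsg.Agent.Lib.S15.S15Defs
import Cfsg.Agent.Lib.S15.KMAIN
import Cfsg.Agent.Lib.S15.ECARD
import Cfsg.Agent.Lib.S15.E3MAIN
import Cfsg.Agent.Lib.S15.E4MAIN

/-! S4415: the structure of `R` in the reduced setting. -/

set_option autoImplicit false

namespace Cfsg.Agent.Helper12.S15

theorem rr_main {S : Type*} [Group S] [Finite S] {E : Type*} [AddCommGroup E]
    [Module (ZMod 3) E] [Finite E] (ρ : Representation (ZMod 3) S E) (b : S) (R Q : Subgroup S)
    (h : RSetting ρ b R Q) : RConcl R := by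
  have hS : Setting ρ b R Q := h.toSetting
  obtain ⟨h27, n, hn⟩ := e_card ρ b R Q hS
  have h81 := k_main ρ b R Q h
  have hcases : Nat.card E = 27 ∨ Nat.card E = 81 := by
    rw [hn] at h27 h81 ⊢
    have h3 : 3 ≤ n := by
      by_contra hlt
      push Not at hlt
      have : (3 : ℕ) ^ n ≤ 3 ^ 2 := Nat.pow_le_pow_right (by norm_num) (by omega)
      omega
    have h4 : n ≤ 4 := by
      by_contra hgt
      push Not at hgt
      have : (3 : ℕ) ^ 5 ≤ 3 ^ n := Nat.pow_le_pow_right (by norm_num) (by omega)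
      omega
    have : n = 3 ∨ n = 4 := by omega
    rcases this with rfl | rfl
    · left; norm_num
    · right; norm_num
  rcases hcases with hE | hE
  · left
    have hRQ := e3_main ρ b R Q h hE
    rw [hRQ]
    refine ⟨⟨⟨⟨fun x y => ?_⟩⟩, hS.Q2⟩, hS.Q4⟩
    have hx := hS.Q2 x.1 x.2
    have hy := hS.Q2 y.1 y.2
    have hxy := hS.Q2 (x.1 * y.1) (Q.mul_mem x.2 y.2)
    apply Subtype.ext
    show x.1 * y.1 = y.1 * x.1
    have h1 : x.1⁻¹ = x.1 := by
      rw [inv_eq_iff_mul_eq_one, ← pow_two]; exact hx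
    have h2 : y.1⁻¹ = y.1 := by
      rw [inv_eq_iff_mul_eq_one, ← pow_two]; exact hy
    have h3 : (x.1 * y.1)⁻¹ = x.1 * y.1 := by
      rw [inv_eq_iff_mul_eq_one, ← pow_two]; exact hxy
    rw [mul_inv_rev, h1, h2] at h3
    exact h3.symm
  · right
    exact e4_main ρ b R Q h hE

end Cfsg.Agent.Helper12.S15
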