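import Mathlib
import Cfsg.Agent.Lib.S15.S15Defs
import Cfsg.Agent.Lib.S15.GMAIN
import Cfsg.Agent.Lib.S15.MMAIN
import Cfsg.Agent.Lib.S15.REDMAIN
import Cfsg.Agent.Lib.S15.REDBACK
import Cfsg.Agent.Lib.S15.RRMAIN

/-! S4415: assembly of the blocks. -/

set_option autoImplicit false

namespace Cfsg.Agent.Helper12.S15

theorem r_main {S : Type*} [Group S] [Finite S] {E : Type*} [AddCommGroup E]
    [Module (ZMod 3) E] [Finite E] (ρ : Representation (ZMod 3) S E) (b : S) (R Q : Subgroup S)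
    (h : Setting ρ b R Q) : RConcl R := by
  have h1 := red_main ρ b R Q h
  have h2 := rr_main _ _ _ _ h1
  exact red_back R (R ⊔ Subgroup.zpowers b) le_sup_left h2

theorem s15_main {S : Type*} [Group S] [Finite S]
    [Group.IsSolvable S] {E : Type*} [AddCommGroup E] [Module (ZMod 3) E] [Finite E]
    (ρ : Representation (ZMod 3) S E)
    (hfaith : Function.Injective ρ) (hO3 : Cfsg.pCore 3 S = ⊥)
    (B : Subgroup S) (hB : Nat.card ↥B = 3) (b : S) (hb : Subgroup.zpowers b = B)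
    (E₀ E₁ : Submodule (ZMod 3) E) (hE01 : E₀ ⊓ E₁ = ⊥) (hE01' : E₀ ⊔ E₁ = ⊤)
    (hE1 : ∀ v ∈ E₁, ρ b v = v) (hE0inv : ∀ v ∈ E₀, ρ b v ∈ E₀) (hE0 : Nat.card ↥E₀ = 27)
    (hind : ∃ v ∈ E₀, ρ b (ρ b v - v) - (ρ b v - v) ≠ 0)
    (Q : Subgroup S) (hQ : Cfsg.IsElementaryAbelian 2 Q) (hQ4 : Nat.card ↥Q = 4)
    (hBQ : B ≤ Subgroup.normalizer (Q : Set S)) (hBQ' : ¬ B ≤ Subgroup.centralizer (Q : Set S))
    (P : Sylow 3 S)
    (hBZ : (Subgroup.center ↥(P : Subgroup S)).map (P : Subgroup S).subtype = B) :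
    RConcl ⁅Cfsg.pPrimeCore 3 S, B⁆ ∧ MConcl ρ ⁅Cfsg.pPrimeCore 3 S, B⁆ B := by
  have hS := g_main ρ hfaith hO3 B hB b hb E₀ E₁ hE01 hE01' hE1 hE0inv hE0 hind Q hQ hQ4 hBQ hBQ'
    P hBZ
  refine ⟨r_main ρ b _ Q hS, ?_⟩
  have := m_main ρ b _ Q hS
  rwa [hb] at this

end Cfsg.Agent.Helper12.S15
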